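import Cfsg.Agent.H302.NoComp
import Cfsg.Agent.SylowL5.LiftQuot

/-!
# Groups with a Sylow 2-subgroup `UT_5(2)` whose centre is central (helper302)
-/

set_option autoImplicit false

namespace Cfsg.Agent.H302

open Subgroup Cfsg
open Cfsg.Agent.SylowL.CompFacts

universe u

section
variable {Q : Type*} [Group Q] {u : V → Bool → Q}

theorem Cod.of_equiv {Q' : Type*} [Group Q'] (h : Cod Q u) (e : Q ≃* Q') :
    Cod Q' (fun v p => e (u v p)) := by
  refine ⟨fun a b p q => ?_, fun {a b p q} hab => h.inj (e.injective hab), fun g => ?_⟩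
  · rw [h.mul, map_mul]
  · obtain ⟨a, p, hap⟩ := h.surj (e.symm g)
    exact ⟨a, p, by rw [hap]; exact e.apply_symm_apply g⟩

theorem Cod.card_center (h : Cod Q u) : Nat.card (center Q) = 2 := by
  have h1 : Nat.card (center Q) = Nat.card Bool := by
    symm
    refine Nat.card_congr (Equiv.ofBijective (fun p => (⟨u H302.one p, (h.mem_center _ _).2 rfl⟩ : center Q)) ⟨?_, ?_⟩)
    · intro p q hpq
      exact (h.inj (congrArg Subtype.val hpq)).2
    · rintro ⟨g, hg⟩
      obtain ⟨a, p, rfl⟩ := h.surj g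
      have := (h.mem_center _ _).1 hg
      subst this
      exact ⟨p, rfl⟩
  rw [h1]
  simp

end

section
variable {H : Type u} [Group H] [Finite H] {T : Sylow 2 H} {u : V → Bool → (T : Subgroup H)}

/-- the centre of `T` as a subgroup of `H` -/
def ZT (T : Sylow 2 H) : Subgroup H := (center (T : Subgroup H)).map (T : Subgroup H).subtype

omit [Finite H] in
theorem mem_ZT {x : H} : x ∈ ZT T ↔ x ∈ (T : Subgroup H) ∧ ∀ t ∈ (T : Subgroup H), x * t = t * x := by
  constructor
  · rintro ⟨y, hy, rfl⟩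
    refine ⟨y.2, fun t ht => ?_⟩
    exact (congrArg Subtype.val (mem_center_iff.1 hy ⟨t, ht⟩)).symm
  · rintro ⟨hx, hc⟩
    exact ⟨⟨x, hx⟩, mem_center_iff.2 fun t => Subtype.ext (hc t t.2).symm, rfl⟩

omit [Finite H] in
theorem card_ZT (h : Cod (T : Subgroup H) u) : Nat.card (ZT T) = 2 := by
  rw [ZT, Subgroup.card_map_of_injective (T : Subgroup H).subtype_injective, h.card_center]

theorem normal_of_center (hG : GoldHyp.{u}) (hO : Cfsg.oddCore H = ⊥) (h : Cod (T : Subgroup H) u)
    (hZ : ZT T ≤ center H) {E : Subgroup H} (hE : E ≤ (T : Subgroup H)) (hZE : ZT T ≤ E)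
    (hE2 : ∀ x ∈ E, ∀ y ∈ E, x * y * x⁻¹ * y⁻¹ ∈ ZT T) (hEc : Nat.card E = 2 ^ 7) : E.Normal := by
  have f2 : Fact (Nat.Prime 2) := ⟨Nat.prime_two⟩
  set Z := ZT T with hZd
  have hZn : Z.Normal := ⟨fun z hz g => by
    have h1 := mem_center_iff.1 (hZ hz) g
    rw [h1, mul_inv_cancel_right]
    exact hz⟩
  have hZc : ∀ z ∈ Z, ∀ y : H, z * y = y * z := fun z hz y => (mem_center_iff.1 (hZ hz) y).symm
  set π := QuotientGroup.mk' Z with hπ
  have hπs : Function.Surjective π := QuotientGroup.mk'_surjective Z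
  have hmk : ∀ x y : H, π x = π y ↔ x⁻¹ * y ∈ Z := fun x y => QuotientGroup.eq
  have hmem : ∀ y : (T : Subgroup H), (y : H) ∈ Z ↔ y ∈ center (T : Subgroup H) := by
    intro y
    constructor
    · rintro ⟨y', hy', he⟩
      rwa [← Subtype.ext he]
    · intro hy
      exact ⟨y, hy, rfl⟩
  have hemb : Emb ((T.mapSurjective hπs : Sylow 2 (H ⧸ Z)) : Subgroup (H ⧸ Z)) (fun a => π (u a false)) := by
    refine ⟨?_, ?_, ?_, ?_⟩
    · intro a b
      rw [← map_mul, ← Subgroup.coe_mul, ← h.mul, hmk, h.mul_z (H302.mul a b) (_ ^^ _)]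
      have e : ((u (H302.mul a b) false : (T : Subgroup H)) : H)⁻¹ *
          ((u (H302.mul a b) false * u H302.one ((false ^^ false) ^^ ct a b) : (T : Subgroup H)) : H) =
          (u H302.one ((false ^^ false) ^^ ct a b) : (T : Subgroup H)) := by
        rw [Subgroup.coe_mul, inv_mul_cancel_left]
      rw [e, hmem, h.mem_center]
    · intro a b hab
      have hab' := (hmk _ _).1 hab
      have e : ((u a false : (T : Subgroup H)) : H)⁻¹ * (u b false : (T : Subgroup H)) =
          ((u a false)⁻¹ * u b false : (T : Subgroup H)) := rfl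
      rw [e, hmem] at hab'
      obtain ⟨c, r, hc⟩ := h.surj ((u a false)⁻¹ * u b false)
      rw [← hc, h.mem_center] at hab'
      rw [hab', eq_inv_mul_iff_mul_eq, ← h.mul_z] at hc
      exact (h.inj hc).1
    · intro a
      exact ⟨_, (u a false).2, rfl⟩
    · rintro _ ⟨x, hx, rfl⟩
      obtain ⟨a, p, hap⟩ := h.surj ⟨x, hx⟩
      refine ⟨a, ?_⟩
      have e : x = (u a p : (T : Subgroup H)) := (congrArg Subtype.val hap).symm
      change π _ = π x
      rw [e, hmk, h.mul_z a p, Subgroup.coe_mul, inv_mul_cancel_left, hmem, h.mem_center]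
  have hO' : Cfsg.oddCore (H ⧸ Z) = ⊥ := by
    rw [eq_bot_iff]
    intro x hx
    obtain ⟨y, rfl⟩ := hπs x
    have h1 := SylowL5.LiftQuot.comap_core_le hZc (T.2.to_le (fun z hz => (mem_ZT.1 hz).1)) (mem_comap.2 hx)
    have h2 : pPrimeCore 2 H = ⊥ := hO
    rw [h2, bot_sup_eq] at h1
    exact (QuotientGroup.eq_one_iff y).2 h1
  have hn := NC.A_normal hG hO' hemb
  have hEA : E.map π = hemb.A := by
    apply hemb.unique
    · rintro _ ⟨x, hx, rfl⟩
      exact ⟨x, hE hx, rfl⟩
    · refine ⟨⟨?_⟩⟩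
      rintro ⟨_, x, hx, rfl⟩ ⟨_, y, hy, rfl⟩
      apply Subtype.ext
      change π x * π y = π y * π x
      rw [← map_mul, ← map_mul, hmk]
      have e : (x * y)⁻¹ * (y * x) = y⁻¹ * x⁻¹ * y⁻¹⁻¹ * x⁻¹⁻¹ := by group
      rw [e]
      exact hE2 _ (inv_mem hy) _ (inv_mem hx)
    · have h1 : (π.comp E.subtype).range = E.map π := by
        rw [MonoidHom.range_comp, Subgroup.range_subtype]
      have h2 : (π.comp E.subtype).ker = Z.subgroupOf E := by
        ext x
        rw [MonoidHom.mem_ker, mem_subgroupOf]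
        exact QuotientGroup.eq_one_iff _
      have h3 := Subgroup.card_mul_index (π.comp E.subtype).ker
      rw [Subgroup.index_ker, h1, h2, Nat.card_congr (Subgroup.subgroupOfEquivOfLe hZE).toEquiv, card_ZT h, hEc] at h3
      omega
  have hE3 : E = (E.map π).comap π := by
    rw [Subgroup.comap_map_eq, QuotientGroup.ker_mk', sup_eq_left.2 hZE]
  rw [hE3, hEA]
  exact hn.comap π

end

end Cfsg.Agent.H302
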