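import Mathlib

/-!
# The group `UT_5(2)` modulo its centre: coordinates

`V` : nine Boolean coordinates `x_ij`, `(i, j) ≠ (1, 5)`; `mul` the product of matrices, `cm` the commutator.
`Emb S u` : `u` is an isomorphism from `V` onto the subgroup `S` (helper302; S3169-S3171).
-/

set_option autoImplicit false

namespace Cfsg.Agent.H302

/-- the codes of `UT_5(2)` modulo its centre -/
structure V where
  a12 : Bool
  a23 : Bool
  a34 : Bool
  a45 : Bool
  a13 : Bool
  a24 : Bool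
  a35 : Bool
  a14 : Bool
  a25 : Bool
  deriving DecidableEq

namespace V

theorem ext' {v w : V} (h12 : v.a12 = w.a12) (h23 : v.a23 = w.a23) (h34 : v.a34 = w.a34)
    (h45 : v.a45 = w.a45) (h13 : v.a13 = w.a13) (h24 : v.a24 = w.a24) (h35 : v.a35 = w.a35)
    (h14 : v.a14 = w.a14) (h25 : v.a25 = w.a25) : v = w := by
  cases v; cases w; simp_all

/-- the codes as a product -/
def eqv : V ≃ (Bool × Bool × Bool) × (Bool × Bool × Bool) × (Bool × Bool × Bool) where
  toFun v := ((v.a12, v.a23, v.a34), (v.a45, v.a13, v.a24), (v.a35, v.a14, v.a25))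
  invFun w := ⟨w.1.1, w.1.2.1, w.1.2.2, w.2.1.1, w.2.1.2.1, w.2.1.2.2, w.2.2.1, w.2.2.2.1, w.2.2.2.2⟩
  left_inv _ := rfl
  right_inv _ := rfl

instance instFintypeV : Fintype V := Fintype.ofEquiv _ eqv.symm

theorem card_V : Fintype.card V = 512 := by
  rw [Fintype.card_congr eqv]
  simp

end V

/-- the identity -/
def one : V := ⟨false, false, false, false, false, false, false, false, false⟩

/-- the product of matrices -/
def mul (a b : V) : V where
  a12 := a.a12 ^^ b.a12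
  a23 := a.a23 ^^ b.a23
  a34 := a.a34 ^^ b.a34
  a45 := a.a45 ^^ b.a45
  a13 := (a.a13 ^^ b.a13) ^^ (a.a12 && b.a23)
  a24 := (a.a24 ^^ b.a24) ^^ (a.a23 && b.a34)
  a35 := (a.a35 ^^ b.a35) ^^ (a.a34 && b.a45)
  a14 := (a.a14 ^^ b.a14) ^^ ((a.a13 && b.a34) ^^ (a.a12 && b.a24))
  a25 := (a.a25 ^^ b.a25) ^^ ((a.a24 && b.a45) ^^ (a.a23 && b.a35))

/-- the entry `15` of the product -/
def ct (a b : V) : Bool := ((a.a14 && b.a45) ^^ (a.a13 && b.a35)) ^^ (a.a12 && b.a25)

/-- the commutator -/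
def cm (s a : V) : V where
  a12 := false
  a23 := false
  a34 := false
  a45 := false
  a13 := (s.a12 && a.a23) ^^ (a.a12 && s.a23)
  a24 := (s.a23 && a.a34) ^^ (a.a23 && s.a34)
  a35 := (s.a34 && a.a45) ^^ (a.a34 && s.a45)
  a14 := ((s.a13 && a.a34) ^^ (s.a12 && a.a24)) ^^ ((a.a13 && s.a34) ^^ (a.a12 && s.a24)) ^^
    (((s.a12 && a.a23) ^^ (a.a12 && s.a23)) && (a.a34 ^^ s.a34))
  a25 := ((s.a24 && a.a45) ^^ (s.a23 && a.a35)) ^^ ((a.a24 && s.a45) ^^ (a.a23 && s.a35)) ^^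
    (((s.a23 && a.a34) ^^ (a.a23 && s.a34)) && (a.a45 ^^ s.a45))

theorem mul_cm (s a : V) : mul (cm s a) (mul a s) = mul s a := by
  obtain ⟨s12, s23, s34, s45, s13, s24, s35, s14, s25⟩ := s
  obtain ⟨t12, t23, t34, t45, t13, t24, t35, t14, t25⟩ := a
  have h1 : ∀ s12 t12 : Bool, (t12 ^^ s12) = (s12 ^^ t12) := by decide
  have h13 : ∀ s12 s23 s13 t12 t23 t13 : Bool,
      ((((s12 && t23) ^^ (t12 && s23)) ^^ ((t13 ^^ s13) ^^ (t12 && s23))) ^^ (false && (t23 ^^ s23))) =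
        ((s13 ^^ t13) ^^ (s12 && t23)) := by decide
  apply V.ext'
  · exact (Bool.false_xor _).trans (h1 _ _)
  · exact (Bool.false_xor _).trans (h1 _ _)
  · exact (Bool.false_xor _).trans (h1 _ _)
  · exact (Bool.false_xor _).trans (h1 _ _)
  · exact h13 _ _ _ _ _ _
  · exact h13 _ _ _ _ _ _
  · exact h13 _ _ _ _ _ _
  · simp only [mul, cm]
    revert s12 s23 s34 s13 s24 s14 t12 t23 t34 t13 t24 t14
    clear h1 h13
    decide +kernel
  · simp only [mul, cm]
    revert s45 s23 s34 s35 s24 s25 t45 t23 t34 t35 t24 t25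
    clear h1 h13
    decide +kernel

end Cfsg.Agent.H302
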