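import Cfsg.Agent.H302.Count
import Cfsg.Agent.UGT.FourB.Trans

/-!
# Essential subgroups of `UT_5(2)/Z` (helper302)

`A_le_of_ess`: every essential subgroup of a Sylow 2-subgroup isomorphic to `UT_5(2)/Z` contains `A`.
`isStronglyClosed`: `A` is strongly closed.
-/

set_option autoImplicit false

namespace Cfsg.Agent.H302

open Subgroup Cfsg.Agent.Lib.EssDefs Cfsg.Agent.Lib.EssBridge
open Cfsg.Agent.Lib.GoldschmidtFusion (map_conj_le_of_le_normalizer)

universe uu

abbrev c12 : V := ⟨true, false, false, false, false, false, false, false, false⟩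
abbrev c45 : V := ⟨false, false, false, true, false, false, false, false, false⟩
abbrev c13 : V := ⟨false, false, false, false, true, false, false, false, false⟩
abbrev c35 : V := ⟨false, false, false, false, false, false, true, false, false⟩
abbrev c14 : V := ⟨false, false, false, false, false, false, false, true, false⟩
abbrev c25 : V := ⟨false, false, false, false, false, false, false, false, true⟩

/-! ### Commutators -/

theorem cm_K {s k : V} (hk : pK k = true) : cm s k = one := by
  rw [pK_iff] at hk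
  obtain ⟨h1, h2, h3, h4, h5, h6, h7⟩ := hk
  apply V.ext' <;> simp [cm, one, h1, h2, h3, h4, h5, h6, h7]

theorem cm_K' {s k : V} (hk : pK k = true) : cm k s = one := by
  rw [pK_iff] at hk
  obtain ⟨h1, h2, h3, h4, h5, h6, h7⟩ := hk
  apply V.ext' <;> simp [cm, one, h1, h2, h3, h4, h5, h6, h7]

theorem pK_cm_I {s a : V} (ha : pI a = true) : pK (cm a s) = true := by
  rw [pI_iff] at ha
  obtain ⟨h1, h2, h3, h4, h5⟩ := ha
  rw [pK_iff]
  simp [cm, h1, h2, h4, h5]

theorem pI_cm_A {s a : V} (ha : pA a = true) : pI (cm a s) = true := by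
  rw [pA_iff] at ha
  obtain ⟨h1, h2, h3⟩ := ha
  rw [pI_iff]
  simp [cm, h1, h2]

theorem pK_cm_M {s w : V} (hw : pM w = true) : pK (cm s w) = true := by
  rw [pM_iff] at hw
  obtain ⟨h1, h2, h3, h4⟩ := hw
  rw [pK_iff]
  simp [cm, h1, h2, h3, h4]

theorem cm_AA {a b : V} (ha : pA a = true) (hb : pA b = true) : cm a b = one := by
  rw [pA_iff] at ha hb
  obtain ⟨h1, h2, h3⟩ := ha
  obtain ⟨k1, k2, k3⟩ := hb
  apply V.ext' <;> simp [cm, one, h1, h2, h3, k1, k2, k3]

theorem cm_IM {a w : V} (ha : pI a = true) (h23 : w.a23 = false) (h34 : w.a34 = false) : cm a w = one := by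
  rw [pI_iff] at ha
  obtain ⟨h1, h2, h3, h4, h5⟩ := ha
  apply V.ext' <;> simp [cm, one, h1, h2, h3, h4, h5, h23, h34]

/-- two different non-trivial commutators -/
theorem exists_two {x w : V} (h23 : x.a23 = true) (h34 : x.a34 = true) (hw : pM w ≠ true) :
    ∃ s s' : V, (s = x ∨ s = mul x x ∨ s = c13 ∨ s = c35) ∧ (s' = x ∨ s' = mul x x ∨ s' = c13 ∨ s' = c35) ∧
      cm s w ≠ one ∧ cm s' w ≠ one ∧ cm s w ≠ cm s' w := by
  obtain ⟨s12, s23, s34, s45, s13, s24, s35, s14, s25⟩ := x
  simp only at h23 h34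
  subst h23 h34
  obtain ⟨w12, w23, w34, w45, w13, w24, w35, w14, w25⟩ := w
  rcases w23 with _ | _ <;> rcases w34 with _ | _
  · -- both zero
    rw [Ne, pM_iff] at hw
    simp only [true_and, not_and, Bool.not_eq_false] at hw
    refine ⟨_, _, Or.inl rfl, Or.inr (Or.inl rfl), ?_, ?_, ?_⟩
    · intro h
      have e1 := congrArg V.a13 h
      have e2 := congrArg V.a35 h
      simp [cm, one] at e1 e2
      simp [e1, e2] at hw
    · intro h
      have e1 := congrArg V.a14 h
      have e2 := congrArg V.a25 h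
      simp [cm, one, mul] at e1 e2
      simp [e1, e2] at hw
    · intro h
      have e1 := congrArg V.a13 h
      have e2 := congrArg V.a35 h
      simp [cm, mul] at e1 e2
      simp [e1, e2] at hw
  · refine ⟨c13, _, Or.inr (Or.inr (Or.inl rfl)), Or.inl rfl, ?_, ?_, ?_⟩
    · intro h
      have e1 := congrArg V.a14 h
      simp [cm, one] at e1
    · intro h
      have e1 := congrArg V.a24 h
      simp [cm, one] at e1
    · intro h
      have e1 := congrArg V.a24 h
      simp [cm] at e1
  · refine ⟨c35, _, Or.inr (Or.inr (Or.inr rfl)), Or.inl rfl, ?_, ?_, ?_⟩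
    · intro h
      have e1 := congrArg V.a25 h
      simp [cm, one] at e1
    · intro h
      have e1 := congrArg V.a24 h
      simp [cm, one] at e1
    · intro h
      have e1 := congrArg V.a24 h
      simp [cm] at e1
  · refine ⟨c13, c35, Or.inr (Or.inr (Or.inl rfl)), Or.inr (Or.inr (Or.inr rfl)), ?_, ?_, ?_⟩
    · intro h
      have e1 := congrArg V.a14 h
      simp [cm, one] at e1
    · intro h
      have e1 := congrArg V.a25 h
      simp [cm, one] at e1
    · intro h
      have e1 := congrArg V.a14 h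
      simp [cm] at e1

/-! ### Group level -/

section
variable {G : Type uu} [Group G] {S : Subgroup G} {u : V → G}

theorem Emb.commute (h : Emb S u) {a b : V} (hab : cm a b = H302.one) : u a * u b = u b * u a := by
  have h1 := h.comm a b
  rw [hab, h.one] at h1
  calc u a * u b = (u a * u b * (u a)⁻¹ * (u b)⁻¹) * (u b * u a) := by group
    _ = u b * u a := by rw [h1, one_mul]

theorem Emb.cm_of_commute (h : Emb S u) {a b : V} (hab : u a * u b = u b * u a) : cm a b = H302.one := by
  apply h.inj
  rw [h.one, ← h.comm, hab]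
  group

/-- the centre of `X` is invariant -/
theorem normalizer_le_center (X : Subgroup G) :
    normalizer (X : Set G) ≤ normalizer ((X ⊓ centralizer (X : Set G) : Subgroup G) : Set G) := by
  have key : ∀ n ∈ normalizer (X : Set G), ∀ z ∈ X ⊓ centralizer (X : Set G),
      n * z * n⁻¹ ∈ X ⊓ centralizer (X : Set G) := by
    rintro n hn z ⟨hz, hz'⟩
    refine ⟨(mem_normalizer_iff.1 hn z).1 hz, mem_centralizer_iff.2 ?_⟩
    intro x hx
    have h4 : n⁻¹ * x * n ∈ X := (mem_normalizer_iff''.1 hn x).1 hx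
    have h5 := mem_centralizer_iff.1 hz' _ h4
    calc x * (n * z * n⁻¹) = n * (n⁻¹ * x * n * z) * n⁻¹ := by group
      _ = n * (z * (n⁻¹ * x * n)) * n⁻¹ := by rw [h5]
      _ = n * z * n⁻¹ * x := by group
  intro n hn
  rw [mem_normalizer_iff]
  intro z
  refine ⟨key n hn z, fun hz => ?_⟩
  have := key n⁻¹ (inv_mem hn) _ hz
  simpa [mul_assoc] using this

theorem mem_normalizer_of_comm [Finite G] {X : Subgroup G} {a : G} (ha : ∀ x ∈ X, a * x * a⁻¹ * x⁻¹ ∈ X) :
    a ∈ normalizer (X : Set G) := by
  apply Subgroup.mem_normalizer_fintype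
  intro x hx
  have := mul_mem (ha x hx) hx
  simpa using this

variable [Finite G] {X H : Subgroup G}

theorem K_mem (h : Emb S u) (hX : IsEss 2 S X H) {k : V} (hk : pK k = true) : u k ∈ X := by
  apply hX.cent
  refine ⟨mem_centralizer_iff.2 ?_, h.mem k⟩
  intro x hx
  obtain ⟨v, rfl⟩ := h.surj x (hX.lt.le hx)
  exact (h.commute (cm_K' hk)).symm

/-- the case of an elementary abelian image in `S / A` -/
theorem elem_case (hS : IsPGroup 2 S) (h : Emb S u) (hX : IsEss 2 S X H) (pX pB pK1 : V → Bool) (zc : V)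
    (hpX : ∀ v, u v ∈ X → pX v = true) (hBA : ∀ a, pB a = true → pA a = true)
    (hα : ∀ s a, pX s = true → pB a = true → cm a s = H302.one ∨ cm a s = zc)
    (hβ : ∀ s a, pX s = true → pA a = true → pK1 (cm a s) = true)
    (hγ : ∀ s k, pX s = true → pK1 k = true → cm k s = H302.one)
    (hδ : pK zc = true)
    (hε : ∀ w, pX w = true → pA w ≠ true → ∃ a1 a2, pA a1 = true ∧ pA a2 = true ∧ cm a1 w ≠ H302.one ∧
      cm a2 w ≠ H302.one ∧ cm (mul a1 a2) w ≠ H302.one)
    (hζ : ∀ a b, pA a = true → pA b = true → pB a ≠ true → pB b ≠ true → pB (mul a b) = true) :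
    h.A ≤ X := by
  have hXS := hX.lt.le
  have hcode : ∀ x ∈ X, ∃ v, pX v = true ∧ u v = x := by
    intro x hx
    obtain ⟨v, rfl⟩ := h.surj x (hXS hx)
    exact ⟨v, hpX v hx, rfl⟩
  have hK1c : ∀ k, pK1 k = true → u k ∈ centralizer (X : Set G) := by
    intro k hk
    rw [mem_centralizer_iff]
    intro x hx
    obtain ⟨v, hv, rfl⟩ := hcode x hx
    exact (h.commute (hγ v k hv hk)).symm
  have hK1X : ∀ k, pK1 k = true → u k ∈ X := fun k hk => hX.cent ⟨hK1c k hk, h.mem k⟩
  have hAN : ∀ a, pA a = true → u a ∈ normalizer (X : Set G) := by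
    intro a ha
    apply mem_normalizer_of_comm
    intro x hx
    obtain ⟨v, hv, rfl⟩ := hcode x hx
    rw [h.comm]
    exact hK1X _ (hβ v a hv ha)
  have hAA : ∀ a b, pA a = true → pA b = true → u a * u b = u b * u a := fun a b ha hb =>
    h.commute (cm_AA ha hb)
  have hsq : ∀ a, pA a = true → u a * u a = 1 := by
    intro a ha
    rw [← h.mul, mul_self_A a ha, h.one]
  have hpA_zc : pA zc = true := by
    rw [pK_iff] at hδ
    rw [pA_iff]
    exact ⟨hδ.1, hδ.2.1, hδ.2.2.1⟩
  -- transvections
  have step1 : ∀ a, pB a = true → u a ∉ X → ∀ y, pA y = true → u y ∈ X ∨ u (mul a y) ∈ X := by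
    intro a ha haX y hy
    by_contra hcon
    push Not at hcon
    obtain ⟨hyX, hayX⟩ := hcon
    have haA := hBA a ha
    have htr : Cfsg.Agent.UGT.FourB.Trans.Tr X (u a) (u zc) := by
      refine ⟨hAN a haA, K_mem h hX hδ, hsq zc hpA_zc, ?_, hAA _ _ haA hpA_zc, ?_⟩
      · intro x hx
        obtain ⟨v, hv, rfl⟩ := hcode x hx
        exact h.commute (cm_K' hδ)
      · intro x hx
        obtain ⟨v, hv, rfl⟩ := hcode x hx
        have h1 := h.comm a v
        rcases hα v a hv ha with h2 | h2
        · left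
          rw [h2, h.one] at h1
          exact mul_inv_eq_one.1 h1
        · right
          rw [h2] at h1
          exact mul_inv_eq_iff_eq_mul.1 h1
    refine Cfsg.Agent.UGT.FourB.Trans.no_four hX htr (h.mem a) haX (h.mem y) (hAN y hy) hyX ?_ ?_ ?_ ?_
    · rw [hsq y hy]; exact one_mem _
    · rw [h.comm, cm_AA hy haA, h.one]; exact one_mem _
    · rwa [← h.mul]
    · rw [hsq a haA]; exact one_mem _
  by_contra hcon
  obtain ⟨_, ⟨a0, ha0, rfl⟩, ha0X⟩ := SetLike.not_le_iff_exists.1 hcon
  -- an element of `A - X` with `|A : A ∩ X| = 2`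
  obtain ⟨a, haA, haX, hidx⟩ : ∃ a, pA a = true ∧ u a ∉ X ∧ ∀ y, pA y = true → u y ∈ X ∨ u (mul a y) ∈ X := by
    by_cases hB : ∃ a, pB a = true ∧ u a ∉ X
    · obtain ⟨a, ha, haX⟩ := hB
      exact ⟨a, hBA a ha, haX, step1 a ha haX⟩
    · push Not at hB
      refine ⟨a0, ha0, ha0X, fun y hy => ?_⟩
      by_cases hyB : pB y = true
      · exact Or.inl (hB y hyB)
      · refine Or.inr (hB _ (hζ a0 y ha0 hy ?_ hyB))
        intro h1
        exact ha0X (hB a0 h1)
  -- the centre of `X` lies in `A`
  have hZA : ∀ w, u w ∈ X → u w ∈ centralizer (X : Set G) → pA w = true := by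
    intro w hwX hwC
    by_contra hcon
    obtain ⟨a1, a2, h1, h2, n1, n2, n12⟩ := hε w (hpX w hwX) hcon
    have hno : ∀ b, cm b w ≠ H302.one → u b ∉ X := by
      intro b hb hbX
      exact hb (h.cm_of_commute (mem_centralizer_iff.1 hwC _ hbX))
    have m1 := (hidx a1 h1).resolve_left (hno a1 n1)
    have m2 := (hidx a2 h2).resolve_left (hno a2 n2)
    apply hno _ n12
    have e : u (mul a1 a2) = u (mul a a1) * u (mul a a2) := by
      rw [h.mul, h.mul, h.mul]
      calc u a1 * u a2 = (u a * u a) * (u a1 * u a2) := by rw [hsq a haA, one_mul]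
        _ = u a * (u a * u a1) * u a2 := by group
        _ = u a * (u a1 * u a) * u a2 := by rw [hAA a a1 haA h1]
        _ = u a * u a1 * (u a * u a2) := by group
    rw [e]
    exact mul_mem m1 m2
  apply haX
  have f2 : Fact (Nat.Prime 2) := ⟨Nat.prime_two⟩
  obtain ⟨D, hD⟩ : ∃ D : ℕ → Subgroup G, D = fun n => if n = 0 then X else
    if n = 1 then X ⊓ centralizer (X : Set G) else ⊥ := ⟨_, rfl⟩
  refine Cfsg.Agent.Hex.SE.mem_of_chain hS hX D (k := 2) (by rw [hD]; rfl) (by rw [hD]; rfl) ?_ ?_ (h.mem a)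
    (hAN a haA) ?_
  · intro i
    rw [hD]
    rcases i with _ | _ | i
    · exact inf_le_left
    · exact bot_le
    · exact le_rfl
  · intro n hn i d hd
    rw [hD] at hd ⊢
    rcases i with _ | _ | i
    · exact (mem_normalizer_iff.1 hn d).1 hd
    · exact (mem_normalizer_iff.1 (normalizer_le_center X hn) d).1 hd
    · have hd1 : d = 1 := hd
      have : n * d * n⁻¹ = 1 := by rw [hd1]; group
      exact this
  · intro i d hd
    rw [hD] at hd ⊢
    rcases i with _ | _ | i
    · obtain ⟨v, hv, rfl⟩ := hcode d hd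
      change u a * u v * (u a)⁻¹ * (u v)⁻¹ ∈ X ⊓ centralizer (X : Set G)
      rw [h.comm]
      exact ⟨hK1X _ (hβ v a hv haA), hK1c _ (hβ v a hv haA)⟩
    · obtain ⟨w, hw, rfl⟩ := hcode d hd.1
      change u a * u w * (u a)⁻¹ * (u w)⁻¹ = 1
      rw [hAA a w haA (hZA w hd.1 hd.2)]
      group
    · have hd1 : d = 1 := hd
      have : u a * d * (u a)⁻¹ * d⁻¹ = 1 := by rw [hd1]; group
      exact this

/-- case (i): `X` is contained in `⟨A, x23, x24⟩` -/
theorem case_one (hS : IsPGroup 2 S) (h : Emb S u) (hX : IsEss 2 S X H)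
    (hpX : ∀ v, u v ∈ X → v.a34 = false) : h.A ≤ X := by
  refine elem_case hS h hX (fun v => !v.a34) (fun v => pA v && !v.a12)
    (fun v => (pA v && !v.a12) && (!v.a45 && !v.a35)) c25 ?_ ?_ ?_ ?_ ?_ (by decide) ?_ ?_
  · intro v hv
    simp [hpX v hv]
  · intro a ha
    rw [Bool.and_eq_true] at ha
    exact ha.1
  · intro s a hs ha
    rw [Bool.and_eq_true, pA_iff] at ha
    simp only [Bool.not_eq_true'] at hs ha
    obtain ⟨⟨h1, h2, h3⟩, h4⟩ := ha
    by_cases h5 : ((a.a45 && s.a24) ^^ (a.a35 && s.a23)) = true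
    · right
      apply V.ext' <;> simp [cm, h1, h2, h3, h4, hs]
      revert h5
      generalize a.a45 = p; generalize s.a24 = q; generalize a.a35 = r; generalize s.a23 = t
      revert p q r t
      decide
    · left
      apply V.ext' <;> simp [cm, one, h1, h2, h3, h4, hs]
      revert h5
      generalize a.a45 = p; generalize s.a24 = q; generalize a.a35 = r; generalize s.a23 = t
      revert p q r t
      decide
  · intro s a hs ha
    rw [pA_iff] at ha
    simp only [Bool.not_eq_true'] at hs
    obtain ⟨h1, h2, h3⟩ := ha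
    simp [pA, cm, h1, h2, hs]
  · intro s k hs hk
    simp only [Bool.not_eq_true', Bool.and_eq_true, pA_iff] at hs hk
    obtain ⟨⟨⟨h1, h2, h3⟩, h4⟩, h5, h6⟩ := hk
    apply V.ext' <;> simp [cm, one, h1, h2, h3, h4, h5, h6, hs]
  · intro w hw hwA
    simp only [Bool.not_eq_true'] at hw
    rw [Ne, pA_iff] at hwA
    obtain ⟨w12, w23, w34, w45, w13, w24, w35, w14, w25⟩ := w
    simp only at hw hwA
    subst hw
    rcases w23 with _ | _
    · have h24 : w24 = true := by simpa using hwA
      subst h24
      refine ⟨c12, c45, by decide, by decide, ?_, ?_, ?_⟩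
      · intro h1; have := congrArg V.a14 h1; simp [cm, one] at this
      · intro h1; have := congrArg V.a25 h1; simp [cm, one] at this
      · intro h1; have := congrArg V.a14 h1; simp [cm, one, mul] at this
    · refine ⟨c12, c35, by decide, by decide, ?_, ?_, ?_⟩
      · intro h1; have := congrArg V.a13 h1; simp [cm, one] at this
      · intro h1; have := congrArg V.a25 h1; simp [cm, one] at this
      · intro h1; have := congrArg V.a13 h1; simp [cm, one, mul] at this
  · intro a b ha hb hBa hBb
    have h3 := pA_mul a b ha hb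
    rw [ha, Bool.true_and] at hBa
    rw [hb, Bool.true_and] at hBb
    rw [h3, Bool.true_and]
    have h1 : a.a12 = true := by simpa using hBa
    have h2 : b.a12 = true := by simpa using hBb
    simp [mul, h1, h2]

/-- case (ii): `X` is contained in `⟨A, x34, x24⟩` -/
theorem case_two (hS : IsPGroup 2 S) (h : Emb S u) (hX : IsEss 2 S X H)
    (hpX : ∀ v, u v ∈ X → v.a23 = false) : h.A ≤ X := by
  refine elem_case hS h hX (fun v => !v.a23) (fun v => pA v && !v.a45)
    (fun v => (pA v && !v.a12) && (!v.a45 && !v.a13)) c14 ?_ ?_ ?_ ?_ ?_ (by decide) ?_ ?_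
  · intro v hv
    simp [hpX v hv]
  · intro a ha
    rw [Bool.and_eq_true] at ha
    exact ha.1
  · intro s a hs ha
    rw [Bool.and_eq_true, pA_iff] at ha
    simp only [Bool.not_eq_true'] at hs ha
    obtain ⟨⟨h1, h2, h3⟩, h4⟩ := ha
    by_cases h5 : ((a.a12 && s.a24) ^^ (a.a13 && s.a34)) = true
    · right
      apply V.ext' <;> simp [cm, h1, h2, h3, h4, hs]
      revert h5
      generalize a.a12 = p; generalize s.a24 = q; generalize a.a13 = r; generalize s.a34 = t
      revert p q r t
      decide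
    · left
      apply V.ext' <;> simp [cm, one, h1, h2, h3, h4, hs]
      revert h5
      generalize a.a12 = p; generalize s.a24 = q; generalize a.a13 = r; generalize s.a34 = t
      revert p q r t
      decide
  · intro s a hs ha
    rw [pA_iff] at ha
    simp only [Bool.not_eq_true'] at hs
    obtain ⟨h1, h2, h3⟩ := ha
    simp [pA, cm, h1, h2, hs]
  · intro s k hs hk
    simp only [Bool.not_eq_true', Bool.and_eq_true, pA_iff] at hs hk
    obtain ⟨⟨⟨h1, h2, h3⟩, h4⟩, h5, h6⟩ := hk
    apply V.ext' <;> simp [cm, one, h1, h2, h3, h4, h5, h6, hs]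
  · intro w hw hwA
    simp only [Bool.not_eq_true'] at hw
    rw [Ne, pA_iff] at hwA
    obtain ⟨w12, w23, w34, w45, w13, w24, w35, w14, w25⟩ := w
    simp only at hw hwA
    subst hw
    rcases w34 with _ | _
    · have h24 : w24 = true := by simpa using hwA
      subst h24
      refine ⟨c12, c45, by decide, by decide, ?_, ?_, ?_⟩
      · intro h1; have := congrArg V.a14 h1; simp [cm, one] at this
      · intro h1; have := congrArg V.a25 h1; simp [cm, one] at this
      · intro h1; have := congrArg V.a14 h1; simp [cm, one, mul] at this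
    · refine ⟨c45, c13, by decide, by decide, ?_, ?_, ?_⟩
      · intro h1; have := congrArg V.a35 h1; simp [cm, one] at this
      · intro h1; have := congrArg V.a14 h1; simp [cm, one] at this
      · intro h1; have := congrArg V.a35 h1; simp [cm, one, mul] at this
  · intro a b ha hb hBa hBb
    have h3 := pA_mul a b ha hb
    rw [ha, Bool.true_and] at hBa
    rw [hb, Bool.true_and] at hBb
    rw [h3, Bool.true_and]
    have h1 : a.a45 = true := by simpa using hBa
    have h2 : b.a45 = true := by simpa using hBb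
    simp [mul, h1, h2]

end

end Cfsg.Agent.H302
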