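import Cfsg.Agent.SylowL.GoldHypOf
import Cfsg.Agent.TwoFusion.GoldFinal
import Cfsg.Agent.S1174

/-!
# `GoldHyp` without hypotheses (helper302)
-/

set_option autoImplicit false

namespace Cfsg.Agent.H302

universe u

/-- **Goldschmidt's theorem**, elementary abelian case, in the form `GoldHyp` -/
theorem goldHyp : Cfsg.Agent.SylowL.CompFacts.GoldHyp.{u} := by
  apply Cfsg.Agent.SylowL.GoldHypOf.goldHyp_of
  intro L _ _ hL hna
  exact Cfsg.Agent.TwoFusion.GoldFinal.tprop
    (fun K _ _ hK => by
      have := hK
      intro T B hB hBT hprop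
      exact Cfsg.Agent.S1174.result T B hB hBT hprop) L hL hna

end Cfsg.Agent.H302
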