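import Cfsg.Agent.Schreier.MTwentyFourSyl
import Cfsg.Agent.H302.Codes

/-!
# Coordinates on a Sylow 2-subgroup of `M24` and on its quotient by the centre (helper302)
-/

set_option autoImplicit false

namespace Cfsg.Agent.H302

open Cfsg Cfsg.Agent.SporadicStructure.M24El Cfsg.Agent.Schreier.MTwentyFourSyl

/-- `u` is an isomorphism from the codes onto the subgroup `S` -/
structure Emb {G : Type*} [Group G] (S : Subgroup G) (u : V → G) : Prop where
  mul : ∀ a b, u (H302.mul a b) = u a * u b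
  inj : Function.Injective u
  mem : ∀ a, u a ∈ S
  surj : ∀ g ∈ S, ∃ a, u a = g

namespace M24Syl

/-- the product of a word in the ten involutions -/
noncomputable def W (l : List ℕ) : M24 := (l.map fun i => el (gl.getD i idP)).prod

theorem W_append (l l' : List ℕ) : W (l ++ l') = W l * W l' := by
  unfold W
  rw [List.map_append, List.prod_append]

theorem W_eq {l l' : List ℕ} (h : Nat.beq (prodW gl l) (prodW gl l') = true) : W l = W l' := by
  have h1 := congrArg el (Nat.eq_of_beq_eq_true h)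
  rw [el_prodW gl_ok, el_prodW gl_ok] at h1
  exact h1

/-- optional letter -/
def o (b : Bool) (i : ℕ) : List ℕ := if b then [i] else []

/-- the rows -/
def w4 (t : Bool) : List ℕ := o t 9
def w3 (p q : Bool) : List ℕ := o p 8 ++ o q 5
def w2 (p q r : Bool) : List ℕ := o p 7 ++ (o q 4 ++ o r 2)
def w1 (p q r s : Bool) : List ℕ := o p 6 ++ (o q 3 ++ (o r 1 ++ o s 0))

theorem k44 : ∀ t t' : Bool, Nat.beq (prodW gl (w4 t ++ w4 t')) (prodW gl (w4 (t ^^ t'))) = true := by
  decide +kernel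
theorem k33 : ∀ p q p' q' : Bool, Nat.beq (prodW gl (w3 p q ++ w3 p' q'))
    (prodW gl (w3 (p ^^ p') (q ^^ q'))) = true := by
  decide +kernel
theorem k22 : ∀ p q r p' q' r' : Bool, Nat.beq (prodW gl (w2 p q r ++ w2 p' q' r'))
    (prodW gl (w2 (p ^^ p') (q ^^ q') (r ^^ r'))) = true := by
  decide +kernel
theorem k11 : ∀ p q r s p' q' r' s' : Bool, Nat.beq (prodW gl (w1 p q r s ++ w1 p' q' r' s'))
    (prodW gl (w1 (p ^^ p') (q ^^ q') (r ^^ r') (s ^^ s'))) = true := by
  decide +kernel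
theorem k34 : ∀ p q t : Bool, Nat.beq (prodW gl (w3 p q ++ w4 t))
    (prodW gl (w4 t ++ w3 p (q ^^ (p && t)))) = true := by
  decide +kernel
theorem k24 : ∀ p q r t : Bool, Nat.beq (prodW gl (w2 p q r ++ w4 t))
    (prodW gl (w4 t ++ w2 p q (r ^^ (q && t)))) = true := by
  decide +kernel
theorem k14 : ∀ p q r s t : Bool, Nat.beq (prodW gl (w1 p q r s ++ w4 t))
    (prodW gl (w4 t ++ w1 p q r (s ^^ (r && t)))) = true := by
  decide +kernel
theorem k23 : ∀ p q r a b : Bool, Nat.beq (prodW gl (w2 p q r ++ w3 a b))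
    (prodW gl (w3 a b ++ w2 p (q ^^ (p && a)) (r ^^ (p && b)))) = true := by
  decide +kernel
theorem k13 : ∀ p q r s a b : Bool, Nat.beq (prodW gl (w1 p q r s ++ w3 a b))
    (prodW gl (w3 a b ++ w1 p q (r ^^ (q && a)) (s ^^ (q && b)))) = true := by
  decide +kernel
theorem k12 : ∀ p q r s a b c : Bool, Nat.beq (prodW gl (w1 p q r s ++ w2 a b c))
    (prodW gl (w2 a b c ++ w1 p (q ^^ (p && a)) (r ^^ (p && b)) (s ^^ (p && c)))) = true := by
  decide +kernel

/-- the element with given coordinates -/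
noncomputable def phi (v : V) (p : Bool) : M24 :=
  W (w4 v.a45) * (W (w3 v.a34 v.a35) * (W (w2 v.a23 v.a24 v.a25) * W (w1 v.a12 v.a13 v.a14 p)))

theorem phi_mul (v w : V) (p q : Bool) :
    phi (H302.mul v w) ((p ^^ q) ^^ ct v w) = phi v p * phi w q := by
  obtain ⟨a12, a23, a34, a45, a13, a24, a35, a14, a25⟩ := v
  obtain ⟨b12, b23, b34, b45, b13, b24, b35, b14, b25⟩ := w
  simp only [phi, H302.mul, ct]
  have e14 : W (w1 a12 a13 a14 p) * W (w4 b45) = W (w4 b45) * W (w1 a12 a13 a14 (p ^^ (a14 && b45))) := by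
    rw [← W_append, ← W_append]; exact W_eq (k14 _ _ _ _ _)
  have e24 : W (w2 a23 a24 a25) * W (w4 b45) = W (w4 b45) * W (w2 a23 a24 (a25 ^^ (a24 && b45))) := by
    rw [← W_append, ← W_append]; exact W_eq (k24 _ _ _ _)
  have e34 : W (w3 a34 a35) * W (w4 b45) = W (w4 b45) * W (w3 a34 (a35 ^^ (a34 && b45))) := by
    rw [← W_append, ← W_append]; exact W_eq (k34 _ _ _)
  have e13 : W (w1 a12 a13 a14 (p ^^ (a14 && b45))) * W (w3 b34 b35) =
      W (w3 b34 b35) * W (w1 a12 a13 (a14 ^^ (a13 && b34)) ((p ^^ (a14 && b45)) ^^ (a13 && b35))) := by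
    rw [← W_append, ← W_append]; exact W_eq (k13 _ _ _ _ _ _)
  have e23 : W (w2 a23 a24 (a25 ^^ (a24 && b45))) * W (w3 b34 b35) =
      W (w3 b34 b35) * W (w2 a23 (a24 ^^ (a23 && b34)) ((a25 ^^ (a24 && b45)) ^^ (a23 && b35))) := by
    rw [← W_append, ← W_append]; exact W_eq (k23 _ _ _ _ _)
  have e12 : W (w1 a12 a13 (a14 ^^ (a13 && b34)) ((p ^^ (a14 && b45)) ^^ (a13 && b35))) *
      W (w2 b23 b24 b25) = W (w2 b23 b24 b25) * W (w1 a12 (a13 ^^ (a12 && b23))
        ((a14 ^^ (a13 && b34)) ^^ (a12 && b24))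
        (((p ^^ (a14 && b45)) ^^ (a13 && b35)) ^^ (a12 && b25))) := by
    rw [← W_append, ← W_append]; exact W_eq (k12 _ _ _ _ _ _ _)
  have f4 : W (w4 a45) * W (w4 b45) = W (w4 (a45 ^^ b45)) := by
    rw [← W_append]; exact W_eq (k44 _ _)
  have f3 : W (w3 a34 (a35 ^^ (a34 && b45))) * W (w3 b34 b35) =
      W (w3 (a34 ^^ b34) ((a35 ^^ (a34 && b45)) ^^ b35)) := by
    rw [← W_append]; exact W_eq (k33 _ _ _ _)
  have f2 : W (w2 a23 (a24 ^^ (a23 && b34)) ((a25 ^^ (a24 && b45)) ^^ (a23 && b35))) *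
      W (w2 b23 b24 b25) = W (w2 (a23 ^^ b23) ((a24 ^^ (a23 && b34)) ^^ b24)
        (((a25 ^^ (a24 && b45)) ^^ (a23 && b35)) ^^ b25)) := by
    rw [← W_append]; exact W_eq (k22 _ _ _ _ _ _)
  have f1 : W (w1 a12 (a13 ^^ (a12 && b23)) ((a14 ^^ (a13 && b34)) ^^ (a12 && b24))
        (((p ^^ (a14 && b45)) ^^ (a13 && b35)) ^^ (a12 && b25))) * W (w1 b12 b13 b14 q) =
      W (w1 (a12 ^^ b12) ((a13 ^^ (a12 && b23)) ^^ b13) (((a14 ^^ (a13 && b34)) ^^ (a12 && b24)) ^^ b14)
        ((((p ^^ (a14 && b45)) ^^ (a13 && b35)) ^^ (a12 && b25)) ^^ q)) := by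
    rw [← W_append]; exact W_eq (k11 _ _ _ _ _ _ _ _)
  have g35 : ((a35 ^^ (a34 && b45)) ^^ b35) = ((a35 ^^ b35) ^^ (a34 && b45)) := by
    cases a35 <;> cases b35 <;> cases (a34 && b45) <;> rfl
  have g24 : ((a24 ^^ (a23 && b34)) ^^ b24) = ((a24 ^^ b24) ^^ (a23 && b34)) := by
    cases a24 <;> cases b24 <;> cases (a23 && b34) <;> rfl
  have g25 : (((a25 ^^ (a24 && b45)) ^^ (a23 && b35)) ^^ b25) =
      ((a25 ^^ b25) ^^ ((a24 && b45) ^^ (a23 && b35))) := by
    cases a25 <;> cases b25 <;> cases (a24 && b45) <;> cases (a23 && b35) <;> rfl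
  have g13 : ((a13 ^^ (a12 && b23)) ^^ b13) = ((a13 ^^ b13) ^^ (a12 && b23)) := by
    cases a13 <;> cases b13 <;> cases (a12 && b23) <;> rfl
  have g14 : (((a14 ^^ (a13 && b34)) ^^ (a12 && b24)) ^^ b14) =
      ((a14 ^^ b14) ^^ ((a13 && b34) ^^ (a12 && b24))) := by
    cases a14 <;> cases b14 <;> cases (a13 && b34) <;> cases (a12 && b24) <;> rfl
  have g15 : ((((p ^^ (a14 && b45)) ^^ (a13 && b35)) ^^ (a12 && b25)) ^^ q) =
      ((p ^^ q) ^^ (((a14 && b45) ^^ (a13 && b35)) ^^ (a12 && b25))) := by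
    cases p <;> cases q <;> cases (a14 && b45) <;> cases (a13 && b35) <;> cases (a12 && b25) <;> rfl
  rw [g35] at f3
  rw [g24, g25] at f2
  rw [g13, g14, g15] at f1
  rw [← f4, ← f3, ← f2, ← f1]
  symm
  calc W (w4 a45) * (W (w3 a34 a35) * (W (w2 a23 a24 a25) * W (w1 a12 a13 a14 p))) *
        (W (w4 b45) * (W (w3 b34 b35) * (W (w2 b23 b24 b25) * W (w1 b12 b13 b14 q))))
      = W (w4 a45) * W (w3 a34 a35) * W (w2 a23 a24 a25) * (W (w1 a12 a13 a14 p) * W (w4 b45)) *
          W (w3 b34 b35) * W (w2 b23 b24 b25) * W (w1 b12 b13 b14 q) := by simp only [mul_assoc]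
    _ = W (w4 a45) * W (w3 a34 a35) * (W (w2 a23 a24 a25) * W (w4 b45)) *
          (W (w1 a12 a13 a14 (p ^^ (a14 && b45))) * W (w3 b34 b35)) * W (w2 b23 b24 b25) *
          W (w1 b12 b13 b14 q) := by rw [e14]; simp only [mul_assoc]
    _ = W (w4 a45) * (W (w3 a34 a35) * W (w4 b45)) *
          (W (w2 a23 a24 (a25 ^^ (a24 && b45))) * W (w3 b34 b35)) *
          (W (w1 a12 a13 (a14 ^^ (a13 && b34)) ((p ^^ (a14 && b45)) ^^ (a13 && b35))) *
          W (w2 b23 b24 b25)) * W (w1 b12 b13 b14 q) := by rw [e24, e13]; simp only [mul_assoc]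
    _ = _ := by rw [e34, e23, e12]; simp only [mul_assoc]

theorem o_mem {b : Bool} {i j : ℕ} (hj : j < 10) (h : i ∈ o b j) : i < 10 := by
  cases b
  · exact absurd h (by simp [o])
  · have : i = j := by simpa [o] using h
    omega

theorem W_mem {l : List ℕ} (h : ∀ i ∈ l, i < 10) : W l ∈ sub gl 10 := by
  apply Subgroup.list_prod_mem
  intro x hx
  obtain ⟨i, hi, rfl⟩ := List.mem_map.1 hx
  exact mem_sub (h i hi)

theorem phi_mem (v : V) (p : Bool) : phi v p ∈ sub gl 10 := by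
  have h9 : (9 : ℕ) < 10 := by norm_num
  refine mul_mem (W_mem ?_) (mul_mem (W_mem ?_) (mul_mem (W_mem ?_) (W_mem ?_)))
  · intro i hi
    exact o_mem (by norm_num) hi
  · intro i hi
    rcases List.mem_append.1 hi with hi | hi <;> exact o_mem (by norm_num) hi
  · intro i hi
    rcases List.mem_append.1 hi with hi | hi
    · exact o_mem (by norm_num) hi
    rcases List.mem_append.1 hi with hi | hi <;> exact o_mem (by norm_num) hi
  · intro i hi
    rcases List.mem_append.1 hi with hi | hi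
    · exact o_mem (by norm_num) hi
    rcases List.mem_append.1 hi with hi | hi
    · exact o_mem (by norm_num) hi
    rcases List.mem_append.1 hi with hi | hi <;> exact o_mem (by norm_num) hi

/-- the codes of the ten involutions -/
def cd (i : ℕ) : V × Bool :=
  (⟨i == 6, i == 7, i == 8, i == 9, i == 3, i == 4, i == 5, i == 1, i == 2⟩, i == 0)

theorem phi_one : phi one false = 1 := by
  simp [phi, one, w4, w3, w2, w1, o, W]

theorem phi_cd (i : ℕ) (hi : i < 10) : phi (cd i).1 (cd i).2 = el (gl.getD i idP) := by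
  interval_cases i <;> simp [phi, cd, w4, w3, w2, w1, o, W]

/-- the range of the coordinates -/
noncomputable def rg : Submonoid M24 where
  carrier := {g | ∃ v p, phi v p = g}
  one_mem' := ⟨one, false, phi_one⟩
  mul_mem' := by
    rintro _ _ ⟨v, p, rfl⟩ ⟨w, q, rfl⟩
    exact ⟨_, _, phi_mul v w p q⟩

theorem surj (g : M24) (hg : g ∈ sub gl 10) : ∃ v p, phi v p = g := by
  have h1 : g ∈ rg := by
    have hle : sub gl 10 ≤ (Subgroup.closure (rg : Set M24)) := by
      unfold sub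
      rw [Subgroup.closure_le]
      rintro _ ⟨j, hj, rfl⟩
      exact Subgroup.subset_closure ⟨_, _, phi_cd j hj⟩
    have h2 := hle hg
    have h3 : (Subgroup.closure (rg : Set M24)).toSubmonoid = rg := by
      rw [Subgroup.closure_toSubmonoid_of_finite, Submonoid.closure_eq]
    have h4 : g ∈ (Subgroup.closure (rg : Set M24)).toSubmonoid := h2
    rwa [h3] at h4
  exact h1

theorem inj {v w : V} {p q : Bool} (h : phi v p = phi w q) : v = w ∧ p = q := by
  have h1 : Function.Surjective (fun x : V × Bool => (⟨phi x.1 x.2, phi_mem _ _⟩ : sub gl 10)) := by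
    rintro ⟨g, hg⟩
    obtain ⟨v, p, rfl⟩ := surj g hg
    exact ⟨(v, p), rfl⟩
  have hc : Nat.card (V × Bool) = Nat.card (sub gl 10) := by
    rw [card_T, Nat.card_prod, Nat.card_eq_fintype_card, V.card_V, Nat.card_eq_fintype_card,
      Fintype.card_bool]
    norm_num
  have h2 := (Nat.bijective_iff_surjective_and_card _).2 ⟨h1, hc⟩
  have h3 := @h2.1 (v, p) (w, q) (Subtype.ext h)
  exact Prod.mk.inj h3

end M24Syl

/-- coordinates on a group isomorphic to `UT_5(2)` -/
structure Cod (Q : Type*) [Group Q] (u : V → Bool → Q) : Prop where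
  mul : ∀ a b p q, u (H302.mul a b) ((p ^^ q) ^^ ct a b) = u a p * u b q
  inj : ∀ {a b p q}, u a p = u b q → a = b ∧ p = q
  surj : ∀ g, ∃ a p, u a p = g

open M24Syl in
theorem exists_cod (P : Sylow 2 M24) : ∃ u : V → Bool → (P : Subgroup M24), Cod (P : Subgroup M24) u := by
  let e : (T : Subgroup M24) ≃* (P : Subgroup M24) := Sylow.equiv T P
  refine ⟨fun v p => e ⟨phi v p, phi_mem v p⟩, ?_, ?_, ?_⟩
  · intro a b p q
    rw [← map_mul]
    congr 1
    exact Subtype.ext (phi_mul a b p q)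
  · intro a b p q h
    exact M24Syl.inj (congrArg Subtype.val (e.injective h))
  · intro g
    obtain ⟨⟨t, ht⟩, rfl⟩ := e.surjective g
    obtain ⟨v, p, hv⟩ := M24Syl.surj t ht
    exact ⟨v, p, by congr 1; exact Subtype.ext hv⟩

end Cfsg.Agent.H302
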