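import Mathlib

/-!
# An involution normalising a transitive group of odd order (helper302)

`odd_step`: `B` an elementary abelian subgroup, `t` and `n` normalise `B`, `t²` centralises `B`, and an odd power of
`[t, n]` centralises `B`. If `a ∈ B` is fixed by `t` and is conjugate by `n` to a commutator `[t, b]`, then `a`
is itself a commutator `[t, b']`.
-/

set_option autoImplicit false

namespace Cfsg.Agent.H302

open Subgroup

theorem dihedral_conj {M : Type*} [Group M] (τ τ' : M) (h1 : τ * τ = 1) (h2 : τ' * τ' = 1) (j : ℕ)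
    (hr : (τ * τ') ^ (2 * j + 1) = 1) : (τ * τ') ^ j * τ * ((τ * τ') ^ j)⁻¹ = τ' := by
  have i1 : τ⁻¹ = τ := inv_eq_of_mul_eq_one_left h1
  have i2 : τ'⁻¹ = τ' := inv_eq_of_mul_eq_one_left h2
  have e1 : ∀ k : ℕ, τ * ((τ * τ') ^ k)⁻¹ = (τ * τ') ^ k * τ := by
    intro k
    induction k with
    | zero => simp
    | succ k ih =>
      calc τ * ((τ * τ') ^ (k + 1))⁻¹ = τ * ((τ * τ') * (τ * τ') ^ k)⁻¹ := by rw [pow_succ']
        _ = (τ * ((τ * τ') ^ k)⁻¹) * (τ'⁻¹ * τ⁻¹) := by rw [mul_inv_rev, mul_inv_rev, mul_assoc]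
        _ = (τ * τ') ^ k * τ * (τ' * τ) := by rw [ih, i1, i2]
        _ = (τ * τ') ^ (k + 1) * τ := by rw [pow_succ]; group
  rw [mul_assoc, e1, ← mul_assoc, ← pow_add]
  have e2 : (τ * τ') ^ (j + j) * (τ * τ') = 1 := by
    rw [← pow_succ, ← hr]
    congr 1
    omega
  have e3 : (τ * τ') ^ (j + j) = τ' * τ := by
    rw [eq_inv_of_mul_eq_one_left e2, mul_inv_rev, i1, i2]
  rw [e3, mul_assoc, h1, mul_one]

theorem odd_aut {B : Type*} [Group B] (τ τ' : MulAut B) (h1 : τ * τ = 1) (h2 : τ' * τ' = 1) (j : ℕ)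
    (hr : (τ * τ') ^ (2 * j + 1) = 1) {a b : B} (ha : τ a = a) (ha' : τ' a = a) (hb : a = τ' b * b⁻¹) :
    ∃ b1 : B, a = τ b1 * b1⁻¹ := by
  have h3 := dihedral_conj τ τ' h1 h2 j hr
  have h4 : ∀ k : ℕ, ((τ * τ') ^ k) a = a := by
    intro k
    induction k with
    | zero => rfl
    | succ k ih =>
      rw [pow_succ, MulAut.mul_apply, MulAut.mul_apply, ha', ha, ih]
  have h5 : (((τ * τ') ^ j)⁻¹) a = a := by
    have h6 := congrArg (fun x => ((((τ * τ') ^ j)⁻¹ : MulAut B)) x) (h4 j)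
    have h7 : ((((τ * τ') ^ j)⁻¹ : MulAut B)) (((τ * τ') ^ j) a) = a := MulAut.inv_apply_self _ _ _
    exact h6.symm.trans h7
  refine ⟨(((τ * τ') ^ j)⁻¹) b, ?_⟩
  have h6 : τ ((((τ * τ') ^ j)⁻¹) b) = (((τ * τ') ^ j)⁻¹) (τ' b) := by
    have h7 : (((τ * τ') ^ j)⁻¹) * τ' = τ * ((τ * τ') ^ j)⁻¹ := by
      nth_rewrite 2 [← h3]
      group
    have h8 := congrArg (fun f : MulAut B => f b) h7
    exact h8.symm
  rw [h6, ← map_inv, ← map_mul, ← hb]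
  exact h5.symm

theorem odd_step {X : Type*} [Group X] {B : Subgroup X} (hsq : ∀ x ∈ B, x * x = 1)
    (hcomm : ∀ x ∈ B, ∀ y ∈ B, x * y = y * x) {t n : X}
    (ht : t ∈ normalizer (B : Set X)) (hn : n ∈ normalizer (B : Set X))
    (htt : t * t ∈ centralizer (B : Set X)) {j : ℕ}
    (hr : (t * n * t⁻¹ * n⁻¹) ^ (2 * j + 1) ∈ centralizer (B : Set X)) {a b : X} (ha : a ∈ B) (hb : b ∈ B)
    (hta : t * a = a * t) (hn' : n * (t * b * t⁻¹ * b⁻¹) * n⁻¹ = a) :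
    ∃ b1 ∈ B, a = t * b1 * t⁻¹ * b1⁻¹ := by
  have hnt : n * t * n⁻¹ ∈ normalizer (B : Set X) := mul_mem (mul_mem hn ht) (inv_mem hn)
  set φ := B.normalizerMonoidHom with hφ
  have hφc : ∀ y : normalizer (B : Set X), (y : X) ∈ centralizer (B : Set X) → φ y = 1 := by
    intro y hy
    have h1 : y ∈ φ.ker := by
      rw [hφ, normalizerMonoidHom_ker]
      exact hy
    exact h1
  have hφa : ∀ (y : normalizer (B : Set X)) (x : B), ((φ y x : B) : X) = y * x * (y : X)⁻¹ := fun y x => rfl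
  set τ := φ ⟨t, ht⟩ with hτ
  set τ' := φ ⟨n * t * n⁻¹, hnt⟩ with hτ'
  have h1 : τ * τ = 1 := by
    rw [hτ, ← map_mul]
    exact hφc _ htt
  have h2 : τ' * τ' = 1 := by
    rw [hτ', ← map_mul]
    apply hφc
    have e : n * t * n⁻¹ * (n * t * n⁻¹) = n * (t * t) * n⁻¹ := by group
    change n * t * n⁻¹ * (n * t * n⁻¹) ∈ centralizer (B : Set X)
    rw [e, mem_centralizer_iff]
    intro x hx
    have h3 : n⁻¹ * x * n ∈ B := (mem_normalizer_iff''.1 hn x).1 hx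
    have h4 := mem_centralizer_iff.1 htt _ h3
    calc x * (n * (t * t) * n⁻¹) = n * (n⁻¹ * x * n * (t * t)) * n⁻¹ := by group
      _ = n * (t * t * (n⁻¹ * x * n)) * n⁻¹ := by rw [h4]
      _ = n * (t * t) * n⁻¹ * x := by group
  have h3 : (τ * τ') ^ (2 * j + 1) = 1 := by
    have e1 : τ * τ' = φ ⟨t * n * t⁻¹ * n⁻¹, mul_mem (mul_mem (mul_mem ht hn) (inv_mem ht)) (inv_mem hn)⟩ := by
      have e2 : τ * τ' = φ (⟨t, ht⟩ * ⟨n, hn⟩ * ⟨t, ht⟩ * ⟨n, hn⟩⁻¹) := by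
        rw [hτ, hτ', ← map_mul]
        congr 1
        apply Subtype.ext
        change t * (n * t * n⁻¹) = t * n * t * n⁻¹
        group
      have e3 : (⟨t * n * t⁻¹ * n⁻¹, mul_mem (mul_mem (mul_mem ht hn) (inv_mem ht)) (inv_mem hn)⟩ :
          normalizer (B : Set X)) = ⟨t, ht⟩ * ⟨n, hn⟩ * ⟨t, ht⟩⁻¹ * ⟨n, hn⟩⁻¹ := rfl
      have e4 : τ⁻¹ = τ := inv_eq_of_mul_eq_one_left h1
      rw [e2, e3, map_mul, map_mul, map_mul, map_mul, map_mul, map_mul, map_inv φ ⟨t, ht⟩, ← hτ, e4]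
    rw [e1, ← map_pow]
    exact hφc _ hr
  have hta' : τ ⟨a, ha⟩ = ⟨a, ha⟩ := by
    apply Subtype.ext
    rw [hτ, hφa]
    change t * a * t⁻¹ = a
    rw [hta, mul_inv_cancel_right]
  have hnb : n * b * n⁻¹ ∈ B := (mem_normalizer_iff.1 hn b).1 hb
  have hb' : (⟨a, ha⟩ : B) = τ' ⟨n * b * n⁻¹, hnb⟩ * ⟨n * b * n⁻¹, hnb⟩⁻¹ := by
    apply Subtype.ext
    change a = ((τ' ⟨n * b * n⁻¹, hnb⟩ : B) : X) * (n * b * n⁻¹)⁻¹
    rw [hτ', hφa, ← hn']
    change n * (t * b * t⁻¹ * b⁻¹) * n⁻¹ = n * t * n⁻¹ * (n * b * n⁻¹) * (n * t * n⁻¹)⁻¹ * (n * b * n⁻¹)⁻¹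
    group
  have hta'' : τ' ⟨a, ha⟩ = ⟨a, ha⟩ := by
    have h4 : ∀ x : B, τ' (τ' x) = x := fun x => congrArg (fun f : MulAut B => f x) h2
    have h5 : ∀ x y : B, x * y = y * x := fun x y => Subtype.ext (hcomm x x.2 y y.2)
    have h6 : ∀ x : B, x⁻¹ = x := fun x => inv_eq_of_mul_eq_one_left (Subtype.ext (hsq x x.2))
    rw [hb', map_mul, h4, map_inv, h6, h6, h5]
  obtain ⟨b1, hb1⟩ := odd_aut τ τ' h1 h2 j h3 hta' hta'' hb'
  refine ⟨b1, b1.2, ?_⟩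
  have h4 := congrArg (Subtype.val) hb1
  exact h4

end Cfsg.Agent.H302
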