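import Cfsg.Agent.H302.RvOne
import Cfsg.Agent.H303.RsEnd

/-!
# Groups of Rudvalis type with `|O_2(G)| ≤ 2`: conclusion (helper302)
-/

set_option autoImplicit false
set_option linter.style.haveILetI false
set_option linter.unnecessarySimpa false
set_option linter.unusedSectionVars false

namespace Cfsg.Agent.H302.Rv

open Subgroup Cfsg Cfsg.Agent.H303 Cfsg.Agent.H303.RuMain
open Cfsg.Agent.SignalizersComponents
open Cfsg.Agent.SignalizersComponents.Components
open Set1
open scoped commutatorElement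

universe u

local notation "Zu" => Subgroup.upperCentralSeries

/-- no quasisimple double cover (helper303) -/
def NoDouble : Prop := ∀ (K : Type u) [Group K] [Finite K] (S : Sylow 2 K) (W : Subgroup ↥(S : Subgroup K)),
  Hyp ↥(S : Subgroup K) W → IsQuasisimple K → center K = (Zu ↥(S : Subgroup K) 1).map (S : Subgroup K).subtype →
  IsKnownSimple' (K ⧸ center K) → False

theorem mem_upper_equiv' {T T' : Type*} [Group T] [Group T'] (e : T ≃* T') {j : ℕ} {x : T} :
    e x ∈ Zu T' j ↔ x ∈ Zu T j := Hyp.mem_upper_equiv e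

namespace One

variable {G : Type u} [Group G] [Finite G] {T : Sylow 2 G} {W : Subgroup ↥(T : Subgroup G)}

/-- **`O_2(G) = 1`: the group is `Ru`.** -/
theorem ru (s : One T W) (hY : pCore 2 G = ⊥) (hRu : ∀ α : MulAut Cfsg.Spor.Ru, ∃ g, α = MulAut.conj g) :
    Cfsg.Spor.IsoRu G := by
  obtain ⟨K, hKn, hK, hcent, hT⟩ := s.main
  rw [hY, le_bot_iff] at hcent
  have hTK : (T : Subgroup G) ≤ K := by
    intro t ht
    obtain ⟨k, hk, c, hc, rfl⟩ := hT t ht
    rw [hY, mem_bot] at hc
    rw [hc, mul_one]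
    exact hk
  -- `K` is simple
  have hcen : center K = ⊥ := by
    rw [eq_bot_iff]
    intro x hx
    rw [mem_bot]
    have h1 : (x : G) ∈ centralizer (K : Set G) := by
      rw [mem_centralizer_iff]
      intro k hk
      exact congrArg Subtype.val (mem_center_iff.1 hx ⟨k, hk⟩)
    rw [hcent, mem_bot] at h1
    exact Subtype.ext h1
  have e0 : K ⧸ center K ≃* K := (QuotientGroup.quotientMulEquivOfEq hcen).trans (QuotientGroup.quotientBot)
  have hs0 : IsSimpleGroup (K ⧸ center K) := hK.2.2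
  have hsimple : IsSimpleGroup K := by
    have : Nontrivial K := e0.symm.toEquiv.nontrivial
    exact e0.symm.isSimpleGroup
  -- the Sylow subgroup
  obtain ⟨S, hS⟩ := Cfsg.Agent.SylowL.CompFacts.exists_sylow T hK.1
  let e1 : ↥(S : Subgroup K) ≃* ↥(T : Subgroup G) := (MulEquiv.subgroupCongr hS).trans (subgroupOfEquivOfLe hTK)
  have hS' := s.h.congr e1.symm
  obtain ⟨e⟩ := RsEnd.iso_of_hyp S hS' (s.inp.kn K)
  -- `K = G`
  have htop : K = ⊤ := by
    rw [eq_top_iff]
    intro g _
    let α : MulAut K := MulAut.conjNormal g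
    obtain ⟨r, hr⟩ := hRu ((e.symm.trans α).trans e)
    set k : K := e.symm r with hk
    have h1 : ∀ x : K, (α x : K) = k * x * k⁻¹ := by
      intro x
      apply e.injective
      have h2 := DFunLike.congr_fun hr (e x)
      simp only [MulEquiv.trans_apply, MulEquiv.symm_apply_apply, MulAut.conj_apply] at h2
      rw [h2, hk, map_mul, map_mul, map_inv, MulEquiv.apply_symm_apply]
    have h2 : (k : G)⁻¹ * g ∈ centralizer (K : Set G) := by
      rw [mem_centralizer_iff]
      intro x hx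
      have h3 : g * x * g⁻¹ = (k : G) * x * (k : G)⁻¹ := by
        have := congrArg Subtype.val (h1 ⟨x, hx⟩)
        exact this
      calc x * ((k : G)⁻¹ * g) = (k : G)⁻¹ * ((k : G) * x * (k : G)⁻¹) * g := by group
        _ = (k : G)⁻¹ * g * x := by rw [← h3]; group
    rw [hcent, mem_bot] at h2
    have h3 : g = k := by
      have := inv_mul_eq_one.1 h2
      exact this.symm
    rw [h3]
    exact k.2
  exact ⟨((MulEquiv.subgroupCongr htop).trans Subgroup.topEquiv).symm.trans e⟩

/-- **`O_2(G) = Z_1` is impossible.** -/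
theorem no_double (s : One T W) (hY : pCore 2 G ≠ ⊥) (hND : NoDouble.{u}) : False := by
  obtain ⟨K, hKn, hK, hcent, hT⟩ := s.main
  -- `O_2(G) = Z_1`
  have hYc : pCore 2 G = Z T 1 := by
    apply Subgroup.eq_of_le_of_card_ge s.le
    rw [s.toSet1.card_Z (by norm_num)]
    have h1 : Nat.card (pCore 2 G) ≠ 1 := fun h1 => hY (Subgroup.card_eq_one.1 h1)
    have h2 : 0 < Nat.card (pCore 2 G) := Nat.card_pos
    omega
  -- `Z_1 ≤ K`
  obtain ⟨S, hS⟩ := Cfsg.Agent.SylowL.CompFacts.exists_sylow T hK.1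
  have : Fact (Nat.Prime 2) := ⟨Nat.prime_two⟩
  have h4 : 4 ∣ Nat.card S := by
    have h2 : 4 ∣ Nat.card K := (four_dvd hK.2).trans (Subgroup.card_quotient_dvd_card _)
    have h3 : (2 : ℕ) ^ 2 ∣ Nat.card K := h2
    exact S.pow_dvd_card_of_pow_dvd_card h3
  have hSc : Nat.card S ≤ Nat.card ((T : Subgroup G) ⊓ K : Subgroup G) := by
    apply Nat.card_le_card_of_injective (fun x : ↥S => (⟨((x : ↥K) : G), by
      have h3 : (x : ↥K) ∈ (S : Subgroup ↥K) := x.2
      rw [hS] at h3
      exact ⟨h3, (x : ↥K).2⟩⟩ : ↥((T : Subgroup G) ⊓ K : Subgroup G)))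
    intro a b hab
    exact Subtype.ext (Subtype.ext (congrArg (fun z : ↥((T : Subgroup G) ⊓ K : Subgroup G) => (z : G)) hab))
  have hZK : Z T 1 ≤ K := s.toSet1.Z_le_of (fun t _ x hx => hKn.conj_mem x hx t) (by norm_num)
    (le_trans (by norm_num) ((Nat.le_of_dvd Nat.card_pos h4).trans hSc))
  have hTK : (T : Subgroup G) ≤ K := by
    intro t ht
    obtain ⟨k, hk, c, hc, rfl⟩ := hT t ht
    exact mul_mem hk (hZK (by rw [← hYc]; exact hc))
  let e1 : ↥(S : Subgroup K) ≃* ↥(T : Subgroup G) := (MulEquiv.subgroupCongr hS).trans (subgroupOfEquivOfLe hTK)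
  have he1 : ∀ x : ↥(S : Subgroup K), ((e1 x : ↥(T : Subgroup G)) : G) = ((x : K) : G) := fun x => rfl
  have hS' := s.h.congr e1.symm
  have hs0 : IsSimpleGroup (K ⧸ center K) := hK.2.2
  refine hND K S _ hS' hK.2 ?_ (s.inp.kn _)
  -- the centre
  ext x
  constructor
  · intro hx
    have h1 : (x : G) ∈ centralizer (K : Set G) := by
      rw [mem_centralizer_iff]
      intro k hk
      exact congrArg Subtype.val (mem_center_iff.1 hx ⟨k, hk⟩)
    have h2 := hcent h1
    rw [hYc, mem_Z] at h2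
    obtain ⟨hxT, hx1⟩ := h2
    have hxS : x ∈ (S : Subgroup K) := by rw [hS]; exact hxT
    refine ⟨⟨x, hxS⟩, ?_, rfl⟩
    show _ ∈ Zu _ 1
    rw [← mem_upper_equiv' e1]
    exact hx1
  · rintro ⟨y, hy, rfl⟩
    have hy1 : e1 y ∈ Zu _ 1 := (mem_upper_equiv' e1).2 hy
    have h2 : (((y : K)) : G) ∈ pCore 2 G := by
      rw [hYc, mem_Z]
      exact ⟨(e1 y).2, hy1⟩
    rw [mem_center_iff]
    intro g
    exact Subtype.ext (s.central h2 g)

end One

end Cfsg.Agent.H302.Rv
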