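import Mathlib

/-!
# Many dihedral groups acting on an elementary abelian group (helper302)
-/

set_option autoImplicit false
set_option linter.style.haveILetI false
set_option linter.unnecessarySimpa false

namespace Cfsg.Agent.H302.Rv

variable {M : Type*} [CommGroup M]

/-- If an odd power condition holds: `x ^ 2 ^ k` fixes `u` then `x` fixes `u`. -/
theorem fix_of_odd {x : MulAut M} {m : ℕ} (hm : Odd m) (hx : x ^ m = 1) {k : ℕ} {u : M} (hu : (x ^ 2 ^ k) u = u) :
    x u = u := by
  have h1 : x ^ 2 ^ k ∈ MulAction.stabilizer (MulAut M) u := hu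
  have h2 : x ^ m ∈ MulAction.stabilizer (MulAut M) u := by rw [hx]; exact one_mem _
  have h3 : Nat.Coprime (2 ^ k) m := Nat.Coprime.pow_left _ (Nat.coprime_two_left.2 hm)
  obtain ⟨a, b, hab⟩ : ∃ a b : ℤ, a * ((2 ^ k : ℕ) : ℤ) + b * (m : ℤ) = 1 := Nat.isCoprime_iff_coprime.2 h3
  have h4 : x ∈ MulAction.stabilizer (MulAut M) u := by
    have h5 : x = (x ^ 2 ^ k) ^ a * (x ^ m) ^ b := by
      rw [← zpow_natCast, ← zpow_natCast, ← zpow_mul, ← zpow_mul, ← zpow_add, mul_comm ((2 ^ k : ℕ) : ℤ),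
        mul_comm (m : ℤ), hab, zpow_one]
    rw [h5]
    exact mul_mem (zpow_mem h1 a) (zpow_mem h2 b)
  exact h4

/-- **The counting lemma.** -/
theorem card_ge_of_dihedral [Finite M] (hsq : ∀ m : M, m * m = 1) {U : Subgroup M} {ι : Type*} [Finite ι]
    (a x : ι → MulAut M) (haM : ∀ i m, a i m * m⁻¹ ∈ U) (haU : ∀ i, ∀ u ∈ U, a i u = u)
    (hinv : ∀ i, a i * x i * (a i)⁻¹ = (x i)⁻¹) (hodd : ∀ i, ∃ m, Odd m ∧ x i ^ m = 1) (hne : ∀ i, x i ≠ 1)
    (hcomm : ∀ i j, i ≠ j → x j * a i = a i * x j) : 2 ^ Nat.card ι ≤ Nat.card U := by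
  classical
  have := Fintype.ofFinite ι
  -- `x_j` fixes `[M, a_i]` pointwise for `j ≠ i`
  have key1 : ∀ i j, i ≠ j → ∀ m, x j (a i m * m⁻¹) = a i m * m⁻¹ := by
    intro i j hij m
    obtain ⟨n, hn, hxn⟩ := hodd j
    refine fix_of_odd hn hxn (k := 1) ?_
    have h1 : x j (a i m * m⁻¹) = a i (x j m) * (x j m)⁻¹ := by
      rw [map_mul, map_inv]
      congr 1
      exact DFunLike.congr_fun (hcomm i j hij) m
    have h2 : x j (a i m * m⁻¹) ∈ U := by rw [h1]; exact haM i _
    have h3 := DFunLike.congr_fun (hinv j) (a i m * m⁻¹)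
    have h4 : (a j)⁻¹ (a i m * m⁻¹) = a i m * m⁻¹ := by
      rw [MulAut.inv_apply, MulEquiv.symm_apply_eq]
      exact (haU j _ (haM i m)).symm
    rw [MulAut.mul_apply, MulAut.mul_apply, h4, haU j _ h2] at h3
    -- `x_j u = x_j⁻¹ u`
    rw [pow_one, pow_two, MulAut.mul_apply, h3, MulAut.apply_inv_self]
  -- `x_i` moves an element of `[M, a_i]`
  have key2 : ∀ i, ∃ m, x i (a i m * m⁻¹) ≠ a i m * m⁻¹ := by
    intro i
    by_contra hcon
    push Not at hcon
    apply hne i
    obtain ⟨n, hn, hxn⟩ := hodd i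
    ext m
    rw [MulAut.one_apply]
    refine fix_of_odd hn hxn (k := 2) ?_
    -- `a⁻¹ m = m * c'`
    obtain ⟨c', hc'⟩ : ∃ c', c' = (a i)⁻¹ m * m⁻¹ := ⟨_, rfl⟩
    have hc'x : x i c' = c' := by
      have h1 := hcon ((a i)⁻¹ m)
      rw [MulAut.apply_inv_self] at h1
      have h2 : c' = (m * ((a i)⁻¹ m)⁻¹)⁻¹ := by rw [hc', mul_inv_rev, inv_inv]
      rw [h2, map_inv, h1]
    have hc'U : c' ∈ U := by
      have h1 := haM i ((a i)⁻¹ m)
      rw [MulAut.apply_inv_self] at h1
      have h2 : c' = (m * ((a i)⁻¹ m)⁻¹)⁻¹ := by rw [hc', mul_inv_rev, inv_inv]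
      rw [h2]
      exact inv_mem h1
    obtain ⟨c'', hc''⟩ : ∃ c'', c'' = a i (x i m) * (x i m)⁻¹ := ⟨_, rfl⟩
    have hc''x : x i c'' = c'' := by rw [hc'']; exact hcon (x i m)
    have h1 : (a i)⁻¹ m = c' * m := by rw [hc', inv_mul_cancel_right]
    have h2 : a i (x i m) = c'' * x i m := by rw [hc'', inv_mul_cancel_right]
    have h3 := DFunLike.congr_fun (hinv i) m
    rw [MulAut.mul_apply, MulAut.mul_apply, h1, map_mul, hc'x, map_mul, haU i c' hc'U, h2] at h3
    -- `x⁻¹ m = c' c'' x m`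
    have h4 : m = c' * (c'' * x i (x i m)) := by
      have h5 := congrArg (x i) h3
      rw [map_mul, map_mul, hc'x, hc''x, MulAut.apply_inv_self] at h5
      exact h5.symm
    have h5 : x i (x i m) = c' * (c'' * m) := by
      have h6 : c' * (c'' * m) = (c' * c') * ((c'' * c'') * x i (x i m)) := by
        conv_lhs => rw [h4]
        rw [mul_mul_mul_comm c' c', ← mul_assoc]
        simp only [mul_assoc, mul_left_comm, mul_comm]
      rw [h6, hsq, hsq, one_mul, one_mul]
    have h7 : (x i ^ 2 ^ 2) m = x i (x i (x i (x i m))) := by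
      norm_num [pow_succ, MulAut.mul_apply]
    have h9 : ∀ z, x i (c' * (c'' * z)) = c' * (c'' * x i z) := by
      intro z
      rw [map_mul, map_mul, hc'x, hc''x]
    rw [h7, h5, h9, h9, h5]
    have h8 : c' * (c'' * (c' * (c'' * m))) = (c' * c') * ((c'' * c'') * m) := by
      simp only [mul_assoc, mul_left_comm]
    rw [h8, hsq, hsq, one_mul, one_mul]
  choose m hm using key2
  set u : ι → M := fun i => a i (m i) * (m i)⁻¹ with hu
  have huU : ∀ i, u i ∈ U := fun i => haM i _
  let f : (ι → Bool) → U := fun ε => ⟨∏ i, (if ε i then u i else 1), prod_mem fun i _ => by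
    split_ifs
    · exact huU i
    · exact one_mem _⟩
  have hf : Function.Injective f := by
    intro ε δ h
    have h1 : ∏ i, (if ε i then u i else 1) = ∏ i, (if δ i then u i else 1) := congrArg Subtype.val h
    funext k
    have h2 : ∀ ζ : ι → Bool, x k (∏ i, (if ζ i then u i else 1)) =
        (if ζ k then x k (u k) * (u k)⁻¹ else 1) * ∏ i, (if ζ i then u i else 1) := by
      intro ζ
      rw [map_prod, ← Finset.mul_prod_erase Finset.univ _ (Finset.mem_univ k),
        ← Finset.mul_prod_erase Finset.univ (fun i => if ζ i then u i else 1) (Finset.mem_univ k), ← mul_assoc]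
      congr 1
      · cases ζ k <;> simp
      · refine Finset.prod_congr rfl fun i hi => ?_
        have hik : i ≠ k := (Finset.mem_erase.1 hi).1
        cases ζ i
        · simp
        · simp only [if_true]
          exact key1 i k hik (m i)
    have h3 := congrArg (x k) h1
    rw [h2, h2, h1] at h3
    have h4 := mul_right_cancel h3
    have h5 : x k (u k) * (u k)⁻¹ ≠ 1 := by
      rw [Ne, mul_inv_eq_one]
      exact hm k
    cases hε : ε k <;> cases hδ : δ k
    · rfl
    · rw [hε, hδ] at h4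
      simp only [if_true, Bool.false_eq_true, if_false] at h4
      exact (h5 h4.symm).elim
    · rw [hε, hδ] at h4
      simp only [if_true, Bool.false_eq_true, if_false] at h4
      exact (h5 h4).elim
    · rfl
  have h1 := Nat.card_le_card_of_injective f hf
  rw [Nat.card_fun] at h1
  simpa using h1

end Cfsg.Agent.H302.Rv
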