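import Cfsg.Agent.H302.RvMthree
import Cfsg.Agent.H302.RvDih
import Cfsg.Agent.S1349

/-!
# Groups of Rudvalis type: `G / C_G(M)` has components (helper302)
-/

set_option autoImplicit false
set_option linter.style.haveILetI false
set_option linter.unnecessarySimpa false
set_option linter.unusedSectionVars false

namespace Cfsg.Agent.H302.Rv

open Subgroup Cfsg Cfsg.Agent.H303 Cfsg.Agent.H303.RuMain
open Set1
open Cfsg.Agent.SignalizersComponents
open Cfsg.Agent.SignalizersComponents.Components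
open scoped commutatorElement

universe u

local notation "Zu" => Subgroup.upperCentralSeries

/-- If `O_2(X) = 1` then `F(X)` has odd order. -/
theorem fitting_le_odd {X : Type*} [Group X] [Finite X] (hO : pCore 2 X = ⊥) : fittingSubgroup X ≤ pPrimeCore 2 X := by
  rw [Lib.Cores.fittingSubgroup_eq_iSup_pCore]
  refine iSup_le fun q => ?_
  have : Fact (q : ℕ).Prime := ⟨q.2⟩
  by_cases hq : (q : ℕ) = 2
  · rw [hq, hO]; exact bot_le
  · apply Lib.Cores.le_pPrimeCore (Lib.Cores.pCore_normal _)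
    obtain ⟨n, hn⟩ := IsPGroup.iff_card.mp (Lib.Cores.pCore_isPGroup (G := X) (q : ℕ))
    rw [hn]
    exact Nat.Coprime.pow_left n ((Nat.coprime_primes q.2 Nat.prime_two).mpr hq)

theorem odd_fitting {X : Type*} [Group X] [Finite X] (hO : pCore 2 X = ⊥) : Odd (Nat.card (fittingSubgroup X)) := by
  have h1 := Lib.Cores.pPrimeCore_coprime (G := X) 2
  have h2 := Subgroup.card_dvd_of_le (fitting_le_odd hO)
  exact (Nat.coprime_two_left.1 (h1.coprime_dvd_left h2).symm)

/-- an inverted element in a dihedral group `A₁ L₁` -/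
theorem exists_inverted {X : Type*} [Group X] {A₁ L₁ : Subgroup X} (hA : Nat.card A₁ = 2) {n : ℕ} (hn : Odd n)
    (hn3 : 3 ≤ n) (e : ↥(A₁ ⊔ L₁) ≃* DihedralGroup n) :
    ∃ a ∈ A₁, ∃ l ∈ L₁, ⁅a, l⁆ ≠ 1 ∧ a * ⁅a, l⁆ * a⁻¹ = ⁅a, l⁆⁻¹ := by
  have hsq : ∀ a ∈ A₁, a * a = 1 := by
    intro a ha
    have h1 : (⟨a, ha⟩ : ↥A₁) ^ Nat.card A₁ = 1 := pow_card_eq_one'
    rw [hA, pow_two] at h1
    exact congrArg Subtype.val h1
  have hinv : ∀ a ∈ A₁, ∀ l : X, a * ⁅a, l⁆ * a⁻¹ = ⁅a, l⁆⁻¹ := by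
    intro a ha l
    have h1 : a⁻¹ = a := by
      rw [inv_eq_iff_mul_eq_one]; exact hsq a ha
    rw [commutatorElement_def, h1]
    calc a * (a * l * a * l⁻¹) * a = (a * a) * (l * a * l⁻¹ * a) := by group
      _ = (a * l * a * l⁻¹)⁻¹ := by rw [hsq a ha, one_mul]; simp only [mul_inv_rev, inv_inv, h1, mul_assoc]
  by_contra hcon
  push Not at hcon
  have h1 : ∀ a ∈ A₁, ∀ l ∈ L₁, a * l = l * a := by
    intro a ha l hl
    by_contra h2
    exact hcon a ha l hl (fun h3 => h2 (commutatorElement_eq_one_iff_mul_comm.1 h3)) (hinv a ha l)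
  have h2 : A₁ ⊔ L₁ ≤ centralizer (A₁ : Set X) := by
    refine sup_le ?_ ?_
    · intro a ha
      rw [mem_centralizer_iff]
      intro b hb
      have h3 : (⟨b, hb⟩ : ↥A₁) * ⟨a, ha⟩ = ⟨a, ha⟩ * ⟨b, hb⟩ := by
        have : Fact (Nat.Prime 2) := ⟨Nat.prime_two⟩
        have : IsCyclic ↥A₁ := isCyclic_of_prime_card hA
        letI := IsCyclic.commGroup (α := ↥A₁)
        exact mul_comm _ _
      exact congrArg Subtype.val h3
    · intro l hl
      rw [mem_centralizer_iff]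
      exact fun a ha => h1 a ha l hl
  have h3 : center ↥(A₁ ⊔ L₁) = ⊥ := by
    have h4 := DihedralGroup.center_eq_bot_of_odd_ne_one hn (by omega : n ≠ 1)
    rw [eq_bot_iff]
    intro x hx
    have h5 : e x ∈ center (DihedralGroup n) := by
      rw [mem_center_iff] at hx ⊢
      intro g
      obtain ⟨g, rfl⟩ := e.surjective g
      rw [← map_mul, ← map_mul, hx g]
    rw [h4, mem_bot] at h5
    rw [mem_bot]
    exact e.injective (by rw [h5, map_one])
  have h4 : ∀ a ∈ A₁, a = 1 := by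
    intro a ha
    have h5 : (⟨a, le_sup_left (a := A₁) ha⟩ : ↥(A₁ ⊔ L₁)) ∈ center ↥(A₁ ⊔ L₁) := by
      rw [mem_center_iff]
      intro g
      exact Subtype.ext (mem_centralizer_iff.1 (h2 g.2) a ha).symm
    rw [h3, mem_bot] at h5
    exact congrArg Subtype.val h5
  have h5 : A₁ = ⊥ := by
    rw [eq_bot_iff]
    intro a ha
    rw [mem_bot]; exact h4 a ha
  rw [h5, Subgroup.card_bot] at hA
  norm_num at hA

namespace Sit

variable {G : Type u} [Group G] [Finite G] {T : Sylow 2 G} {W : Subgroup ↥(T : Subgroup G)} {j : ℕ}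

instance C_normal_inst : (C T j).Normal := C_normal

instance M_normal_inst : (M T j).Normal := M_normal

/-- the action of `G / C` on `M` -/
noncomputable def rho (T : Sylow 2 G) (j : ℕ) : G ⧸ C T j →* MulAut ↥(M T j) :=
  QuotientGroup.lift (C T j) (MulAut.conjNormal (H := M T j)) (by
    intro x hx
    ext m
    show x * (m : G) * x⁻¹ = m
    have h1 := mem_centralizer_iff.1 hx m m.2
    rw [← h1, mul_inv_cancel_right])

theorem rho_mk (g : G) (m : ↥(M T j)) : ((rho T j (QuotientGroup.mk' (C T j) g) m : ↥(M T j)) : G) = g * m * g⁻¹ := rfl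

theorem rho_injective : Function.Injective (rho T j) := by
  rw [injective_iff_map_eq_one]
  intro x hx
  obtain ⟨g, rfl⟩ := QuotientGroup.mk'_surjective (C T j) x
  refine (QuotientGroup.eq_one_iff g).2 ?_
  unfold C
  rw [mem_centralizer_iff]
  intro m hm
  have h1 := congrArg Subtype.val (DFunLike.congr_fun hx ⟨m, hm⟩)
  rw [rho_mk] at h1
  have h2 : g * m * g⁻¹ = m := h1
  exact (mul_inv_eq_iff_eq_mul.1 h2).symm

theorem C_eq (s : Sit T W j) : C T j = pCore 2 G := le_antisymm s.C_le_core s.core_le_C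

theorem core_quot (s : Sit T W j) : pCore 2 (G ⧸ C T j) = ⊥ := by
  have h1 := Lib.Cores.comap_mk_pCore 2 (N := C T j) (by
    rw [s.C_eq]; exact Lib.Cores.pCore_isPGroup 2)
  rw [← s.C_eq] at h1
  have h2 := congrArg (Subgroup.map (QuotientGroup.mk' (C T j))) h1
  rw [map_comap_eq_self_of_surjective (QuotientGroup.mk'_surjective _)] at h2
  rw [h2, Subgroup.map_eq_bot_iff, QuotientGroup.ker_mk']

/-- `|X C / C| |C| = |X|` -/
theorem card_map (_s : Sit T W j) {X : Subgroup G} (hX : C T j ≤ X) :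
    Nat.card (X.map (QuotientGroup.mk' (C T j))) * Nat.card (C T j) = Nat.card X := by
  have h1 : (X.map (QuotientGroup.mk' (C T j))).index = X.index := by
    apply Subgroup.index_map_eq
    · exact QuotientGroup.mk'_surjective _
    · rw [QuotientGroup.ker_mk']; exact hX
  have h2 := (X.map (QuotientGroup.mk' (C T j))).card_mul_index
  have h3 := X.card_mul_index
  have h4 := (C T j).card_mul_index
  have h5 : (C T j).index = Nat.card (G ⧸ C T j) := rfl
  rw [h1] at h2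
  rw [h5, ← h2, ← h3] at h4
  have h6 : 0 < X.index := Nat.pos_of_ne_zero Subgroup.index_ne_zero_of_finite
  apply Nat.eq_of_mul_eq_mul_right h6
  rw [← h4]; ring

/-- the order of `C` -/
theorem exists_c (s : Sit T W j) : ∃ c, 5 ≤ c ∧ c ≤ 7 ∧ Nat.card (C T j) = 2 ^ c := by
  obtain ⟨n, -, hn⟩ := s.toSet1.exists_pow s.C_le_T
  refine ⟨n, ?_, ?_, hn⟩
  · have h1 := s.card_M_ge.trans (Subgroup.card_le_of_le s.M_le_C)
    rw [hn] at h1
    exact (Nat.pow_le_pow_iff_right (by norm_num : 1 < 2)).1 h1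
  · have h1 := s.card_C_le
    rw [hn] at h1
    exact (Nat.pow_le_pow_iff_right (by norm_num : 1 < 2)).1 h1

/-- the image of `W` -/
def A (T : Sylow 2 G) (W : Subgroup ↥(T : Subgroup G)) (j : ℕ) : Subgroup (G ⧸ C T j) :=
  (Wg W).map (QuotientGroup.mk' (C T j))

theorem card_Wg (s : Set1 T W) : Nat.card (Wg W) = 2 ^ 11 := by
  rw [← s.h.orders.2.2.2]
  exact Subgroup.card_map_of_injective (T : Subgroup G).subtype_injective

theorem Wg_comm_mem (s : Set1 T W) {x y : G} (hx : x ∈ Wg W) (hy : y ∈ Wg W) : ⁅x, y⁆ ∈ Z T 3 := by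
  obtain ⟨x, hx, rfl⟩ := hx
  obtain ⟨y, hy, rfl⟩ := hy
  exact ⟨⁅x, y⁆, s.h.comm_W_mem hx hy, rfl⟩

theorem Wg_sq_mem (s : Set1 T W) {x : G} (hx : x ∈ Wg W) : x ^ 2 ∈ Z T 3 := by
  obtain ⟨x, hx, rfl⟩ := hx
  exact ⟨x ^ 2, s.h.sq_W_mem hx, rfl⟩

theorem A_elem (s : Sit T W j) : IsElementaryAbelian 2 (A T W j) := by
  refine ⟨⟨⟨?_⟩⟩, ?_⟩
  · rintro ⟨_, x, hx, rfl⟩ ⟨_, y, hy, rfl⟩
    apply Subtype.ext
    show QuotientGroup.mk' _ x * QuotientGroup.mk' _ y = QuotientGroup.mk' _ y * QuotientGroup.mk' _ x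
    rw [← commutatorElement_eq_one_iff_mul_comm, ← map_commutatorElement]
    exact (QuotientGroup.eq_one_iff _).2 (s.M_le_C (s.Z3_le_M (Wg_comm_mem s.toSet1 hx hy)))
  · rintro _ ⟨x, hx, rfl⟩
    rw [← map_pow]
    exact (QuotientGroup.eq_one_iff _).2 (s.M_le_C (s.Z3_le_M (Wg_sq_mem s.toSet1 hx)))

/-- `|A| ≥ 16` -/
theorem card_A (s : Sit T W j) : ∃ d, 4 ≤ d ∧ Nat.card (A T W j) = 2 ^ d := by
  obtain ⟨c, hc5, hc7, hc⟩ := s.exists_c
  have h1 := s.card_map s.C_le_W
  rw [hc, card_Wg s.toSet1] at h1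
  refine ⟨11 - c, by omega, ?_⟩
  have h2 : (2 : ℕ) ^ 11 = 2 ^ (11 - c) * 2 ^ c := by
    rw [← pow_add]; congr 1; omega
  rw [h2] at h1
  exact Nat.eq_of_mul_eq_mul_right (by positivity) h1

/-- **`G / C` has a component.** -/
theorem exists_component (s : Sit T W j) : ∃ J : Subgroup (G ⧸ C T j), IsComponent J := by
  by_contra hno
  push Not at hno
  have hlay : layer (G ⧸ C T j) = ⊥ := ComponentExists.layer_eq_bot_iff.2 hno
  have hcent := ComponentExists.centralizer_fitting_le_of_layer_eq_bot hlay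
  set F := fittingSubgroup (G ⧸ C T j) with hF
  have hFn : F.Normal := ComponentExists.fittingSubgroup_normal _
  have hFodd : Odd (Nat.card F) := odd_fitting s.core_quot
  have hFs : Group.IsSolvable ↥F := solvable_of_odd hFodd
  obtain ⟨d, hd4, hd⟩ := s.card_A
  have hcop : Nat.Coprime (Nat.card (A T W j)) (Nat.card F) := by
    rw [hd]
    exact Nat.Coprime.pow_left _ (Nat.coprime_two_left.2 hFodd)
  obtain ⟨Ai, Li, n, h1, -, h3⟩ := Cfsg.Agent.S1349.result F (A T W j) hFs hFodd s.A_elem d (by omega) hd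
    (by rw [Subgroup.normalizer_eq_top F]; exact le_top) (by
      rw [eq_bot_iff, ← (Subgroup.disjoint_of_coprime_natCard hcop).eq_bot]
      exact inf_le_inf_left _ hcent)
  have h4 : ∀ i, ∃ a ∈ Ai i, ∃ l ∈ Li i, ⁅a, l⁆ ≠ 1 ∧ a * ⁅a, l⁆ * a⁻¹ = ⁅a, l⁆⁻¹ := by
    intro i
    obtain ⟨-, hc, -, hn, hn3, ⟨e⟩⟩ := h1 i
    exact exists_inverted hc hn hn3 e
  choose a ha l hl hne hinv using h4
  letI cg : CommGroup ↥(M T j) :=
    { (inferInstance : Group ↥(M T j)) with
      mul_comm := fun x y => Subtype.ext (s.M_comm x x.2 y y.2) }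
  have hall : ∀ i, a i ∈ Ai i ⊔ Li i := fun i => mem_sup_left (ha i)
  have hxl : ∀ i, ⁅a i, l i⁆ ∈ Ai i ⊔ Li i := by
    intro i
    rw [commutatorElement_def]
    exact mul_mem (mul_mem (mul_mem (hall i) (mem_sup_right (hl i))) (inv_mem (hall i))) (inv_mem (mem_sup_right (hl i)))
  have hxF : ∀ i, ⁅a i, l i⁆ ∈ F := by
    intro i
    have hlF : l i ∈ F := (h1 i).2.2.1 (hl i)
    rw [commutatorElement_def]
    exact mul_mem (hFn.conj_mem _ hlF _) (inv_mem hlF)
  have hlift : ∀ i, ∃ w ∈ Wg W, QuotientGroup.mk' (C T j) w = a i := fun i => (h1 i).1 (ha i)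
  choose w hw hwa using hlift
  have key := card_ge_of_dihedral (M := ↥(M T j)) (U := (Z T 3).subgroupOf (M T j)) (ι := Fin d)
    (fun m => Subtype.ext (by rw [← pow_two]; exact s.M_sq m m.2))
    (fun i => rho T j (a i)) (fun i => rho T j ⁅a i, l i⁆) (by
      intro i m
      rw [mem_subgroupOf]
      show ((rho T j (a i) m : ↥(M T j)) : G) * (m : G)⁻¹ ∈ Z T 3
      rw [← hwa i, rho_mk]
      exact Wg_comm_mem s.toSet1 (hw i) (s.C_le_W (s.M_le_C m.2))) (by
      intro i u hu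
      apply Subtype.ext
      rw [← hwa i, rho_mk]
      have h5 := s.toSet1.Wg_comm (hw i) (mem_subgroupOf.1 hu)
      rw [← h5, mul_inv_cancel_right]) (by
      intro i
      rw [← map_inv, ← map_inv, ← map_mul, ← map_mul, hinv i]) (by
      intro i
      refine ⟨Nat.card F, hFodd, ?_⟩
      rw [← map_pow]
      have h5 : (⟨⁅a i, l i⁆, hxF i⟩ : ↥F) ^ Nat.card F = 1 := pow_card_eq_one'
      have h6 : ⁅a i, l i⁆ ^ Nat.card F = 1 := congrArg Subtype.val h5
      rw [h6, map_one]) (by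
      intro i h5
      apply hne i
      apply rho_injective
      rw [h5, map_one]) (by
      intro i k hik
      rw [← map_mul, ← map_mul]
      congr 1
      exact h3 k i (Ne.symm hik) _ (hxl k) _ (hall i))
  rw [Nat.card_fin] at key
  have h5 : Nat.card ((Z T 3).subgroupOf (M T j)) = 2 ^ 3 := by
    rw [Nat.card_congr (subgroupOfEquivOfLe s.Z3_le_M).toEquiv]
    exact s.toSet1.card_Z (by norm_num)
  rw [h5] at key
  have := (Nat.pow_le_pow_iff_right (by norm_num : 1 < 2)).1 key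
  omega

end Sit

end Cfsg.Agent.H302.Rv
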