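import Cfsg.Agent.H302.RvRtwo
import Cfsg.Agent.H302.RvFone
import Cfsg.Agent.StdL2.G23Aut
import Cfsg.Agent.BpAlt.Row

/-!
# Groups of Rudvalis type: `Z_3` normal (helper302)
-/

set_option autoImplicit false
set_option linter.style.haveILetI false
set_option linter.unnecessarySimpa false
set_option linter.unusedSectionVars false

namespace Cfsg.Agent.H302.Rv

open Subgroup Cfsg Cfsg.Agent.H303 Cfsg.Agent.H303.RuMain
open Set1
open scoped commutatorElement

universe u

local notation "Zu" => Subgroup.upperCentralSeries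

/-- Burnside's theorem for a normal subgroup with trivial odd core -/
theorem le_of_burnside' {G : Type*} [Group G] [Finite G] (T : Sylow 2 G) {E : Subgroup G}
    (hE : E.Normal) (hO : E ⊓ oddCore G = ⊥)
    (hc : ∀ x ∈ (T : Subgroup G) ⊓ E, ∀ y ∈ E, y ∈ normalizer (((T : Subgroup G) ⊓ E : Subgroup G) : Set G) →
      x * y = y * x) : E ≤ (T : Subgroup G) := by
  have : Fact (Nat.Prime 2) := ⟨Nat.prime_two⟩
  obtain ⟨P, hP⟩ := Cfsg.Agent.SylowL.CompFacts.exists_sylow T (show E.IsSubnormal from hE.isSubnormal)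
  have hmem : ∀ x : ↥E, x ∈ (P : Subgroup ↥E) ↔ (x : G) ∈ (T : Subgroup G) ⊓ E := by
    intro x
    rw [hP, mem_subgroupOf]
    exact ⟨fun h => ⟨h, x.2⟩, fun h => h.1⟩
  have hb : normalizer ((P : Subgroup ↥E) : Set ↥E) ≤ centralizer ((P : Subgroup ↥E) : Set ↥E) := by
    intro y hy
    rw [mem_centralizer_iff]
    intro x hx
    have hy' : (y : G) ∈ normalizer (((T : Subgroup G) ⊓ E : Subgroup G) : Set G) := by
      rw [mem_normalizer_iff]
      intro z
      constructor
      · intro hz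
        have h1 : (⟨z, hz.2⟩ : ↥E) ∈ (P : Subgroup ↥E) := (hmem _).2 hz
        have h2 := (mem_normalizer_iff.1 hy _).1 h1
        exact (hmem _).1 h2
      · intro hz
        have h0 : z ∈ E := by
          have h1 := hE.conj_mem _ hz.2 (y : G)⁻¹
          have e : (y : G)⁻¹ * ((y : G) * z * (y : G)⁻¹) * (y : G)⁻¹⁻¹ = z := by group
          rwa [e] at h1
        have h2 := (mem_normalizer_iff.1 hy ⟨z, h0⟩).2 ((hmem _).2 hz)
        exact (hmem _).1 h2
    exact Subtype.ext (hc x ((hmem x).1 hx) y y.2 hy')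
  have hcompl := MonoidHom.ker_transferSylow_isComplement' P hb
  set K := (MonoidHom.transferSylow P hb).ker with hK
  have hKc : Nat.card K = (P : Subgroup ↥E).index := hcompl.index_eq_card.symm
  have hK1 : K = ⊥ := by
    have h1 : K ≤ pPrimeCore 2 ↥E := by
      apply Lib.Cores.le_pPrimeCore inferInstance
      rw [hKc, Nat.coprime_comm, Nat.Prime.coprime_iff_not_dvd Nat.prime_two]
      exact P.not_dvd_index
    have h2 := Lib.Cores.map_subtype_pPrimeCore 2 hE
    have h3 : E ⊓ pPrimeCore 2 G = ⊥ := hO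
    rw [h3, Subgroup.map_eq_bot_iff, ker_subtype, le_bot_iff] at h2
    rw [h2] at h1
    exact le_bot_iff.1 h1
  have hP1 : (P : Subgroup ↥E) = ⊤ := by
    rw [← Subgroup.index_eq_one, ← hKc, hK1, Subgroup.card_bot]
  intro x hx
  have h1 : (⟨x, hx⟩ : ↥E) ∈ (P : Subgroup ↥E) := by rw [hP1]; exact mem_top _
  exact ((hmem _).1 h1).1

namespace Set1

variable {G : Type u} [Group G] [Finite G] {T : Sylow 2 G} {W : Subgroup ↥(T : Subgroup G)}

theorem Z3_facts (s : Set1 T W) : (∀ v : ↥(Z T 3), v * v = 1) ∧ (∀ x y : ↥(Z T 3), x * y = y * x) := by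
  have h1 : ∀ v : ↥(Z T 3), v * v = 1 := by
    rintro ⟨_, y, hy, rfl⟩
    apply Subtype.ext
    have h2 := s.h.sq_Z3 y hy
    rw [pow_two] at h2
    exact congrArg (fun w : ↥(T : Subgroup G) => (w : G)) h2
  refine ⟨h1, fun x y => ?_⟩
  have h2 : x⁻¹ = x := inv_eq_of_mul_eq_one_left (h1 x)
  have h3 : y⁻¹ = y := inv_eq_of_mul_eq_one_left (h1 y)
  have h4 : (x * y)⁻¹ = x * y := inv_eq_of_mul_eq_one_left (h1 (x * y))
  rw [mul_inv_rev, h2, h3] at h4
  exact h4.symm

/-- `T ∩ C_G(Z_3) = W` -/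
theorem inf_cent (s : Set1 T W) : (T : Subgroup G) ⊓ centralizer (Z T 3 : Set G) = Wg W := by
  ext x
  constructor
  · intro hx
    obtain ⟨h1, h2⟩ := mem_inf.1 hx
    exact s.mem_Wg_of h1 (fun z hz => mem_centralizer_iff.1 h2 z hz)
  · intro hx
    exact mem_inf.2 ⟨Wg_le hx, mem_centralizer_iff.2 fun z hz => s.Wg_comm hx hz⟩

theorem ker_conj {N : Subgroup G} [hN : N.Normal] : (MulAut.conjNormal (H := N) : G →* MulAut ↥N).ker =
    centralizer (N : Set G) := by
  ext x
  rw [MonoidHom.mem_ker, mem_centralizer_iff]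
  constructor
  · intro hx y hy
    have h2 := congrArg Subtype.val (DFunLike.congr_fun hx ⟨y, hy⟩)
    have h3 : x * y * x⁻¹ = y := h2
    exact (mul_inv_eq_iff_eq_mul.1 h3).symm
  · intro hx
    ext y
    show x * (y : G) * x⁻¹ = y
    rw [← hx y y.2, mul_inv_cancel_right]

theorem card_aut (s : Set1 T W) : Nat.card (MulAut ↥(Z T 3)) = 168 := by
  obtain ⟨e⟩ := Cfsg.Agent.StdL2.G23Aut.equiv_GL s.Z3_facts.1 (s.card_Z (j := 3) (by norm_num))
  rw [Nat.card_congr e.toEquiv]
  exact Cfsg.Agent.StdL2.G23Aut.card_GL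

/-- `G` induces all automorphisms of `Z_3`. -/
theorem surj (s : Set1 T W) [h3 : (Z T 3).Normal] :
    Function.Surjective (MulAut.conjNormal (H := Z T 3) : G →* MulAut ↥(Z T 3)) := by
  have hsn := s.sn
  rw [← MonoidHom.range_eq_top]
  set f : G →* MulAut ↥(Z T 3) := MulAut.conjNormal (H := Z T 3) with hf
  have hker : f.ker = centralizer (Z T 3 : Set G) := ker_conj
  have h8 : 8 ∣ Nat.card f.range := by
    rw [← Subgroup.index_ker, hker]
    have h1 : (centralizer (Z T 3 : Set G)).relIndex (T : Subgroup G) ∣ (centralizer (Z T 3 : Set G)).index :=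
      Subgroup.relIndex_dvd_index_of_normal _ _
    have h2 : (centralizer (Z T 3 : Set G)).relIndex (T : Subgroup G) = 8 := by
      rw [← Subgroup.inf_relIndex_left, s.inf_cent]
      have h3 := s.h.orders.1
      rw [← h3]
      show ((Wg W).subgroupOf (T : Subgroup G)).index = _
      congr 1
      ext x
      rw [mem_subgroupOf, mem_Wg]
      exact ⟨fun ⟨_, h⟩ => h, fun h => ⟨x.2, h⟩⟩
    rwa [h2] at h1
  have h168 : Nat.card f.range ∣ 168 := by
    rw [← s.card_aut]
    exact Subgroup.card_subgroup_dvd_card _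
  by_contra hne
  have hlt : Nat.card f.range < 168 := by
    refine lt_of_le_of_ne (Nat.le_of_dvd (by norm_num) h168) fun h => hne ?_
    apply Subgroup.eq_top_of_card_eq
    rw [h, s.card_aut]
  have h60 : Nat.card f.range < 60 := by
    obtain ⟨k, hk⟩ := h168
    obtain ⟨m, hm⟩ := h8
    have hk2 : 2 ≤ k := by
      by_contra hcon
      interval_cases k <;> omega
    by_contra hcon
    have hk3 : k < 3 := by
      by_contra hc
      have : 60 * 3 ≤ Nat.card f.range * k := Nat.mul_le_mul (by omega) (by omega)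
      omega
    have hk' : k = 2 := by omega
    rw [hk'] at hk
    omega
  have hsol : Group.IsSolvable f.range := Cfsg.Agent.BpAlt.solvable_of_lt _ _ rfl h60
  have h1 := le_ker T hsn s.two f hsol
  rw [hker] at h1
  have h2 := s.inf_cent
  rw [inf_eq_left.2 h1] at h2
  have h3 := s.card_T
  have h4 : Nat.card (Wg W) = 2 ^ 11 := by
    rw [← s.h.orders.2.2.2]
    exact Subgroup.card_map_of_injective (T : Subgroup G).subtype_injective
  rw [h2, h4] at h3
  norm_num at h3

/-- **`C_G(Z_3) = W`** -/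
theorem cent_eq (s : Set1 T W) [h3 : (Z T 3).Normal] : centralizer (Z T 3 : Set G) = Wg W := by
  have : Fact (Nat.Prime 2) := ⟨Nat.prime_two⟩
  have hsn := s.sn
  set Z₃ : Subgroup G := Z T 3 with hZ₃
  set Cz : Subgroup G := centralizer (Z₃ : Set G) with hCz
  have hCzn : Cz.Normal := inferInstance
  have hZc : ∀ x ∈ Z₃, ∀ y ∈ Cz, x * y = y * x := fun x hx y hy => mem_centralizer_iff.1 hy x hx
  have hZCz : Z₃ ≤ Cz := by
    intro x hx
    rw [hCz, mem_centralizer_iff]
    intro y hy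
    exact congrArg Subtype.val (s.Z3_facts.2 ⟨y, hy⟩ ⟨x, hx⟩)
  have hZT : Z₃ ≤ (T : Subgroup G) := Z_le
  have hcZ : Nat.card Z₃ = 8 := s.card_Z (j := 3) (by norm_num)
  let π : G →* G ⧸ Z₃ := QuotientGroup.mk' Z₃
  have hπ : Function.Surjective π := QuotientGroup.mk'_surjective Z₃
  have hπ1 : ∀ x, π x = 1 ↔ x ∈ Z₃ := fun x => QuotientGroup.eq_one_iff x
  let T' : Sylow 2 (G ⧸ Z₃) := T.mapSurjective hπ
  have hT' : (T' : Subgroup (G ⧸ Z₃)) = (T : Subgroup G).map π := rfl
  have hmemT : ∀ x, π x ∈ (T : Subgroup G).map π ↔ x ∈ (T : Subgroup G) := by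
    intro x
    constructor
    · rintro ⟨t, ht, htx⟩
      have h1 : t⁻¹ * x ∈ Z₃ := by
        rw [← hπ1, map_mul, map_inv, htx, inv_mul_cancel]
      have e : x = t * (t⁻¹ * x) := by group
      rw [e]
      exact mul_mem ht (hZT h1)
    · exact fun hx => ⟨x, hx, rfl⟩
  have hmemC : ∀ x, π x ∈ Cz.map π ↔ x ∈ Cz := by
    intro x
    constructor
    · rintro ⟨t, ht, htx⟩
      have h1 : t⁻¹ * x ∈ Z₃ := by
        rw [← hπ1, map_mul, map_inv, htx, inv_mul_cancel]
      have e : x = t * (t⁻¹ * x) := by group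
      rw [e]
      exact mul_mem ht (hZCz h1)
    · exact fun hx => ⟨x, hx, rfl⟩
  have hEn : (Cz.map π).Normal := hCzn.map _ hπ
  -- `T ∩ E = V`
  have hVe : ∀ x, π x ∈ (T' : Subgroup (G ⧸ Z₃)) ⊓ Cz.map π ↔ x ∈ Wg W := by
    intro x
    rw [mem_inf, hT', hmemT, hmemC, ← mem_inf, hCz, hZ₃, s.inf_cent]
  have hcardV : Nat.card ((T' : Subgroup (G ⧸ Z₃)) ⊓ Cz.map π : Subgroup _) = 2 ^ 8 := by
    have h1 : (T' : Subgroup (G ⧸ Z₃)) ⊓ Cz.map π = (Wg W).map π := by
      ext xb
      obtain ⟨x, rfl⟩ := hπ xb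
      rw [hVe]
      constructor
      · exact fun hx => ⟨x, hx, rfl⟩
      · rintro ⟨w, hw, hwx⟩
        have h1 : w⁻¹ * x ∈ Z₃ := by
          rw [← hπ1, map_mul, map_inv, hwx, inv_mul_cancel]
        have e : x = w * (w⁻¹ * x) := by group
        have h2 : w⁻¹ * x ∈ Wg W := by
          rw [← s.inf_cent]
          exact mem_inf.2 ⟨hZT h1, hZCz h1⟩
        rw [e]
        exact mul_mem hw h2
    rw [h1]
    have h2 : ((Wg W).map π).index = (Wg W).index := by
      apply Subgroup.index_map_eq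
      · exact hπ
      · rw [QuotientGroup.ker_mk', ← s.inf_cent]
        exact le_inf hZT hZCz
    have h3 := ((Wg W).map π).card_mul_index
    have h4 := (Wg W).card_mul_index
    have h5 := Z₃.card_mul_index
    have h6 : Z₃.index = Nat.card (G ⧸ Z₃) := rfl
    have h7 : Nat.card (Wg W) = 2 ^ 11 := by
      rw [← s.h.orders.2.2.2]
      exact Subgroup.card_map_of_injective (T : Subgroup G).subtype_injective
    rw [h2] at h3
    rw [h6, ← h3, ← h4, h7, hcZ] at h5
    have h8 : 0 < (Wg W).index := Nat.pos_of_ne_zero Subgroup.index_ne_zero_of_finite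
    apply Nat.eq_of_mul_eq_mul_right h8
    have h9 : (2 : ℕ) ^ 11 = 8 * 2 ^ 8 := by norm_num
    rw [h9] at h5
    have h10 : 8 * (Nat.card ((Wg W).map π) * (Wg W).index) = 8 * (2 ^ 8 * (Wg W).index) := by
      rw [h5]; ring
    exact Nat.eq_of_mul_eq_mul_left (by norm_num) h10
  -- the action
  let g : G ⧸ Z₃ →* MulAut ↥Z₃ := QuotientGroup.lift Z₃ (MulAut.conjNormal (H := Z₃)) (by
    intro x hx
    have h1 : x ∈ (MulAut.conjNormal (H := Z₃) : G →* MulAut ↥Z₃).ker := by
      rw [ker_conj]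
      exact hZCz hx
    exact h1)
  have hgπ : ∀ x, g (π x) = MulAut.conjNormal (H := Z₃) x := fun x => rfl
  have hg : Function.Surjective g := by
    intro a
    obtain ⟨x, hx⟩ := s.surj a
    exact ⟨π x, hx⟩
  have hgk : g.ker = Cz.map π := by
    ext xb
    obtain ⟨x, rfl⟩ := hπ xb
    rw [hmemC, MonoidHom.mem_ker, hgπ, ← MonoidHom.mem_ker, ker_conj]
  -- `z`
  obtain ⟨e, he, he3⟩ : ∃ e ∈ Z T 4, e ∉ Z₃ := by
    by_contra hcon
    push Not at hcon
    have h1 := Subgroup.card_le_of_le (show Z T 4 ≤ Z₃ from hcon)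
    rw [s.card_Z (j := 4) le_rfl, hcZ] at h1
    norm_num at h1
  have key := fun (y : G ⧸ Z₃) => norm_central (y := y) T' (SN.map T hsn Z₃) hEn
    (Cfsg.Agent.StdL2.G23Aut.simple_aut s.Z3_facts.1 (s.card_Z (j := 3) (by norm_num))) g hg hgk
    (by rw [s.card_aut]; norm_num) hcardV (by
      intro xb hx yb hy
      obtain ⟨x, rfl⟩ := hπ xb
      obtain ⟨y, rfl⟩ := hπ yb
      rw [← commutatorElement_eq_one_iff_mul_comm, ← map_commutatorElement, hπ1]
      exact Sit.Wg_comm_mem s ((hVe x).1 hx) ((hVe y).1 hy)) (by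
      intro xb hx
      obtain ⟨x, rfl⟩ := hπ xb
      rw [← map_pow, hπ1]
      exact Sit.Wg_sq_mem s ((hVe x).1 hx)) (z := π e) (by
      rw [Ne, hπ1]; exact he3) (by
      intro U hU hU1 hUT
      have h1 : Z T 4 ≤ U.comap π := by
        have hin : U.comap π ≤ (T : Subgroup G) := by
          intro x hx
          exact Wg_le ((hVe x).1 (hU hx))
        apply s.Z_le_of
        · intro t ht x hx
          rw [mem_comap, map_mul, map_mul, map_inv]
          exact hUT _ ((hmemT t).2 ht) _ hx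
        · exact le_rfl
        · rw [inf_eq_right.2 hin]
          obtain ⟨n, -, hn⟩ := s.exists_pow hin
          rw [hn]
          have h2 : Z₃ < U.comap π := by
            refine lt_of_le_of_ne ?_ ?_
            · intro x hx
              rw [mem_comap, (hπ1 x).2 hx]
              exact one_mem _
            · intro h2
              apply hU1
              rw [eq_bot_iff]
              intro ub hu
              obtain ⟨u, rfl⟩ := hπ ub
              have h3 : u ∈ U.comap π := hu
              rw [← h2] at h3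
              rw [mem_bot, hπ1]
              exact h3
          have h3 : Nat.card Z₃ < Nat.card ↥(U.comap π) := by
            by_contra hcon
            exact h2.ne (Subgroup.eq_of_le_of_card_ge h2.le (not_lt.1 hcon))
          rw [hn, hcZ] at h3
          have h4 : 3 < n := by
            by_contra hcon
            have := Nat.pow_le_pow_right (show 0 < 2 by norm_num) (show n ≤ 3 by omega)
            omega
          exact Nat.pow_le_pow_right (by norm_num) h4
      exact h1 he)
  -- the odd core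
  have hodd : Cz.map π ⊓ oddCore (G ⧸ Z₃) = ⊥ := by
    have hon : (oddCore (G ⧸ Z₃)).Normal := Lib.Cores.pPrimeCore_normal 2
    set L := Cz.map π ⊓ oddCore (G ⧸ Z₃) with hL
    have hLn : L.Normal := inferInstance
    have hLo : (Nat.card L).Coprime 2 :=
      (Lib.Cores.pPrimeCore_coprime (G := G ⧸ Z₃) 2).coprime_dvd_left (Subgroup.card_dvd_of_le inf_le_right)
    have hLC : L.comap π ≤ Cz := fun x hx => (hmemC x).1 hx.1
    have hTL : ∀ x ∈ (T : Subgroup G) ⊓ L.comap π, x ∈ Z₃ := by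
      rintro x ⟨hxT, hxL⟩
      rw [← hπ1]
      obtain ⟨k, hk⟩ := T.2 ⟨x, hxT⟩
      have h3 : x ^ 2 ^ k = 1 := congrArg Subtype.val hk
      have h4 : π x ^ 2 ^ k = 1 := by rw [← map_pow, h3, map_one]
      have h5 : π x ^ Nat.card L = 1 := by
        have h6 : (⟨π x, hxL⟩ : ↥L) ^ Nat.card L = 1 := pow_card_eq_one'
        exact congrArg Subtype.val h6
      have h6 : Nat.gcd (2 ^ k) (Nat.card L) = 1 := Nat.Coprime.pow_left _ hLo.symm
      have h7 := pow_gcd_eq_one.2 ⟨h4, h5⟩
      rwa [h6, pow_one] at h7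
    have h1 : L.comap π ≤ (T : Subgroup G) := by
      refine le_of_burnside T s.core (inferInstance) (fun x hx y hy _ => ?_)
      exact hZc x (hTL x hx) y (hLC hy)
    rw [eq_bot_iff]
    intro xb hx
    obtain ⟨x, rfl⟩ := hπ xb
    rw [mem_bot, hπ1]
    exact hTL x ⟨h1 hx, hx⟩
  have hfin : Cz.map π ≤ (T' : Subgroup (G ⧸ Z₃)) := by
    refine le_of_burnside' T' hEn hodd (fun x hx y hy hyN => ?_)
    exact key y hy hyN x hx
  have hCT : Cz ≤ (T : Subgroup G) := fun x hx => (hmemT x).1 (hfin ⟨x, hx, rfl⟩)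
  rw [← s.inf_cent]
  exact (inf_eq_right.2 hCT).symm

/-- **The conclusion in the case `Z_3 ⊴ G`.** -/
theorem step3 (s : Set1 T W) (h3 : (Z T 3).Normal) :
    ∃ _ : (Wg W).Normal, Nonempty (G ⧸ Wg W ≃* GL (Fin 3) (ZMod 2)) := by
  have h1 : (Wg W).Normal := by
    rw [← s.cent_eq]
    infer_instance
  refine ⟨h1, ?_⟩
  obtain ⟨e⟩ := Cfsg.Agent.StdL2.G23Aut.equiv_GL s.Z3_facts.1 (s.card_Z (j := 3) (by norm_num))
  have h2 : Wg W = (MulAut.conjNormal (H := Z T 3) : G →* MulAut ↥(Z T 3)).ker := by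
    rw [ker_conj, s.cent_eq]
  exact ⟨((QuotientGroup.quotientMulEquivOfEq h2).trans
    (QuotientGroup.quotientKerEquivOfSurjective _ s.surj)).trans e⟩

end Set1

end Cfsg.Agent.H302.Rv
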