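import Cfsg.Agent.H302.RvFend
import Cfsg.Agent.H302.RvRthree
import Cfsg.Agent.H302.RvOneEnd

/-!
# Groups of Rudvalis type: the theorem, modulo the inputs (helper302)
-/

set_option autoImplicit false
set_option linter.style.haveILetI false
set_option linter.unnecessarySimpa false
set_option linter.unusedSectionVars false

namespace Cfsg.Agent.H302.Rv

open Subgroup Cfsg Cfsg.Agent.H303 Cfsg.Agent.H303.RuMain
open Set1
open scoped commutatorElement

universe u

local notation "Zu" => Subgroup.upperCentralSeries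

theorem Set1.main {G : Type u} [Group G] [Finite G] {T : Sylow 2 G} {W : Subgroup ↥(T : Subgroup G)} (s : Set1 T W)
    (hT : Cfsg.Agent.OrdDiv.OrderTable.{u}) (hND : NoDouble.{u})
    (hRu : ∀ α : MulAut Cfsg.Spor.Ru, ∃ g, α = MulAut.conj g) :
    Cfsg.Spor.IsoRu G ∨ ∃ _ : (Wg W).Normal, Nonempty (G ⧸ Wg W ≃* GL (Fin 3) (ZMod 2)) := by
  by_cases h3 : (Z T 3).Normal
  · exact Or.inr (s.step3 h3)
  · left
    have hn : (pCore 2 G).Normal := Lib.Cores.pCore_normal 2
    rcases s.le_or (N := pCore 2 G) (fun t _ x hx => hn.conj_mem x hx t) (j := 1) (by norm_num) with h1 | h1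
    · rw [inf_eq_right.2 Set1.pCore_le] at h1
      have o : One T W := { s with le := h1 }
      by_cases hb : pCore 2 G = ⊥
      · exact o.ru hb hRu
      · exact (o.no_double hb hND).elim
    · exfalso
      by_cases h0 : (Z T 1).Normal
      · exact Sit.false (j := 1) { s with hj := le_rfl, nj := h0, nj1 := s.Z2_not_normal, n3 := h3, le2 := h1 } hT
      · exact Sit.false (j := 0) { s with
          hj := by norm_num, nj := by rw [Set1.Z_zero]; infer_instance, nj1 := h0, n3 := h3, le2 := h1 } hT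

theorem final {G : Type u} [Group G] [Finite G] (hI : Inp.{u}) (hTab : Cfsg.Agent.OrdDiv.OrderTable.{u})
    (hND : NoDouble.{u}) (hRu : ∀ α : MulAut Cfsg.Spor.Ru, ∃ g, α = MulAut.conj g) (T : Sylow 2 G)
    {W : Subgroup ↥(T : Subgroup G)} (h : Hyp ↥(T : Subgroup G) W) (h2 : ∀ H : Subgroup G, H.index ≠ 2) :
    Cfsg.Spor.IsoRu (G ⧸ Cfsg.oddCore G) ∨
      ∃ (N : Subgroup G) (_ : N.Normal), N = Cfsg.oddCore G ⊔ W.map (T : Subgroup G).subtype ∧
        Nonempty (G ⧸ N ≃* GL (Fin 3) (ZMod 2)) := by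
  have : Fact (Nat.Prime 2) := ⟨Nat.prime_two⟩
  have hOn : (oddCore G).Normal := Lib.Cores.pPrimeCore_normal 2
  have hcop : (Nat.card (oddCore G)).Coprime 2 := Lib.Cores.pPrimeCore_coprime (G := G) 2
  let π : G →* G ⧸ oddCore G := QuotientGroup.mk' (oddCore G)
  have hπ : Function.Surjective π := QuotientGroup.mk'_surjective _
  have hπk : π.ker = oddCore G := QuotientGroup.ker_mk' _
  have hinf : (T : Subgroup G) ⊓ oddCore G = ⊥ := by
    obtain ⟨n, hn⟩ := IsPGroup.iff_card.1 T.2
    apply (Subgroup.disjoint_of_coprime_natCard _).eq_bot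
    rw [hn]
    exact Nat.Coprime.pow_left _ hcop.symm
  let T' : Sylow 2 (G ⧸ oddCore G) := T.mapSurjective hπ
  have hT'c : (T' : Subgroup (G ⧸ oddCore G)) = (T : Subgroup G).map π := rfl
  let f : ↥(T : Subgroup G) →* ↥(T' : Subgroup (G ⧸ oddCore G)) := π.subgroupMap (T : Subgroup G)
  have hf : Function.Bijective f := by
    refine ⟨?_, π.subgroupMap_surjective _⟩
    rw [injective_iff_map_eq_one]
    intro x hx
    have h3 : π x = 1 := congrArg Subtype.val hx
    have h4 : (x : G) ∈ (T : Subgroup G) ⊓ oddCore G := ⟨x.2, (QuotientGroup.eq_one_iff _).1 h3⟩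
    rw [hinf, mem_bot] at h4
    exact Subtype.ext h4
  let e : ↥(T : Subgroup G) ≃* ↥(T' : Subgroup (G ⧸ oddCore G)) := MulEquiv.ofBijective f hf
  have he : ∀ x, ((e x : ↥(T' : Subgroup (G ⧸ oddCore G))) : G ⧸ oddCore G) = π x := fun x => rfl
  have hW' := h.congr e
  have s : Set1 T' (W.map e.toMonoidHom) :=
    { h := hW'
      core := Lib.Cores.pPrimeCore_quotient_pPrimeCore (G := G) 2
      two := no_index_two_quot h2 (oddCore G)
      inp := hI }
  rcases s.main hTab hND hRu with hr | ⟨hn, ⟨eg⟩⟩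
  · exact Or.inl hr
  · right
    have hmap : Wg (W.map e.toMonoidHom) = (W.map (T : Subgroup G).subtype).map π := by
      ext x
      constructor
      · rintro ⟨_, ⟨w, hw, rfl⟩, rfl⟩
        exact ⟨w, ⟨w, hw, rfl⟩, (he w).symm⟩
      · rintro ⟨_, ⟨w, hw, rfl⟩, rfl⟩
        exact ⟨e w, ⟨w, hw, rfl⟩, he w⟩
    have hN : (Wg (W.map e.toMonoidHom)).comap π = oddCore G ⊔ W.map (T : Subgroup G).subtype := by
      rw [hmap, Subgroup.comap_map_eq, hπk, sup_comm]
    have hNn : (oddCore G ⊔ W.map (T : Subgroup G).subtype).Normal := by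
      rw [← hN]
      infer_instance
    refine ⟨oddCore G ⊔ W.map (T : Subgroup G).subtype, hNn, rfl, ?_⟩
    let F : G →* (G ⧸ oddCore G) ⧸ Wg (W.map e.toMonoidHom) := (QuotientGroup.mk' _).comp π
    have hF : Function.Surjective F := (QuotientGroup.mk'_surjective _).comp hπ
    have hFk : oddCore G ⊔ W.map (T : Subgroup G).subtype = F.ker := by
      rw [← hN]
      ext x
      show π x ∈ Wg (W.map e.toMonoidHom) ↔ QuotientGroup.mk' (Wg (W.map e.toMonoidHom)) (π x) = 1
      exact (QuotientGroup.eq_one_iff _).symm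
    exact ⟨((QuotientGroup.quotientMulEquivOfEq hFk).trans
      (QuotientGroup.quotientKerEquivOfSurjective F hF)).trans eg⟩

end Cfsg.Agent.H302.Rv
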