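import Mathlib
import Cfsg.Agent.H303.RuFinal
import Cfsg.Agent.H303.RsKill

/-!
# 2-groups of Rudvalis type: generation, coinvariants, normal subgroups (helper302)
-/

set_option autoImplicit false
set_option linter.style.haveILetI false
set_option linter.unnecessarySimpa false

namespace Cfsg.Agent.H302.Rv

open Subgroup Cfsg.Agent.H303 Cfsg.Agent.H303.RuMain
open scoped commutatorElement

local notation "Zu" => Subgroup.upperCentralSeries

variable {T : Type*} [Group T] {W : Subgroup T}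

theorem comm_mem_of (h : Hyp T W) {x y : T} (hx : x ∈ W) : ⁅y, x⁆ ∈ W := by
  rw [commutatorElement_def]
  exact mul_mem (h.normalW.conj_mem x hx y) (inv_mem hx)

/-- normal subgroups: `N ≤ Z_j` or `Z_j ≤ N` -/
theorem le_or_le (h : Hyp T W) {N : Subgroup T} (hN : N.Normal) {j : ℕ} (hj : j ≤ 4) :
    N ≤ Zu T j ∨ Zu T j ≤ N := by
  have := h.fin
  rcases RuBase.le_or_card h.two N j with h1 | h1
  · exact Or.inl h1
  · right
    have h2 : N ⊓ Zu T j = Zu T j := Subgroup.eq_of_le_of_card_ge inf_le_right (by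
      rw [h.cardZ j hj]; exact h1)
    exact inf_eq_right.1 h2

theorem Zj_le (h : Hyp T W) {N : Subgroup T} (hN : N.Normal) {j : ℕ} (hj : j ≤ 4) (hc : 2 ^ j ≤ Nat.card N) :
    Zu T j ≤ N := by
  have := h.fin
  rcases le_or_le h hN hj with h1 | h1
  · exact (Subgroup.eq_of_le_of_card_ge h1 (by rw [h.cardZ j hj]; exact hc)).ge
  · exact h1

theorem le_Zj (h : Hyp T W) {N : Subgroup T} (hN : N.Normal) {j : ℕ} (hj : j ≤ 4) (hc : Nat.card N ≤ 2 ^ j) :
    N ≤ Zu T j := by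
  have := h.fin
  rcases le_or_le h hN hj with h1 | h1
  · exact h1
  · exact (Subgroup.eq_of_le_of_card_ge h1 (by rw [h.cardZ j hj]; exact hc)).ge

/-- orders of subgroups are powers of two -/
theorem exists_card (h : Hyp T W) (N : Subgroup T) : ∃ n ≤ 14, Nat.card N = 2 ^ n := by
  have := h.fin
  have : Fact (Nat.Prime 2) := ⟨Nat.prime_two⟩
  obtain ⟨n, hn⟩ := IsPGroup.iff_card.1 (h.two.to_subgroup N)
  refine ⟨n, ?_, hn⟩
  have h1 := Subgroup.card_subgroup_dvd_card N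
  rw [hn, h.orders.2.2.1] at h1
  exact (Nat.pow_dvd_pow_iff_le_right (by norm_num : 1 < 2)).1 h1

/-- **(d)**: subgroups of `W` with squares in a proper subgroup of `Z_3` are small. -/
theorem card_le_of_sq (h : Hyp T W) {C Y : Subgroup T} (hCW : C ≤ W) (hYZ : Y ≤ Zu T 3) (hY : ¬ Zu T 3 ≤ Y)
    (hsq : ∀ x ∈ C, x ^ 2 ∈ Y) : Nat.card C ≤ 2 ^ 7 := by
  have := h.fin
  by_contra hcon
  push Not at hcon
  obtain ⟨n, -, hn⟩ := exists_card h C
  have h8 : 2 ^ 8 ≤ Nat.card C := by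
    rw [hn] at hcon ⊢
    have : 7 < n := (Nat.pow_lt_pow_iff_right (by norm_num : 1 < 2)).1 hcon
    exact Nat.pow_le_pow_right (by norm_num) this
  have hidx : (C.subgroupOf W).index ≤ 8 := by
    have h1 := (C.subgroupOf W).card_mul_index
    rw [Nat.card_congr (Subgroup.subgroupOfEquivOfLe hCW).toEquiv, h.orders.2.2.2] at h1
    by_contra hc
    push Not at hc
    have h2 : 2 ^ 8 * 9 ≤ Nat.card C * (C.subgroupOf W).index := Nat.mul_le_mul h8 hc
    rw [h1] at h2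
    norm_num at h2
  have hYn : (Y.subgroupOf W).Normal := by
    refine ⟨fun y hy g => ?_⟩
    rw [mem_subgroupOf] at hy ⊢
    have h1 : (g : T) * y * (g : T)⁻¹ = y := by
      have := h.comm_Z3_W (hYZ hy) g.2
      rw [← this, mul_inv_cancel_right]
    show (g : T) * y * (g : T)⁻¹ ∈ Y
    rw [h1]; exact hy
  have hle := h.frattini_le (C.subgroupOf W) (Y.subgroupOf W) hidx (fun y hy => by
    rw [mem_subgroupOf] at hy ⊢
    exact hsq _ hy)
  apply hY
  intro z hz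
  exact hle (h.mem_frattini hz)

/-- **generation** of `W` modulo `Z_3` by the conjugates of one element -/
theorem exists_gen (h : Hyp T W) : ∃ w₀ ∈ W, ∀ U : Subgroup T, Zu T 3 ≤ U → (∀ g : T, g * w₀ * g⁻¹ ∈ U) → W ≤ U := by
  have := h.fin
  have hVn := h.normalV
  have hcen : Nat.card ↥(Hyp.V W ⊓ center (T ⧸ Zu T 3)) ≤ 2 := by
    calc _ ≤ Nat.card ↥(center (T ⧸ Zu T 3)) := Subgroup.card_le_of_le inf_le_right
      _ = 2 := h.card_center_quot le_rfl
      _ ≤ 2 := le_rfl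
  obtain ⟨v₀, hv₀⟩ := RuBase.exists_generator (h.two.to_quotient (Zu T 3)) (Hyp.V W) (Hyp.V W)
    h.V_facts.1 h.V_facts.2.1 hcen (by rw [h.V_facts.2.2.1, h.V_facts.2.2.2])
  obtain ⟨w₀, hw₀, hw₀v⟩ := v₀.2
  refine ⟨w₀, hw₀, fun U hZU hU => ?_⟩
  -- the subgroup `U ∩ W` modulo `Z_3`
  letI : CommGroup ↥(Hyp.V W) :=
    { (inferInstance : Group ↥(Hyp.V W)) with
      mul_comm := fun a b => Subtype.ext (h.V_facts.2.1 a a.2 b b.2) }
  let A : Subgroup ↥(Hyp.V W) := (U.map (QuotientGroup.mk' (Zu T 3))).subgroupOf (Hyp.V W)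
  by_contra hcon
  obtain ⟨w, hw, hwU⟩ := Set.not_subset.1 hcon
  let w' : ↥(Hyp.V W) := ⟨QuotientGroup.mk' (Zu T 3) w, Hyp.mem_V hw⟩
  have hw'A : w' ∉ A := by
    intro hm
    obtain ⟨u, hu, hu'⟩ := mem_subgroupOf.1 hm
    have h1 : u⁻¹ * w ∈ Zu T 3 := Hyp.mk_eq_iff.1 hu'
    apply hwU
    have : w = u * (u⁻¹ * w) := by group
    rw [this]
    exact mul_mem hu (hZU h1)
  obtain ⟨f, hf⟩ := RuBase.exists_hom (E := ↥(Hyp.V W) ⧸ A) (by
    intro x
    obtain ⟨x, rfl⟩ := QuotientGroup.mk'_surjective A x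
    rw [← map_pow]
    have : x ^ 2 = 1 := Subtype.ext (h.V_facts.1 x x.2)
    rw [this, map_one]) (c := QuotientGroup.mk' A w') (by
    intro h1
    exact hw'A ((QuotientGroup.eq_one_iff w').1 h1))
  apply hf
  refine hv₀ (f.comp (QuotientGroup.mk' A)) (fun g' => ?_) w'
  obtain ⟨g, rfl⟩ := QuotientGroup.mk'_surjective (Zu T 3) g'
  have h1 : (⟨QuotientGroup.mk' (Zu T 3) g * v₀ * (QuotientGroup.mk' (Zu T 3) g)⁻¹,
      hVn.conj_mem v₀ v₀.2 _⟩ : ↥(Hyp.V W)) ∈ A := by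
    rw [mem_subgroupOf]
    refine ⟨g * w₀ * g⁻¹, hU g, ?_⟩
    rw [map_mul, map_mul, map_inv, hw₀v]
  have h2 : QuotientGroup.mk' A (⟨QuotientGroup.mk' (Zu T 3) g * v₀ * (QuotientGroup.mk' (Zu T 3) g)⁻¹,
      hVn.conj_mem v₀ v₀.2 _⟩ : ↥(Hyp.V W)) = 1 := (QuotientGroup.eq_one_iff _).2 h1
  rw [MonoidHom.comp_apply, h2, map_one]

theorem inj_sq_one : Function.Injective (fun x : {x : ℂˣ // x ^ 2 = 1} => decide ((x : ℂˣ) = 1)) := by
  have h1 : ∀ x : ℂˣ, x ^ 2 = 1 → x = 1 ∨ x = -1 := by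
    intro x hx
    have h2 : (x : ℂ) ^ 2 = 1 := by
      have := congrArg Units.val hx
      simpa using this
    rcases sq_eq_one_iff.1 h2 with h3 | h3
    · left; exact Units.ext h3
    · right; exact Units.ext (by simpa using h3)
  intro x y hxy
  simp only [decide_eq_decide] at hxy
  apply Subtype.ext
  rcases h1 x x.2 with hx | hx <;> rcases h1 y y.2 with hy | hy
  · rw [hx, hy]
  · rw [hxy.1 hx, hx]
  · rw [hxy.2 hy, hy]
  · rw [hx, hy]

theorem fin_sq_one : Finite {x : ℂˣ // x ^ 2 = 1} := Finite.of_injective _ inj_sq_one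

theorem card_sq_one : Nat.card {x : ℂˣ // x ^ 2 = 1} ≤ 2 := by
  calc Nat.card {x : ℂˣ // x ^ 2 = 1} ≤ Nat.card Bool := Nat.card_le_card_of_injective _ inj_sq_one
    _ = 2 := by simp

/-- **Coinvariants**: if `D` acts trivially on `W / U` then `|W : U| ≤ 2 ^ |T : D|`. -/
theorem coinv (h : Hyp T W) {D U : Subgroup T} (hZU : Zu T 3 ≤ U) (hUW : U ≤ W)
    (hDU : ∀ d ∈ D, ∀ w ∈ W, ⁅d, w⁆ ∈ U) : Nat.card W ≤ 2 ^ D.index * Nat.card U := by
  have := h.fin
  obtain ⟨w₀, hw₀, hgen⟩ := exists_gen h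
  set U' : Subgroup ↥W := U.subgroupOf W with hU'
  have hcU : ∀ x y : ↥W, ⁅x, y⁆ ∈ U' := by
    intro x y
    rw [hU', mem_subgroupOf]
    exact hZU (h.comm_W_mem x.2 y.2)
  have hUn : U'.Normal := by
    refine ⟨fun n hn g => ?_⟩
    have e : g * n * g⁻¹ = ⁅g, n⁆ * n := by rw [commutatorElement_def]; group
    rw [e]
    exact mul_mem (hcU _ _) hn
  letI : CommGroup (↥W ⧸ U') :=
    { (inferInstance : Group (↥W ⧸ U')) with
      mul_comm := by
        intro a b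
        obtain ⟨x, rfl⟩ := QuotientGroup.mk'_surjective U' a
        obtain ⟨y, rfl⟩ := QuotientGroup.mk'_surjective U' b
        rw [← commutatorElement_eq_one_iff_mul_comm, ← map_commutatorElement]
        exact (QuotientGroup.eq_one_iff _).2 (hcU x y) }
  have hsq : ∀ a : ↥W ⧸ U', a ^ 2 = 1 := by
    intro a
    obtain ⟨x, rfl⟩ := QuotientGroup.mk'_surjective U' a
    rw [← map_pow]
    refine (QuotientGroup.eq_one_iff _).2 ?_
    rw [hU', mem_subgroupOf]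
    exact hZU (h.sq_W_mem x.2)
  have : NeZero ((Monoid.exponent (↥W ⧸ U') : ℕ) : ℂ) := ⟨by
    exact_mod_cast Monoid.exponent_ne_zero_of_finite⟩
  have hdual : Nat.card ((↥W ⧸ U') →* ℂˣ) = Nat.card (↥W ⧸ U') :=
    CommGroup.card_monoidHom_of_hasEnoughRootsOfUnity (↥W ⧸ U') ℂ
  have hcj : ∀ g : T, g⁻¹ * w₀ * g ∈ W := fun g => by
    simpa using h.normalW.conj_mem w₀ hw₀ g⁻¹
  let F : ((↥W ⧸ U') →* ℂˣ) → (T ⧸ D → {x : ℂˣ // x ^ 2 = 1}) := fun χ q =>
    ⟨χ (QuotientGroup.mk' U' ⟨q.out⁻¹ * w₀ * q.out, hcj _⟩), by rw [← map_pow, hsq, map_one]⟩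
  have hF : Function.Injective F := by
    intro χ φ hχφ
    have hall : ∀ g : T, χ (QuotientGroup.mk' U' ⟨g⁻¹ * w₀ * g, hcj g⟩) =
        φ (QuotientGroup.mk' U' ⟨g⁻¹ * w₀ * g, hcj g⟩) := by
      intro g
      have h1 := congrArg Subtype.val (congrFun hχφ (QuotientGroup.mk g))
      have h2 : QuotientGroup.mk' U' (⟨(QuotientGroup.mk g : T ⧸ D).out⁻¹ * w₀ * (QuotientGroup.mk g : T ⧸ D).out,
          hcj _⟩ : ↥W) = QuotientGroup.mk' U' ⟨g⁻¹ * w₀ * g, hcj g⟩ := by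
        obtain ⟨d, hd⟩ := QuotientGroup.mk_out_eq_mul D g
        rw [QuotientGroup.mk'_eq_mk']
        refine ⟨(⟨(QuotientGroup.mk g : T ⧸ D).out⁻¹ * w₀ * (QuotientGroup.mk g : T ⧸ D).out, hcj _⟩ : ↥W)⁻¹ *
          ⟨g⁻¹ * w₀ * g, hcj g⟩, ?_, by group⟩
        rw [hU', mem_subgroupOf]
        show ((QuotientGroup.mk g : T ⧸ D).out⁻¹ * w₀ * (QuotientGroup.mk g : T ⧸ D).out)⁻¹ * (g⁻¹ * w₀ * g) ∈ U
        rw [hd]
        have e : ((g * (d : T))⁻¹ * w₀ * (g * (d : T)))⁻¹ * (g⁻¹ * w₀ * g) =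
            ⁅(d : T)⁻¹, (g⁻¹ * w₀ * g)⁻¹⁆ := by
          rw [commutatorElement_def]; group
        rw [e]
        exact hDU _ (inv_mem d.2) _ (inv_mem (hcj g))
      have h3 : (F χ (QuotientGroup.mk g) : ℂˣ) = (F φ (QuotientGroup.mk g) : ℂˣ) := h1
      show χ _ = φ _
      rw [← h2]
      exact h3
    -- the equalizer
    let E : Subgroup T := (((χ.comp (QuotientGroup.mk' U')).eqLocus (φ.comp (QuotientGroup.mk' U')))).map W.subtype
    have hE : W ≤ E := by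
      apply hgen E
      · intro z hz
        refine ⟨⟨z, h.Z3_le_W hz⟩, ?_, rfl⟩
        show χ (QuotientGroup.mk' U' ⟨z, _⟩) = φ (QuotientGroup.mk' U' ⟨z, _⟩)
        have : QuotientGroup.mk' U' (⟨z, h.Z3_le_W hz⟩ : ↥W) = 1 := (QuotientGroup.eq_one_iff _).2 (by
          rw [hU', mem_subgroupOf]; exact hZU hz)
        rw [this, map_one, map_one]
      · intro g
        refine ⟨⟨g * w₀ * g⁻¹, h.conj_W hw₀ g⟩, ?_, rfl⟩
        have := hall g⁻¹
        simp only [inv_inv] at this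
        exact this
    apply MonoidHom.ext
    intro a
    obtain ⟨x, rfl⟩ := QuotientGroup.mk'_surjective U' a
    obtain ⟨y, hy, hyx⟩ := hE x.2
    have hyx' : y = x := Subtype.ext hyx
    rw [hyx'] at hy
    exact hy
  have := fin_sq_one
  have h1 := Nat.card_le_card_of_injective F hF
  rw [hdual, Nat.card_fun] at h1
  have h2 : Nat.card {x : ℂˣ // x ^ 2 = 1} ^ Nat.card (T ⧸ D) ≤ 2 ^ D.index := by
    exact Nat.pow_le_pow_left card_sq_one _
  have h3 := U'.card_mul_index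
  have h4 : Nat.card U' = Nat.card U := Nat.card_congr (Subgroup.subgroupOfEquivOfLe hUW).toEquiv
  rw [h4] at h3
  have h5 : U'.index = Nat.card (↥W ⧸ U') := rfl
  rw [← h5] at h1
  calc Nat.card W = Nat.card U * U'.index := h3.symm
    _ ≤ Nat.card U * 2 ^ D.index := Nat.mul_le_mul_left _ (h1.trans h2)
    _ = 2 ^ D.index * Nat.card U := mul_comm _ _

end Cfsg.Agent.H302.Rv
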