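import Mathlib
import Cfsg.Agent.H302.RvT

/-!
# 2-groups of Rudvalis type: fixed points on `W / Z_3` (helper302)
-/

set_option autoImplicit false
set_option linter.style.haveILetI false
set_option linter.unnecessarySimpa false

namespace Cfsg.Agent.H302.Rv

open Subgroup Cfsg.Agent.H303 Cfsg.Agent.H303.RuMain
open scoped commutatorElement

local notation "Zu" => Subgroup.upperCentralSeries

/-! ### commutator calculus with an abelian normal subgroup of exponent two -/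

section Delta

variable {G : Type*} [Group G]

theorem dl_comp (t s x : G) : ⁅t * s, x⁆ = ⁅t, ⁅s, x⁆⁆ * ⁅s, x⁆ * ⁅t, x⁆ := by
  simp only [commutatorElement_def]; group

theorem dl_mem {V : Subgroup G} (hVn : V.Normal) (t : G) {x : G} (hx : x ∈ V) : ⁅t, x⁆ ∈ V := by
  rw [commutatorElement_def]
  exact mul_mem (hVn.conj_mem x hx t) (inv_mem hx)

theorem dl_mul {V : Subgroup G} (hVn : V.Normal) (hV : ∀ x ∈ V, ∀ y ∈ V, x * y = y * x) (t : G) {x y : G}
    (hx : x ∈ V) (hy : y ∈ V) : ⁅t, x * y⁆ = ⁅t, x⁆ * ⁅t, y⁆ := by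
  have h1 : ⁅t, x * y⁆ = ⁅t, x⁆ * (x * ⁅t, y⁆) * x⁻¹ := by simp only [commutatorElement_def]; group
  rw [h1, hV x hx _ (dl_mem hVn t hy)]
  group

theorem dl_inv {V : Subgroup G} (hVn : V.Normal) (h2 : ∀ x ∈ V, x ^ 2 = 1) (t : G) {x : G} (hx : x ∈ V) :
    ⁅t, x⁆⁻¹ = ⁅t, x⁆ := by
  have h1 := h2 _ (dl_mem hVn t hx)
  rw [pow_two] at h1
  exact inv_eq_of_mul_eq_one_left h1

theorem dl_comm {V : Subgroup G} (hVn : V.Normal) (hV : ∀ x ∈ V, ∀ y ∈ V, x * y = y * x)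
    {t s : G} (hts : ⁅t, s⁆ ∈ V) {x : G} (hx : x ∈ V) : ⁅t, ⁅s, x⁆⁆ = ⁅s, ⁅t, x⁆⁆ := by
  have hc : ∀ g : G, g * x * g⁻¹ ∈ V := fun g => hVn.conj_mem x hx g
  have e0 : (t * s) * x * (t * s)⁻¹ = (s * t) * x * (s * t)⁻¹ := by
    have h1 := hV _ hts _ (hc (s * t))
    calc (t * s) * x * (t * s)⁻¹ = ⁅t, s⁆ * ((s * t) * x * (s * t)⁻¹) * ⁅t, s⁆⁻¹ := by
          rw [commutatorElement_def]; group
      _ = (s * t) * x * (s * t)⁻¹ := by rw [h1]; group
  have e1 : ⁅t, ⁅s, x⁆⁆ = ((t * s) * x * (t * s)⁻¹) * ((t * x * t⁻¹)⁻¹ * (x * (s * x * s⁻¹)⁻¹)) := by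
    simp only [commutatorElement_def]; group
  have e2 : ⁅s, ⁅t, x⁆⁆ = ((s * t) * x * (s * t)⁻¹) * ((s * x * s⁻¹)⁻¹ * (x * (t * x * t⁻¹)⁻¹)) := by
    simp only [commutatorElement_def]; group
  rw [e1, e2, e0]
  congr 1
  have a1 := hV _ (inv_mem (hc t)) _ (mul_mem hx (inv_mem (hc s)))
  have a2 := hV _ hx _ (inv_mem (hc s))
  rw [a1, a2, mul_assoc]

theorem dl_self {V : Subgroup G} (hVn : V.Normal) (hV : ∀ x ∈ V, ∀ y ∈ V, x * y = y * x)
    (h2 : ∀ x ∈ V, x ^ 2 = 1) {t : G} (ht : t ^ 2 ∈ V) {x : G} (hx : x ∈ V) : ⁅t, ⁅t, x⁆⁆ = 1 := by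
  have h1 := dl_comp t t x
  have h3 : ⁅t * t, x⁆ = 1 := by
    rw [← pow_two, commutatorElement_eq_one_iff_mul_comm]
    exact hV _ ht _ hx
  have h4 := h2 _ (dl_mem hVn t hx)
  rw [h3, mul_assoc, ← pow_two, h4, mul_one] at h1
  exact h1.symm

end Delta

/-! ### in `T` -/

variable {T : Type*} [Group T] {W : Subgroup T}

local notation "mk3" => QuotientGroup.mk' (Subgroup.upperCentralSeries _ 3)

theorem mk3_eq_one {x : T} : (QuotientGroup.mk' (Zu T 3)) x = 1 ↔ x ∈ Zu T 3 :=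
  QuotientGroup.eq_one_iff x

/-- membership of `W`-elements can be tested modulo `Z_3` -/
theorem mk_mem_V (h : Hyp T W) {x : T} : (QuotientGroup.mk' (Zu T 3)) x ∈ Hyp.V W ↔ x ∈ W := by
  constructor
  · rintro ⟨w, hw, hwx⟩
    have h1 : w⁻¹ * x ∈ Zu T 3 := Hyp.mk_eq_iff.1 hwx
    have e : x = w * (w⁻¹ * x) := by group
    rw [e]
    exact mul_mem hw (h.Z3_le_W h1)
  · exact fun hx => Hyp.mem_V hx

/-- The fixed points of `X` on `W / Z_3`, in `T`. -/
def Fx (W X : Subgroup T) : Subgroup T :=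
  W ⊓ (centralizer ((X.map (QuotientGroup.mk' (Zu T 3)) : Subgroup (T ⧸ Zu T 3)) : Set (T ⧸ Zu T 3))).comap
    (QuotientGroup.mk' (Zu T 3))

theorem mem_Fx {X : Subgroup T} {w : T} : w ∈ Fx W X ↔ w ∈ W ∧ ∀ x ∈ X, ⁅x, w⁆ ∈ Zu T 3 := by
  rw [Fx, mem_inf, mem_comap, mem_centralizer_iff]
  refine and_congr_right fun _ => ?_
  constructor
  · intro h1 x hx
    rw [← mk3_eq_one, map_commutatorElement, commutatorElement_eq_one_iff_mul_comm]
    exact h1 _ ⟨x, hx, rfl⟩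
  · rintro h1 _ ⟨x, hx, rfl⟩
    rw [← commutatorElement_eq_one_iff_mul_comm, ← map_commutatorElement, mk3_eq_one]
    exact h1 x hx

theorem Fx_le {X : Subgroup T} : Fx W X ≤ W := inf_le_left

theorem Z3_le_Fx (h : Hyp T W) {X : Subgroup T} : Zu T 3 ≤ Fx W X := by
  intro z hz
  refine mem_Fx.2 ⟨h.Z3_le_W hz, fun x _ => ?_⟩
  have hn : (Zu T 3).Normal := inferInstance
  exact dl_mem hn x hz

theorem Fx_normal (h : Hyp T W) {X : Subgroup T} (hX : X.Normal) : (Fx W X).Normal := by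
  refine ⟨fun w hw g => ?_⟩
  rw [mem_Fx] at hw ⊢
  refine ⟨h.conj_W hw.1 g, fun x hx => ?_⟩
  have hn : (Zu T 3).Normal := inferInstance
  have h1 := hn.conj_mem _ (hw.2 (g⁻¹ * x * g) (by simpa using hX.conj_mem x hx g⁻¹)) g
  have e : g * ⁅g⁻¹ * x * g, w⁆ * g⁻¹ = ⁅x, g * w * g⁻¹⁆ := by simp only [commutatorElement_def]; group
  rwa [e] at h1

theorem card_Fx (h : Hyp T W) {X : Subgroup T} (hZX : Zu T 3 ≤ X) : Nat.card (Fx W X) ≤ 2 ^ X.index * 8 := by
  have := h.fin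
  have h1 := h.card_fix (X.map (QuotientGroup.mk' (Zu T 3)))
  have h2 : (X.map (QuotientGroup.mk' (Zu T 3))).index = X.index := by
    apply Subgroup.index_map_eq
    · exact QuotientGroup.mk'_surjective _
    · rw [QuotientGroup.ker_mk']; exact hZX
  rw [h2] at h1
  set Y := Hyp.V W ⊓ centralizer ((X.map (QuotientGroup.mk' (Zu T 3)) : Subgroup (T ⧸ Zu T 3)) : Set (T ⧸ Zu T 3))
    with hY
  have h3 : Nat.card (Fx W X) ≤ Nat.card (Y.comap (QuotientGroup.mk' (Zu T 3))) := by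
    apply Subgroup.card_le_of_le
    intro w hw
    exact ⟨Hyp.mem_V hw.1, hw.2⟩
  have h4 : Nat.card (Y.comap (QuotientGroup.mk' (Zu T 3))) = Nat.card Y * 8 := by
    have h5 := (Y.comap (QuotientGroup.mk' (Zu T 3))).card_mul_index
    rw [Subgroup.index_comap_of_surjective _ (QuotientGroup.mk'_surjective _)] at h5
    have h6 := Y.card_mul_index
    have h7 := (Zu T 3).card_mul_index
    have h8 : (Zu T 3).index = Nat.card (T ⧸ Zu T 3) := rfl
    rw [h8, ← h6, h.cardZ 3 (by norm_num)] at h7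
    have h9 : 0 < Y.index := Nat.pos_of_ne_zero Subgroup.index_ne_zero_of_finite
    apply Nat.eq_of_mul_eq_mul_right h9
    rw [h5, ← h7]; ring
  rw [h4] at h3
  exact h3.trans (Nat.mul_le_mul_right _ h1)

/-- a bound for the order of a normal subgroup not contained in `W` -/
theorem card_sup_Z3 (h : Hyp T W) {N : Subgroup T} (hN : N.Normal) :
    Nat.card W ≤ 2 ^ (N ⊔ W).index * Nat.card ((N ⊓ W) ⊔ Zu T 3 : Subgroup T) := by
  have hWn := h.normalW
  refine coinv h le_sup_right (sup_le inf_le_right h.Z3_le_W) ?_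
  intro d hd w hw
  rw [← SetLike.mem_coe, normal_mul] at hd
  obtain ⟨n, hn, v, hv, rfl⟩ := hd
  rw [dl_comp]
  have h1 : ⁅v, w⁆ ∈ Zu T 3 := h.comm_W_mem hv hw
  have hn3 : (Zu T 3).Normal := inferInstance
  refine mul_mem (mul_mem ?_ (mem_sup_right h1)) (mem_sup_left ?_)
  · exact mem_sup_right (dl_mem hn3 n h1)
  · refine mem_inf.2 ⟨?_, comm_mem_of h hw⟩
    rw [← commutatorElement_inv]
    exact inv_mem (dl_mem hN w hn)

theorem index_sup_le (h : Hyp T W) {N : Subgroup T} (hN : ¬ N ≤ W) : (N ⊔ W).index ≤ 4 := by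
  have := h.fin
  have h1 := Subgroup.relIndex_mul_index (le_sup_right : W ≤ N ⊔ W)
  rw [h.orders.1] at h1
  have h2 : W.relIndex (N ⊔ W) ≠ 1 := by
    rw [Ne, Subgroup.relIndex_eq_one]
    exact fun h3 => hN (le_sup_left.trans h3)
  have h3 : W.relIndex (N ⊔ W) ≠ 0 := by
    intro h4; rw [h4] at h1; omega
  have h4 : 2 ≤ W.relIndex (N ⊔ W) := by omega
  by_contra hcon
  push Not at hcon
  have := Nat.mul_le_mul h4 hcon
  omega

/-- `Z_5 ≤ W` -/
theorem Z5_le_W (h : Hyp T W) : Zu T 5 ≤ W := by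
  have := h.fin
  by_contra hcon
  have h1 := index_sup_le h hcon
  have h2 : Nat.card W ≤ 2 ^ (Zu T 5 ⊔ W).index * Nat.card (Zu T 4) := by
    refine coinv h Hyp.le43 ?_ ?_
    · have hn : (Zu T 4).Normal := inferInstance
      rcases le_or_le h hn (j := 3) (by norm_num) with h3 | h3
      · exact h3.trans h.Z3_le_W
      · -- `Z_4 ≤ W`
        by_contra h4
        have h5 := index_sup_le h h4
        have h6 := card_sup_Z3 h hn
        rw [h.orders.2.2.2] at h6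
        have h7 : Nat.card ((Zu T 4 ⊓ W) ⊔ Zu T 3 : Subgroup T) ≤ 2 ^ 4 := by
          rw [← h.cardZ 4 le_rfl]
          exact Subgroup.card_le_of_le (sup_le inf_le_left Hyp.le43)
        have h8 : 2 ^ (Zu T 4 ⊔ W).index ≤ 2 ^ 4 := Nat.pow_le_pow_right (by norm_num) h5
        have := Nat.mul_le_mul h8 h7
        omega
    · intro d hd w hw
      have hWn := h.normalW
      rw [← SetLike.mem_coe, normal_mul] at hd
      obtain ⟨n, hn, v, hv, rfl⟩ := hd
      rw [dl_comp]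
      have h1 : ⁅v, w⁆ ∈ Zu T 3 := h.comm_W_mem hv hw
      have hn3 : (Zu T 3).Normal := inferInstance
      refine mul_mem (mul_mem ?_ (Hyp.le43 h1)) ?_
      · exact Hyp.le43 (dl_mem hn3 n h1)
      · exact Hyp.comm_mem hn w
  rw [h.orders.2.2.2, h.cardZ 4 le_rfl] at h2
  have h8 : 2 ^ (Zu T 5 ⊔ W).index ≤ 2 ^ 4 := Nat.pow_le_pow_right (by norm_num) h1
  have := Nat.mul_le_mul_right (2 ^ 4) h8
  omega

theorem Z4_le_W (h : Hyp T W) : Zu T 4 ≤ W := (RuBase.upper_le_succ 4).trans (Z5_le_W h)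

end Cfsg.Agent.H302.Rv
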