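import Mathlib
import Cfsg.Agent.H302.RvFix

/-!
# 2-groups of Rudvalis type: elements of `T / W`, the fifth term of the upper central series (helper302)
-/

set_option autoImplicit false
set_option linter.style.haveILetI false
set_option linter.unnecessarySimpa false

namespace Cfsg.Agent.H302.Rv

open Subgroup Cfsg.Agent.H303 Cfsg.Agent.H303.RuMain
open scoped commutatorElement

local notation "Zu" => Subgroup.upperCentralSeries

variable {T : Type*} [Group T] {W : Subgroup T}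

/-- `T / W` acts on `Z_3` as all unitriangular matrices. -/
theorem exists_elt (h : Hyp T W) {y u p q : T} (hy : y ∈ Zu T 3) (hy2 : y ∉ Zu T 2) (hu : u ∈ Zu T 2)
    (hu1 : u ∉ Zu T 1) (hp : p ∈ Zu T 2) (hq : q ∈ Zu T 1) : ∃ t : T, ⁅y, t⁆ = p ∧ ⁅u, t⁆ = q := by
  have := h.fin
  let f : T ⧸ W → ↥(Zu T 2) × ↥(Zu T 1) := fun g =>
    (⟨⁅y, g.out⁆, Hyp.comm_mem hy _⟩, ⟨⁅u, g.out⁆, Hyp.comm_mem hu _⟩)
  have hinj : Function.Injective f := by
    intro a b hab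
    have h1 : ⁅y, a.out⁆ = ⁅y, b.out⁆ := congrArg (fun p => (p.1 : T)) hab
    have h2 : ⁅u, a.out⁆ = ⁅u, b.out⁆ := congrArg (fun p => (p.2 : T)) hab
    have h3 := h.cent_Z3 hy hy2 (Hyp.conj_eq_of_comm_eq h1)
        (fun z hz => h.cent_Z2 hu hu1 (Hyp.conj_eq_of_comm_eq h2) hz)
    rw [← QuotientGroup.eq] at h3
    rwa [QuotientGroup.out_eq', QuotientGroup.out_eq'] at h3
  have hbij : Function.Bijective f := by
    rw [Nat.bijective_iff_injective_and_card]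
    refine ⟨hinj, ?_⟩
    rw [Nat.card_prod, h.cardZ 2 (by norm_num), h.cardZ 1 (by norm_num)]
    exact h.orders.1
  obtain ⟨g, hg⟩ := hbij.2 (⟨p, hp⟩, ⟨q, hq⟩)
  exact ⟨g.out, congrArg (fun p => (p.1 : T)) hg, congrArg (fun p => (p.2 : T)) hg⟩

/-- `T_0 = C_T(Z_3 / Z_1)` -/
def T0 (T : Type*) [Group T] : Subgroup T where
  carrier := {t | ∀ z ∈ Zu T 3, ⁅t, z⁆ ∈ Zu T 1}
  one_mem' := by
    intro z _
    rw [commutatorElement_one_left]
    exact one_mem _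
  mul_mem' := by
    intro a b ha hb z hz
    have hn : (Zu T 3).Normal := inferInstance
    rw [dl_comp]
    exact mul_mem (mul_mem (ha _ (Hyp.le32 (Hyp.le21 (hb z hz)))) (hb z hz)) (ha z hz)
  inv_mem' := by
    intro a ha z hz
    have hn : (Zu T 3).Normal := inferInstance
    have h1 := ha (a⁻¹ * z * a) (by simpa using hn.conj_mem z hz a⁻¹)
    have e : ⁅a⁻¹, z⁆ = ⁅a, a⁻¹ * z * a⁆⁻¹ := by simp only [commutatorElement_def]; group
    show ⁅a⁻¹, z⁆ ∈ Zu T 1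
    rw [e]
    exact inv_mem h1

theorem mem_T0 {t : T} : t ∈ T0 T ↔ ∀ z ∈ Zu T 3, ⁅t, z⁆ ∈ Zu T 1 := Iff.rfl

theorem T0_normal : (T0 T).Normal := by
  refine ⟨fun t ht g z hz => ?_⟩
  have hn : (Zu T 3).Normal := inferInstance
  have hn1 : (Zu T 1).Normal := inferInstance
  have h1 := hn1.conj_mem _ (ht (g⁻¹ * z * g) (by simpa using hn.conj_mem z hz g⁻¹)) g
  have e : g * ⁅t, g⁻¹ * z * g⁆ * g⁻¹ = ⁅g * t * g⁻¹, z⁆ := by simp only [commutatorElement_def]; group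
  rwa [e] at h1

theorem W_le_T0 (h : Hyp T W) : W ≤ T0 T := by
  intro w hw z hz
  have h1 := h.comm_Z3_W hz hw
  rw [commutatorElement_eq_one_iff_mul_comm.2 h1.symm]
  exact one_mem _

/-- it is enough to test one element -/
theorem mem_T0_of (h : Hyp T W) {t y : T} (hy : y ∈ Zu T 3) (hy2 : y ∉ Zu T 2) (ht : ⁅t, y⁆ ∈ Zu T 1) : t ∈ T0 T := by
  intro z hz
  by_cases hz2 : z ∈ Zu T 2
  · exact Hyp.comm_mem' hz2 t
  · have h1 : y⁻¹ * z ∈ Zu T 2 := by
      rw [h.mul3 (inv_mem hy) hz, inv_mem_iff]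
      exact iff_of_false hy2 hz2
    have h2 : ⁅t, y⁻¹ * z⁆ ∈ Zu T 1 := Hyp.comm_mem' h1 t
    have e : ⁅t, z⁆ = ⁅t, y⁆ * (y * ⁅t, y⁻¹ * z⁆ * y⁻¹) := by simp only [commutatorElement_def]; group
    rw [e]
    have hn1 : (Zu T 1).Normal := inferInstance
    exact mul_mem ht (hn1.conj_mem _ h2 y)

theorem sq_T0 (h : Hyp T W) {t : T} (ht : t ∈ T0 T) : t ^ 2 ∈ W := by
  rw [h.mem_W]
  intro z hz
  have h1 : ⁅t, z⁆ ∈ Zu T 1 := ht z hz
  have h2 := dl_comp t t z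
  have h3 : ⁅t, ⁅t, z⁆⁆ = 1 := by
    rw [commutatorElement_eq_one_iff_mul_comm]
    exact (Hyp.mem_Z1 h1 t).symm
  have h4 := h.sq_Z3 _ (Hyp.le32 (Hyp.le21 h1))
  rw [h3, one_mul, ← pow_two, ← pow_two, h4, commutatorElement_eq_one_iff_mul_comm] at h2
  exact h2.symm

theorem index_T0 (h : Hyp T W) : (T0 T).index ≤ 2 := by
  have := h.fin
  obtain ⟨y, hy, hy2⟩ := h.exists_y
  obtain ⟨u, hu, hu1⟩ := h.exists_u
  have hle := RuBase.index_le_of_fun (T0 T) (β := ↥(Zu T 2) ⧸ ((Zu T 1).subgroupOf (Zu T 2)))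
    (fun g => QuotientGroup.mk ⟨⁅y, g⁆, Hyp.comm_mem hy g⟩) (by
      intro a b hab
      have h1 : ⁅y, a⁆⁻¹ * ⁅y, b⁆ ∈ Zu T 1 := by
        have := QuotientGroup.eq.1 hab
        exact this
      apply mem_T0_of h hy hy2
      have hn1 : (Zu T 1).Normal := inferInstance
      have e : ⁅a⁻¹ * b, y⁆ = a⁻¹ * (⁅y, a⁆⁻¹ * ⁅y, b⁆)⁻¹ * a := by
        simp only [commutatorElement_def]; group
      rw [e]
      have h2 := hn1.conj_mem _ (inv_mem h1) a⁻¹
      rw [inv_inv] at h2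
      exact h2)
  have h1 : Nat.card (↥(Zu T 2) ⧸ ((Zu T 1).subgroupOf (Zu T 2))) = 2 := by
    have h2 := ((Zu T 1).subgroupOf (Zu T 2)).card_mul_index
    rw [Nat.card_congr (Subgroup.subgroupOfEquivOfLe Hyp.le21).toEquiv, h.cardZ 2 (by norm_num),
      h.cardZ 1 (by norm_num)] at h2
    have h3 : ((Zu T 1).subgroupOf (Zu T 2)).index = Nat.card (↥(Zu T 2) ⧸ ((Zu T 1).subgroupOf (Zu T 2))) := rfl
    rw [← h3]; omega
  rwa [h1] at hle

/-- the distinguished elements of `T` : `c` inverts nothing in `Z_2` but acts non-trivially on `Z_3`. -/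
theorem exists_c (h : Hyp T W) : ∃ c : T, c ∈ Hyp.A T ∧ c ∈ T0 T ∧ c ∉ W := by
  obtain ⟨y, hy, hy2⟩ := h.exists_y
  obtain ⟨u, hu, hu1⟩ := h.exists_u
  have h1 : ∃ z ∈ Zu T 1, z ≠ 1 := by
    have := h.fin
    by_contra hcon
    push Not at hcon
    have h2 : Zu T 1 ≤ ⊥ := fun z hz => hcon z hz
    have h3 := Subgroup.card_le_of_le h2
    rw [h.cardZ 1 (by norm_num), Subgroup.card_bot] at h3
    norm_num at h3
  obtain ⟨z, hz, hz1⟩ := h1
  obtain ⟨c, hc1, hc2⟩ := exists_elt h hy hy2 hu hu1 (Hyp.le21 hz) (one_mem (Zu T 1))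
  refine ⟨c, ?_, ?_, ?_⟩
  · rw [Hyp.mem_A]
    rw [commutatorElement_eq_one_iff_mul_comm] at hc2
    exact fun z hz => h.cent_Z2 hu hu1 hc2 hz
  · apply mem_T0_of h hy hy2
    rw [← commutatorElement_inv, hc1]
    exact inv_mem hz
  · intro hcW
    have h2 := h.comm_Z3_W hy hcW
    rw [← commutatorElement_eq_one_iff_mul_comm, hc1] at h2
    exact hz1 h2

/-- an element of `A T` outside `T_0` -/
theorem exists_a' (h : Hyp T W) : ∃ a : T, a ∈ Hyp.A T ∧ a ∉ T0 T := by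
  obtain ⟨a, ha, y, hy, hy1⟩ := h.exists_a
  exact ⟨a, ha, fun h0 => hy1 (h0 y hy)⟩

/-- an element of `T_0` outside `A T` -/
theorem exists_t (h : Hyp T W) : ∃ t : T, t ∈ T0 T ∧ t ∉ Hyp.A T := by
  obtain ⟨y, hy, hy2⟩ := h.exists_y
  obtain ⟨u, hu, hu1⟩ := h.exists_u
  have h1 : ∃ z ∈ Zu T 1, z ≠ 1 := by
    have := h.fin
    by_contra hcon
    push Not at hcon
    have h2 : Zu T 1 ≤ ⊥ := fun z hz => hcon z hz
    have h3 := Subgroup.card_le_of_le h2
    rw [h.cardZ 1 (by norm_num), Subgroup.card_bot] at h3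
    norm_num at h3
  obtain ⟨z, hz, hz1⟩ := h1
  obtain ⟨t, ht1, ht2⟩ := exists_elt h hy hy2 hu hu1 (one_mem (Zu T 2)) hz
  refine ⟨t, ?_, ?_⟩
  · apply mem_T0_of h hy hy2
    rw [← commutatorElement_inv, ht1, inv_one]
    exact one_mem _
  · intro htA
    have h2 := Hyp.mem_A.1 htA u hu
    rw [← commutatorElement_eq_one_iff_mul_comm, ht2] at h2
    exact hz1 h2

theorem index_T0_eq (h : Hyp T W) : (T0 T).index = 2 := by
  have := h.fin
  have h1 := index_T0 h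
  obtain ⟨a, -, ha⟩ := exists_a' h
  have h2 : (T0 T).index ≠ 1 := by
    rw [Ne, Subgroup.index_eq_one]
    intro h3; rw [h3] at ha; exact ha (mem_top _)
  have h3 : (T0 T).index ≠ 0 := Subgroup.index_ne_zero_of_finite
  omega

/-- `A T ∩ T_0`, the preimage of the centre of `T / W` -/
def B (T : Type*) [Group T] : Subgroup T := Hyp.A T ⊓ T0 T

theorem A_normal : (Hyp.A T).Normal := by
  have : (Zu T 2).Normal := inferInstance
  unfold Hyp.A
  infer_instance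

theorem B_normal : (B T).Normal := by
  have h1 : (Hyp.A T).Normal := A_normal
  have h2 : (T0 T).Normal := T0_normal
  exact Subgroup.normal_inf_normal _ _

theorem W_le_B (h : Hyp T W) : W ≤ B T := le_inf h.W_le_A (W_le_T0 h)

theorem sq_B (h : Hyp T W) {x : T} (hx : x ∈ B T) : x ^ 2 ∈ W := sq_T0 h hx.2

theorem index_B_le (h : Hyp T W) : (B T).index ≤ 4 := by
  calc (B T).index ≤ (Hyp.A T).index * (T0 T).index := Subgroup.index_inf_le
    _ = 4 := by rw [h.index_A.1, index_T0_eq h]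

theorem relIndex_B (h : Hyp T W) : W.relIndex (B T) = 2 := by
  have := h.fin
  have h1 := Subgroup.relIndex_mul_index (W_le_B h)
  rw [h.orders.1] at h1
  have h2 := index_B_le h
  -- `B` is smaller than `A T`
  have h3 : (B T).index ≠ 2 := by
    intro h3
    obtain ⟨a, ha, ha0⟩ := exists_a' h
    have h4 := Subgroup.relIndex_mul_index (show B T ≤ Hyp.A T from inf_le_left)
    rw [h.index_A.1, h3] at h4
    have h5 : (B T).relIndex (Hyp.A T) = 1 := by omega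
    rw [Subgroup.relIndex_eq_one] at h5
    exact ha0 (h5 ha).2
  have h4 : (B T).index ≠ 1 := by
    intro h3
    obtain ⟨a, ha, ha0⟩ := exists_a' h
    rw [Subgroup.index_eq_one] at h3
    have : a ∈ B T := by rw [h3]; exact mem_top _
    exact ha0 this.2
  have h5 : (B T).index ≠ 0 := Subgroup.index_ne_zero_of_finite
  generalize (B T).index = m at *
  generalize W.relIndex (B T) = n at *
  interval_cases m <;> omega

theorem index_B (h : Hyp T W) : (B T).index = 4 := by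
  have h1 := Subgroup.relIndex_mul_index (W_le_B h)
  rw [h.orders.1, relIndex_B h] at h1
  omega

theorem inv_mul_mem (h : Hyp T W) {c d : T} (hc : c ∈ B T) (hcW : c ∉ W) (hd : d ∈ B T) (hdW : d ∉ W) :
    c⁻¹ * d ∈ W := by
  have h1 : (W.subgroupOf (B T)).index = 2 := relIndex_B h
  have h2 := Subgroup.mul_mem_iff_of_index_two h1 (a := ⟨c⁻¹, inv_mem hc⟩) (b := ⟨d, hd⟩)
  have h3 : (⟨c⁻¹, inv_mem hc⟩ * ⟨d, hd⟩ : ↥(B T)) ∈ W.subgroupOf (B T) := by
    rw [h2]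
    refine iff_of_false ?_ ?_
    · rw [mem_subgroupOf]
      show ¬ c⁻¹ ∈ W
      rw [inv_mem_iff]; exact hcW
    · rw [mem_subgroupOf]; exact hdW
  exact h3

theorem comm_B (h : Hyp T W) {c : T} (hc : c ∈ B T) (g : T) : ⁅g, c⁆ ∈ W := by
  by_cases hcW : c ∈ W
  · exact comm_mem_of h hcW
  · have hn : (B T).Normal := B_normal
    have h1 : g * c * g⁻¹ ∈ B T := hn.conj_mem c hc g
    have h2 : g * c * g⁻¹ ∉ W := by
      intro h3
      have h4 := h.conj_W h3 g⁻¹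
      apply hcW
      have e : g⁻¹ * (g * c * g⁻¹) * g⁻¹⁻¹ = c := by group
      rwa [e] at h4
    have h3 := inv_mul_mem h hc hcW h1 h2
    have h4 := h.conj_W h3 c
    have e : c * (c⁻¹ * (g * c * g⁻¹)) * c⁻¹ = ⁅g, c⁆ := by rw [commutatorElement_def]; group
    rwa [e] at h4

theorem comm_mem_B (h : Hyp T W) (p q : T) : ⁅p, q⁆ ∈ B T := by
  have h1 : (Hyp.A T).Normal := A_normal
  have h2 : (T0 T).Normal := T0_normal
  have key : ∀ (N : Subgroup T), N.Normal → N.index = 2 → ⁅p, q⁆ ∈ N := by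
    intro N hN hN2
    rw [commutatorElement_def]
    have a1 := Subgroup.mul_mem_iff_of_index_two hN2 (a := p * q * p⁻¹) (b := q⁻¹)
    rw [a1, inv_mem_iff]
    constructor
    · intro h3
      have h4 := hN.conj_mem _ h3 p⁻¹
      have e : p⁻¹ * (p * q * p⁻¹) * p⁻¹⁻¹ = q := by group
      rwa [e] at h4
    · intro h3
      exact hN.conj_mem q h3 p
  exact ⟨key _ h1 h.index_A.1, key _ h2 (index_T0_eq h)⟩

theorem exists_comm (h : Hyp T W) {c : T} (hc : c ∈ B T) (hcW : c ∉ W) :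
    ∃ p q : T, ∃ w ∈ W, c = ⁅p, q⁆ * w := by
  obtain ⟨p, q, hpq⟩ := h.not_comm
  refine ⟨p, q, ⁅p, q⁆⁻¹ * c, ?_, by group⟩
  exact inv_mul_mem h (comm_mem_B h p q) hpq hc hcW

/-- the elements of `Z_5` are centralised by `B` modulo `Z_3` -/
theorem Z5_le_Fx (h : Hyp T W) : Zu T 5 ≤ Fx W (B T) := by
  intro x hx
  have hxW := Z5_le_W h hx
  refine mem_Fx.2 ⟨hxW, ?_⟩
  -- `M = {g | ⁅g, x⁆ ∈ Z_3}`
  have hn3 : (Zu T 3).Normal := inferInstance
  have h4 : ∀ g : T, ⁅g, x⁆ ∈ Zu T 4 := fun g => Hyp.comm_mem' hx g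
  have hmul : ∀ g g' : T, ⁅g * g', x⁆ ∈ Zu T 3 ↔ ⁅g', x⁆ * ⁅g, x⁆ ∈ Zu T 3 := by
    intro g g'
    rw [dl_comp, mul_assoc]
    exact Subgroup.mul_mem_cancel_left _ (Hyp.comm_mem' (h4 g') g)
  let φ : T →* T ⧸ Zu T 3 :=
    { toFun := fun g => QuotientGroup.mk' (Zu T 3) ⁅g, x⁆
      map_one' := by rw [commutatorElement_one_left, map_one]
      map_mul' := by
        intro g g'
        rw [dl_comp, map_mul, map_mul]
        have e1 : QuotientGroup.mk' (Zu T 3) ⁅g, ⁅g', x⁆⁆ = 1 := mk3_eq_one.2 (Hyp.comm_mem' (h4 g') g)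
        rw [e1, one_mul]
        have e2 : QuotientGroup.mk' (Zu T 3) ⁅g', x⁆ ∈ center (T ⧸ Zu T 3) := RuBase.mem_upper_quot.1 (h4 g')
        exact (mem_center_iff.1 e2 _).symm }
  have hφc : ∀ p q : T, φ ⁅p, q⁆ = 1 := by
    intro p q
    rw [map_commutatorElement, commutatorElement_eq_one_iff_mul_comm]
    have e2 : φ p ∈ center (T ⧸ Zu T 3) := RuBase.mem_upper_quot.1 (h4 p)
    exact (mem_center_iff.1 e2 _).symm
  have hφW : ∀ w ∈ W, φ w = 1 := fun w hw => mk3_eq_one.2 (h.comm_W_mem hw hxW)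
  intro b hb
  by_cases hbW : b ∈ W
  · exact h.comm_W_mem hbW hxW
  · obtain ⟨p, q, w, hw, rfl⟩ := exists_comm h hb hbW
    have h5 : φ (⁅p, q⁆ * w) = 1 := by rw [map_mul, hφc, hφW w hw, one_mul]
    exact mk3_eq_one.1 h5

/-- a subgroup containing `B`, an element of `A T` outside `T_0` and one of `T_0` outside `A T` is `T` -/
theorem eq_top_of (h : Hyp T W) {M : Subgroup T} (hB : B T ≤ M) {a t : T} (ha : a ∈ M) (haA : a ∈ Hyp.A T)
    (ha0 : a ∉ T0 T) (ht : t ∈ M) (ht0 : t ∈ T0 T) (htA : t ∉ Hyp.A T) : M = ⊤ := by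
  rw [eq_top_iff]
  have key : ∀ g : T, g ∈ T0 T → g ∈ M := by
    intro g hg0
    by_cases hgA : g ∈ Hyp.A T
    · exact hB ⟨hgA, hg0⟩
    · have h1 : t⁻¹ * g ∈ Hyp.A T := by
        rw [Subgroup.mul_mem_iff_of_index_two h.index_A.1, inv_mem_iff]
        exact iff_of_false htA hgA
      have h2 : t⁻¹ * g ∈ B T := mem_inf.2 ⟨h1, mul_mem (inv_mem ht0) hg0⟩
      have e : g = t * (t⁻¹ * g) := by group
      rw [e]
      exact mul_mem ht (hB h2)
  intro g _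
  by_cases hg0 : g ∈ T0 T
  · exact key g hg0
  · have h1 : a⁻¹ * g ∈ T0 T := by
      rw [Subgroup.mul_mem_iff_of_index_two (index_T0_eq h), inv_mem_iff]
      exact iff_of_false ha0 hg0
    have e : g = a * (a⁻¹ * g) := by group
    rw [e]
    exact mul_mem ha (key _ h1)

theorem mem_succ_iff {j : ℕ} {x : T} : x ∈ Zu T (j + 1) ↔ ∀ g : T, ⁅g, x⁆ ∈ Zu T j := by
  constructor
  · exact fun hx g => Hyp.comm_mem' hx g
  · intro hx
    rw [Subgroup.mem_upperCentralSeries_succ_iff]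
    intro g
    have h1 := inv_mem (hx g)
    rwa [commutatorElement_inv] at h1

/-- `|Z_5| ≤ 2^6` -/
theorem card_Z5_le (h : Hyp T W) : Nat.card (Zu T 5) ≤ 2 ^ 6 := by
  have := h.fin
  obtain ⟨a, haA, ha0⟩ := exists_a' h
  obtain ⟨t, ht0, htA⟩ := exists_t h
  have hn3 : (Zu T 3).Normal := inferInstance
  have h45 : Zu T 4 ≤ Zu T 5 := RuBase.upper_le_succ 4
  set Q := ↥(Zu T 4) ⧸ ((Zu T 3).subgroupOf (Zu T 4)) with hQ
  have hQc : Nat.card Q = 2 := by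
    have h2 := ((Zu T 3).subgroupOf (Zu T 4)).card_mul_index
    rw [Nat.card_congr (Subgroup.subgroupOfEquivOfLe Hyp.le43).toEquiv, h.cardZ 3 (by norm_num),
      h.cardZ 4 (by norm_num)] at h2
    have h3 : ((Zu T 3).subgroupOf (Zu T 4)).index = Nat.card Q := rfl
    rw [← h3]; omega
  have hfinQ : Finite Q := Nat.finite_of_card_ne_zero (by rw [hQc]; norm_num)
  have hle := RuBase.index_le_of_fun ((Zu T 4).subgroupOf (Zu T 5)) (β := Q × Q)
    (fun x => (QuotientGroup.mk ⟨⁅a, (x : T)⁆, Hyp.comm_mem' x.2 a⟩, QuotientGroup.mk ⟨⁅t, (x : T)⁆, Hyp.comm_mem' x.2 t⟩)) (by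
      intro x y hxy
      have h1 : ⁅a, (x : T)⁆⁻¹ * ⁅a, (y : T)⁆ ∈ Zu T 3 := by
        have h0 := QuotientGroup.eq.1 (congrArg Prod.fst hxy)
        exact h0
      have h2 : ⁅t, (x : T)⁆⁻¹ * ⁅t, (y : T)⁆ ∈ Zu T 3 := by
        have h0 := QuotientGroup.eq.1 (congrArg Prod.snd hxy)
        exact h0
      rw [mem_subgroupOf]
      show (x : T)⁻¹ * (y : T) ∈ Zu T 4
      have hx5 : (x : T) ∈ Zu T 5 := x.2
      have hy5 : (y : T) ∈ Zu T 5 := y.2
      have hz5 : (x : T)⁻¹ * (y : T) ∈ Zu T 5 := mul_mem (inv_mem hx5) hy5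
      -- `⁅g, x⁻¹ y⁆ ∈ Z_3` iff `⁅g,x⁆⁻¹ ⁅g,y⁆ ∈ Z_3`
      have key : ∀ g : T, ⁅g, (x : T)⁆⁻¹ * ⁅g, (y : T)⁆ ∈ Zu T 3 → ⁅g, (x : T)⁻¹ * (y : T)⁆ ∈ Zu T 3 := by
        intro g hg
        have e : ⁅g, (x : T)⁻¹ * (y : T)⁆ = (g * (x : T)⁻¹ * g⁻¹ * (x : T)) * ((x : T)⁻¹ * ⁅g, (y : T)⁆ * (x : T)) := by
          simp only [commutatorElement_def]; group
        have e1 : g * (x : T)⁻¹ * g⁻¹ * (x : T) = (x : T)⁻¹ * ⁅g, (x : T)⁆⁻¹ * (x : T) := by
          simp only [commutatorElement_def]; group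
        rw [e, e1]
        have e2 : (x : T)⁻¹ * ⁅g, (x : T)⁆⁻¹ * (x : T) * ((x : T)⁻¹ * ⁅g, (y : T)⁆ * (x : T)) =
            (x : T)⁻¹ * (⁅g, (x : T)⁆⁻¹ * ⁅g, (y : T)⁆) * (x : T) := by group
        rw [e2]
        have h3 := hn3.conj_mem _ hg (x : T)⁻¹
        rwa [inv_inv] at h3
      -- the subgroup of `T` centralising `x⁻¹ y` modulo `Z_3`
      let M : Subgroup T := (centralizer {QuotientGroup.mk' (Zu T 3) ((x : T)⁻¹ * (y : T))}).comap
        (QuotientGroup.mk' (Zu T 3))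
      have hM : ∀ g : T, g ∈ M ↔ ⁅g, (x : T)⁻¹ * (y : T)⁆ ∈ Zu T 3 := by
        intro g
        show QuotientGroup.mk' (Zu T 3) g ∈ centralizer {QuotientGroup.mk' (Zu T 3) ((x : T)⁻¹ * (y : T))} ↔ _
        rw [mem_centralizer_singleton_iff, ← commutatorElement_eq_one_iff_mul_comm, ← map_commutatorElement,
          mk3_eq_one]
      have hMtop : M = ⊤ := by
        refine eq_top_of h (M := M) ?_ ((hM a).2 (key a h1)) haA ha0 ((hM t).2 (key t h2)) ht0 htA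
        intro b hb
        rw [hM]
        exact (mem_Fx.1 (Z5_le_Fx h hz5)).2 b hb
      rw [mem_succ_iff]
      intro g
      rw [← hM, hMtop]
      exact mem_top _)
  rw [Nat.card_prod, hQc] at hle
  have h1 := ((Zu T 4).subgroupOf (Zu T 5)).card_mul_index
  rw [Nat.card_congr (Subgroup.subgroupOfEquivOfLe h45).toEquiv, h.cardZ 4 le_rfl] at h1
  rw [← h1]
  have := Nat.mul_le_mul_left (2 ^ 4) hle
  omega

end Cfsg.Agent.H302.Rv
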