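import Cfsg.Agent.H302.RvFtwo
import Cfsg.Agent.OrdDiv.Main
import Cfsg.Agent.TwoUniq.PSLRank
import Cfsg.Agent.Transfer.ElemAbAut

/-!
# Groups of Rudvalis type: no group in the situation `Sit` (helper302)
-/

set_option autoImplicit false
set_option linter.style.haveILetI false
set_option linter.unnecessarySimpa false
set_option linter.unusedSectionVars false

namespace Cfsg.Agent.H302.Rv

open Subgroup Cfsg Cfsg.Agent.H303 Cfsg.Agent.H303.RuMain
open Set1
open Cfsg.Agent.SignalizersComponents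
open Cfsg.Agent.SignalizersComponents.Components
open Cfsg.Agent.OrdDiv (OrderTable exists_real_filter cands ordN Grp)
open scoped commutatorElement

universe u

local notation "Zu" => Subgroup.upperCentralSeries

theorem card_center_eq {X : Type*} [Group X] (J : Subgroup X) :
    Nat.card (center J) = Nat.card (J ⊓ centralizer (J : Set X) : Subgroup X) := by
  have h1 : J ⊓ centralizer (J : Set X) = (center J).map J.subtype := by
    ext x
    constructor
    · rintro ⟨hx, hx'⟩
      exact ⟨⟨x, hx⟩, mem_center_iff.mpr fun y => Subtype.ext (mem_centralizer_iff.mp hx' y y.2), rfl⟩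
    · rintro ⟨y, hy, rfl⟩
      refine ⟨y.2, mem_centralizer_iff.mpr fun z hz => ?_⟩
      exact congrArg Subtype.val (mem_center_iff.mp hy ⟨z, hz⟩)
  rw [h1, Subgroup.card_map_of_injective J.subtype_injective]

theorem quot_not_comm {K : Type*} [Group K] [Finite K] (hK : IsQuasisimple K) :
    ¬ ∀ a b : K ⧸ center K, a * b = b * a := by
  intro hc
  have h1 : Group.IsSolvable (K ⧸ center K) := Group.isSolvable_of_comm hc
  apply quasisimple_not_isSolvable hK
  have h2 : Group.IsSolvable (center K) := Group.isSolvable_of_comm (fun a b => Subtype.ext (mem_center_iff.1 b.2 a))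
  exact Group.isSolvable_of_ker_le_range (center K).subtype (QuotientGroup.mk' (center K)) (by simp)

def fl (k N : ℕ) : Bool := N % 2 ^ k == 0 && N / 2 ^ k % 2 == 1

theorem fl_eq {k N : ℕ} (h1 : 2 ^ k ∣ N) (h2 : ¬ 2 ^ (k + 1) ∣ N) : fl k N = true := by
  obtain ⟨m, rfl⟩ := h1
  have h3 : m % 2 = 1 := by
    by_contra h
    apply h2
    have h4 : 2 ∣ m := by omega
    rw [pow_succ]
    exact Nat.mul_dvd_mul_left _ h4
  unfold fl
  rw [Nat.mul_div_cancel_left _ (by positivity), Nat.mul_mod_right, h3]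
  rfl

theorem list_seven : (cands [(2, 21), (3, 4), (5, 1), (7, 2), (31, 1), (127, 1)] (2 ^ 21 * 3 ^ 4 * 5 * 7 ^ 2 * 31 * 127)).filter
    (fun g => fl 7 (ordN g)) = [.psl 2 127] := by
  decide +kernel

theorem list_six : (cands [(2, 15), (3, 4), (5, 1), (7, 2), (31, 1)] (2 ^ 15 * 3 ^ 4 * 5 * 7 ^ 2 * 31)).filter
    (fun g => fl 8 (ordN g)) = [] := by
  decide +kernel

theorem list_five : (cands [(2, 10), (3, 2), (5, 1), (7, 1), (31, 1)] (2 ^ 10 * 3 ^ 2 * 5 * 7 * 31)).filter
    (fun g => fl 9 (ordN g)) = [] := by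
  decide +kernel

theorem prod_five : ∏ i : Fin 5, (2 ^ 5 - 2 ^ (i : ℕ)) = 2 ^ 10 * 3 ^ 2 * 5 * 7 * 31 := by decide +kernel

theorem prod_six : ∏ i : Fin 6, (2 ^ 6 - 2 ^ (i : ℕ)) = 2 ^ 15 * 3 ^ 4 * 5 * 7 ^ 2 * 31 := by decide +kernel

theorem prod_seven : ∏ i : Fin 7, (2 ^ 7 - 2 ^ (i : ℕ)) = 2 ^ 21 * 3 ^ 4 * 5 * 7 ^ 2 * 31 * 127 := by decide +kernel

namespace Sit

variable {G : Type u} [Group G] [Finite G] {T : Sylow 2 G} {W : Subgroup ↥(T : Subgroup G)} {j : ℕ}

/-- **There is no such group.** -/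
theorem false (s : Sit T W j) (hT : OrderTable.{u}) : False := by
  have : Fact (Nat.Prime 2) := ⟨Nat.prime_two⟩
  obtain ⟨J, hJ⟩ := s.exists_component
  have hPJ := s.P_le_component hJ
  obtain ⟨c, hc5, hc7, hc⟩ := s.exists_c
  have hJs : IsSimpleGroup (↥J ⧸ center ↥J) := hJ.2.2
  have hP := s.card_P
  rw [hc] at hP
  have hPc : Nat.card (P T j) = 2 ^ (14 - c) := by
    have h2 : (2 : ℕ) ^ 14 = 2 ^ (14 - c) * 2 ^ c := by rw [← pow_add]; congr 1; omega
    rw [h2] at hP
    exact Nat.eq_of_mul_eq_mul_right (by positivity) hP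
  have hodd : Odd (Nat.card (center ↥J)) := by
    rw [card_center_eq]
    exact odd_center s.core_quot hJ
  -- the 2-part of the order
  have h2a : 2 ^ (14 - c) ∣ Nat.card (↥J ⧸ center ↥J) := by
    have h1 : 2 ^ (14 - c) ∣ Nat.card J := by
      rw [← hPc]
      exact Subgroup.card_dvd_of_le hPJ
    rw [Subgroup.card_eq_card_quotient_mul_card_subgroup (center ↥J)] at h1
    exact (Nat.Coprime.pow_left _ (Nat.coprime_two_left.2 hodd)).dvd_of_dvd_mul_right h1
  have hSJ : Nat.card (↥J ⧸ center ↥J) ∣ Nat.card (G ⧸ C T j) :=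
    (Subgroup.card_quotient_dvd_card _).trans (Subgroup.card_subgroup_dvd_card J)
  have h2b : ¬ 2 ^ (14 - c + 1) ∣ Nat.card (↥J ⧸ center ↥J) := by
    intro h
    have h1 := (P T j).pow_dvd_card_of_pow_dvd_card (h.trans hSJ)
    rw [hPc] at h1
    have := (Nat.pow_dvd_pow_iff_le_right (by norm_num : 1 < 2)).1 h1
    omega
  have hfl := fl_eq h2a h2b
  -- the order of `Aut(M)`
  have hSM : Nat.card (↥J ⧸ center ↥J) ∣ Nat.card (MulAut ↥(M T j)) :=
    hSJ.trans (Subgroup.card_dvd_of_injective (rho T j) rho_injective)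
  obtain ⟨n, -, hn⟩ := s.toSet1.exists_pow s.M_le_T
  have hn5 : 5 ≤ n := by
    have h1 := s.card_M_ge
    rw [hn] at h1
    exact (Nat.pow_le_pow_iff_right (by norm_num : 1 < 2)).1 h1
  have hnc : n ≤ c := by
    have h1 := Subgroup.card_le_of_le s.M_le_C
    rw [hn, hc] at h1
    exact (Nat.pow_le_pow_iff_right (by norm_num : 1 < 2)).1 h1
  rw [Cfsg.Agent.Transfer.ElemAbAut.card_mulAut 2 n (fun x y => Subtype.ext (s.M_comm x x.2 y y.2))
    (fun x => Subtype.ext (s.M_sq x x.2)) hn] at hSM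
  have hkn := s.inp.kn (↥J ⧸ center ↥J)
  have hna := quot_not_comm hJ.2
  have hc' : c = 5 ∨ c = 6 ∨ c = 7 := by omega
  rcases hc' with rfl | rfl | rfl
  · -- `c = 5`
    have hn' : n = 5 := by omega
    subst hn'
    rw [prod_five] at hSM
    obtain ⟨g, hg, -⟩ := exists_real_filter hT hkn hna (l := [(2, 10), (3, 2), (5, 1), (7, 1), (31, 1)])
      (by decide +kernel) hSM (fl 9) hfl
    rw [list_five] at hg
    exact List.not_mem_nil hg
  · -- `c = 6`
    have hdvd : Nat.card (↥J ⧸ center ↥J) ∣ 2 ^ 15 * 3 ^ 4 * 5 * 7 ^ 2 * 31 := by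
      have hn' : n = 5 ∨ n = 6 := by omega
      rcases hn' with rfl | rfl
      · rw [prod_five] at hSM
        exact hSM.trans (by norm_num)
      · rw [prod_six] at hSM
        exact hSM
    obtain ⟨g, hg, -⟩ := exists_real_filter hT hkn hna (l := [(2, 15), (3, 4), (5, 1), (7, 2), (31, 1)])
      (by decide +kernel) hdvd (fl 8) hfl
    rw [list_six] at hg
    exact List.not_mem_nil hg
  · -- `c = 7`
    have hdvd : Nat.card (↥J ⧸ center ↥J) ∣ 2 ^ 21 * 3 ^ 4 * 5 * 7 ^ 2 * 31 * 127 := by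
      have hn' : n = 5 ∨ n = 6 ∨ n = 7 := by omega
      rcases hn' with rfl | rfl | rfl
      · rw [prod_five] at hSM
        exact hSM.trans (by norm_num)
      · rw [prod_six] at hSM
        exact hSM.trans (by norm_num)
      · rw [prod_seven] at hSM
        exact hSM
    obtain ⟨g, hg, hr⟩ := exists_real_filter hT hkn hna
      (l := [(2, 21), (3, 4), (5, 1), (7, 2), (31, 1), (127, 1)]) (by decide +kernel) hdvd (fl 7) hfl
    rw [list_seven, List.mem_singleton] at hg
    subst hg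
    obtain ⟨F, _, _, hF, ⟨e⟩⟩ := hr
    -- `PSL_2(127)` has 2-rank two
    have h2F : (2 : F) ≠ 0 := by
      intro h2
      have h3 : ringChar F = 2 := by
        have h4 : ringChar F ∣ 2 := (ringChar.spec F 2).1 (by exact_mod_cast h2)
        exact (Nat.dvd_prime Nat.prime_two).1 h4 |>.resolve_left (CharP.ringChar_ne_one)
      obtain ⟨m, -, hm⟩ := FiniteField.card F (ringChar F)
      rw [hF, h3] at hm
      have h5 : 2 ∣ 127 := hm ▸ dvd_pow_self 2 m.pos.ne'
      norm_num at h5
    have hrank := Cfsg.Agent.TwoUniq.PSLRank.pRankLE (F := F) h2F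
    obtain ⟨d, hd4, hd⟩ := s.card_A
    have hAJ : A T W j ≤ J := (Subgroup.map_mono Wg_le).trans hPJ
    have hAel := s.A_elem
    -- the image of `A`
    let g : ↥(A T W j) →* Matrix.ProjectiveSpecialLinearGroup (Fin 2) F :=
      e.toMonoidHom.comp ((QuotientGroup.mk' (center ↥J)).comp (inclusion hAJ))
    have hAp : IsPGroup 2 ↥(A T W j) := IsPGroup.of_card hd
    have hgi : Function.Injective g := by
      rw [injective_iff_map_eq_one]
      intro x hx
      have h1 : QuotientGroup.mk' (center ↥J) (inclusion hAJ x) = 1 := e.injective (by rw [map_one]; exact hx)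
      have h2 : inclusion hAJ x ∈ center ↥J := (QuotientGroup.eq_one_iff _).1 h1
      have h3 : (x : G ⧸ C T j) ∈ J ⊓ centralizer (J : Set (G ⧸ C T j)) := by
        refine mem_inf.2 ⟨hAJ x.2, mem_centralizer_iff.2 fun y hy => ?_⟩
        exact congrArg Subtype.val (mem_center_iff.1 h2 ⟨y, hy⟩)
      have h4 : A T W j ⊓ (J ⊓ centralizer (J : Set (G ⧸ C T j))) = ⊥ := inf_odd hAp (odd_center s.core_quot hJ)
      have h5 : (x : G ⧸ C T j) ∈ A T W j ⊓ (J ⊓ centralizer (J : Set (G ⧸ C T j))) := ⟨x.2, h3⟩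
      rw [h4, mem_bot] at h5
      exact Subtype.ext h5
    have hcomm : ∀ x y : ↥(A T W j), x * y = y * x := fun x y => hAel.1.is_comm.comm x y
    have h6 := hrank g.range ⟨⟨by
      rintro ⟨_, x, rfl⟩ ⟨_, y, rfl⟩
      apply Subtype.ext
      show g x * g y = g y * g x
      rw [← map_mul, ← map_mul, hcomm]⟩⟩ (by
      rintro _ ⟨x, rfl⟩
      rw [← map_pow]
      have : x ^ 2 = 1 := Subtype.ext (hAel.2 x x.2)
      rw [this, map_one])
    have h7 : Nat.card g.range = 2 ^ d := by
      rw [← hd]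
      exact (Nat.card_congr (MonoidHom.ofInjective hgi).toEquiv).symm
    rw [h7] at h6
    have := (Nat.pow_le_pow_iff_right (by norm_num : 1 < 2)).1 h6
    omega

end Sit

end Cfsg.Agent.H302.Rv
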