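import Cfsg.Agent.H302.RvFone

/-!
# Groups of Rudvalis type: the Sylow 2-subgroup of `G / C_G(M)` is in one component (helper302)
-/

set_option autoImplicit false
set_option linter.style.haveILetI false
set_option linter.unnecessarySimpa false
set_option linter.unusedSectionVars false

namespace Cfsg.Agent.H302.Rv

open Subgroup Cfsg Cfsg.Agent.H303 Cfsg.Agent.H303.RuMain
open Set1
open Cfsg.Agent.SignalizersComponents
open Cfsg.Agent.SignalizersComponents.Components
open scoped commutatorElement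

universe u

local notation "Zu" => Subgroup.upperCentralSeries

/-- the centre of a component has odd order if `O_2(X) = 1` -/
theorem odd_center {X : Type*} [Group X] [Finite X] (hO : pCore 2 X = ⊥) {J : Subgroup X} (hJ : IsComponent J) :
    Odd (Nat.card (J ⊓ centralizer (J : Set X) : Subgroup X)) := by
  have h1 : J ⊓ centralizer (J : Set X) = (center J).map J.subtype := by
    ext x
    constructor
    · rintro ⟨hx, hx'⟩
      exact ⟨⟨x, hx⟩, mem_center_iff.mpr fun y => Subtype.ext (mem_centralizer_iff.mp hx' y y.2), rfl⟩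
    · rintro ⟨y, hy, rfl⟩
      refine ⟨y.2, mem_centralizer_iff.mpr fun z hz => ?_⟩
      exact congrArg Subtype.val (mem_center_iff.mp hy ⟨z, hz⟩)
  have hsub : (J ⊓ centralizer (J : Set X)).IsSubnormal := by
    rw [h1]
    exact IsSubnormal.trans' (Normal.isSubnormal inferInstance) hJ.1
  have hsolv : Group.IsSolvable ↥(J ⊓ centralizer (J : Set X)) := by
    have hcomm : ∀ x y : ↥(J ⊓ centralizer (J : Set X)), x * y = y * x := by
      rintro ⟨x, hx⟩ ⟨y, hy⟩
      exact Subtype.ext (mem_centralizer_iff.mp hy.2 x hx.1)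
    exact Group.isSolvable_of_comm hcomm
  have h2 : J ⊓ centralizer (J : Set X) ≤ fittingSubgroup X := by
    apply ComponentExists.le_fitting_of_isSubnormal_of_isSolvable hsub hsolv
    exact inf_le_left.trans ((Components.component_le_layer hJ).trans Components.layer_le_centralizer_fitting)
  exact (odd_fitting hO).of_dvd_nat (Subgroup.card_dvd_of_le h2)

/-- a 2-subgroup meets a subgroup of odd order trivially -/
theorem inf_odd {X : Type*} [Group X] [Finite X] {P Z : Subgroup X} (hP : IsPGroup 2 P) (hZ : Odd (Nat.card Z)) :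
    P ⊓ Z = ⊥ := by
  have : Fact (Nat.Prime 2) := ⟨Nat.prime_two⟩
  obtain ⟨n, hn⟩ := IsPGroup.iff_card.1 hP
  apply (Subgroup.disjoint_of_coprime_natCard _).eq_bot
  rw [hn]
  exact Nat.Coprime.pow_left _ (Nat.coprime_two_left.2 hZ)

/-- **`P = (P ∩ J) (P ∩ C(J))`** -/
theorem sylow_split {X : Type*} [Group X] [Finite X] (P : Sylow 2 X) (hO : pCore 2 X = ⊥) {J : Subgroup X}
    (hJ : IsComponent J) (hN : (P : Subgroup X) ≤ normalizer (J : Set X))
    (hs : ∀ d ∈ (P : Subgroup X), ∃ j ∈ J, ∃ c ∈ centralizer (J : Set X), d = j * c) :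
    ((P : Subgroup X) ⊓ J) ⊔ ((P : Subgroup X) ⊓ centralizer (J : Set X)) = (P : Subgroup X) := by
  have : Fact (Nat.Prime 2) := ⟨Nat.prime_two⟩
  have hinf : (P : Subgroup X) ⊓ (J ⊓ centralizer (J : Set X)) = ⊥ := inf_odd P.2 (odd_center hO hJ)
  set P₁ := (P : Subgroup X) ⊓ J with hP₁
  set P₂ := (P : Subgroup X) ⊓ centralizer (J : Set X) with hP₂
  -- the action of `P` on `J`
  let ψ : ↥(P : Subgroup X) →* MulAut ↥J := J.normalizerMonoidHom.comp (inclusion hN)
  have hψ : ∀ (x : ↥(P : Subgroup X)) (y : ↥J), ((ψ x y : ↥J) : X) = x * y * (x : X)⁻¹ := fun x y => rfl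
  have hker : ψ.ker.map (P : Subgroup X).subtype = P₂ := by
    ext x
    constructor
    · rintro ⟨y, hy, rfl⟩
      refine mem_inf.2 ⟨y.2, mem_centralizer_iff.2 ?_⟩
      intro z hz
      have h1 := congrArg Subtype.val (DFunLike.congr_fun (show ψ y = 1 from hy) ⟨z, hz⟩)
      rw [hψ] at h1
      have h2 : (y : X) * z * (y : X)⁻¹ = z := h1
      exact (mul_inv_eq_iff_eq_mul.1 h2).symm
    · rintro ⟨hxP, hxc⟩
      refine ⟨⟨x, hxP⟩, ?_, rfl⟩
      show ψ ⟨x, hxP⟩ = 1
      ext z
      rw [hψ]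
      show x * (z : X) * x⁻¹ = z
      rw [← mem_centralizer_iff.1 hxc z z.2, mul_inv_cancel_right]
  have hran : ψ.range ≤ (MulAut.conj : ↥J →* MulAut ↥J).range := by
    rintro _ ⟨x, rfl⟩
    obtain ⟨j, hj, c, hc, hx⟩ := hs x x.2
    refine ⟨⟨j, hj⟩, ?_⟩
    ext z
    rw [hψ, hx]
    show j * (z : X) * j⁻¹ = j * c * z * (j * c)⁻¹
    have h1 := mem_centralizer_iff.1 hc z z.2
    calc j * (z : X) * j⁻¹ = j * ((z : X) * c) * c⁻¹ * j⁻¹ := by group
      _ = j * c * z * (j * c)⁻¹ := by rw [h1]; group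
  have hcardr : Nat.card ψ.range ∣ Nat.card J := by
    refine (Subgroup.card_dvd_of_le hran).trans ?_
    rw [← Subgroup.index_ker]
    exact Subgroup.index_dvd_card _
  obtain ⟨Q, hQ⟩ := Cfsg.Agent.SylowL.CompFacts.exists_sylow P hJ.1
  have hQc : Nat.card Q = Nat.card P₁ := by
    have h1 : Nat.card Q = Nat.card ((P : Subgroup X).subgroupOf J) := by
      rw [← hQ]
    rw [h1]
    exact Nat.card_congr ⟨fun x => ⟨((x : ↥J) : X), x.2, (x : ↥J).2⟩, fun x => ⟨⟨x, x.2.2⟩, x.2.1⟩, fun x => rfl, fun x => rfl⟩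
  have hr : Nat.card ψ.range ≤ Nat.card P₁ := by
    have h1 : Nat.card ψ.range ∣ Nat.card ↥(P : Subgroup X) := by
      rw [← Subgroup.index_ker]
      exact Subgroup.index_dvd_card _
    obtain ⟨n, hn⟩ := IsPGroup.iff_card.1 P.2
    rw [hn] at h1
    obtain ⟨k, -, hk⟩ := (Nat.dvd_prime_pow Nat.prime_two).1 h1
    rw [hk] at hcardr ⊢
    rw [← hQc]
    exact Nat.le_of_dvd Nat.card_pos (Q.pow_dvd_card_of_pow_dvd_card hcardr)
  have hcard : Nat.card (P : Subgroup X) ≤ Nat.card P₁ * Nat.card P₂ := by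
    have h1 := ψ.ker.card_mul_index
    rw [Subgroup.index_ker, ← Subgroup.card_map_of_injective (P : Subgroup X).subtype_injective (K := ψ.ker), hker] at h1
    calc Nat.card (P : Subgroup X) = Nat.card P₂ * Nat.card ψ.range := h1.symm
      _ ≤ Nat.card P₂ * Nat.card P₁ := Nat.mul_le_mul_left _ hr
      _ = _ := mul_comm _ _
  have hsup : Nat.card (P₁ ⊔ P₂ : Subgroup X) = Nat.card P₁ * Nat.card P₂ := by
    have hn : P₁ ≤ normalizer (P₂ : Set X) := by
      have h1 : P₁ ≤ centralizer (P₂ : Set X) := by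
        intro x hx
        rw [mem_centralizer_iff]
        intro y hy
        exact (mem_centralizer_iff.1 hy.2 x hx.2).symm
      exact h1.trans (centralizer_le_normalizer _)
    rw [card_sup_of_le hn]
    congr 1
    have h1 : P₂ ⊓ P₁ = ⊥ := by
      rw [eq_bot_iff, ← hinf]
      rintro x ⟨hx2, hx1⟩
      exact ⟨hx1.1, hx1.2, hx2.2⟩
    rw [← Subgroup.inf_relIndex_right, h1, Subgroup.relIndex_bot_left]
  apply Subgroup.eq_of_le_of_card_ge (sup_le inf_le_left inf_le_left)
  rw [hsup]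
  exact hcard

namespace Sit

variable {G : Type u} [Group G] [Finite G] {T : Sylow 2 G} {W : Subgroup ↥(T : Subgroup G)} {j : ℕ}

/-- the Sylow 2-subgroup of the quotient -/
noncomputable def P (T : Sylow 2 G) (j : ℕ) : Sylow 2 (G ⧸ C T j) :=
  T.mapSurjective (QuotientGroup.mk'_surjective (C T j))

theorem P_coe : (P T j : Subgroup (G ⧸ C T j)) = (T : Subgroup G).map (QuotientGroup.mk' (C T j)) := rfl

theorem card_P (s : Sit T W j) : Nat.card (P T j) * Nat.card (C T j) = 2 ^ 14 := by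
  rw [← s.toSet1.card_T]
  exact s.card_map s.C_le_T

/-- at most four components -/
theorem card_comp_le (s : Sit T W j) : Nat.card {K : Subgroup (G ⧸ C T j) // IsComponent K} ≤ 4 := by
  have : Fact (Nat.Prime 2) := ⟨Nat.prime_two⟩
  have h3 := four_pow_card_dvd (X := G ⧸ C T j)
  set n := Nat.card {K : Subgroup (G ⧸ C T j) // IsComponent K} with hn
  have h6 : (4 : ℕ) ^ n = 2 ^ (2 * n) := by rw [pow_mul]; norm_num
  rw [h6] at h3
  have h4 := (P T j).pow_dvd_card_of_pow_dvd_card h3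
  obtain ⟨c, hc5, -, hc⟩ := s.exists_c
  have h5 := s.card_P
  rw [hc] at h5
  have h7 : 2 ^ (2 * n) * 2 ^ c ∣ 2 ^ 14 := by
    rw [← h5]
    exact Nat.mul_dvd_mul_right h4 _
  rw [← pow_add] at h7
  have := (Nat.pow_dvd_pow_iff_le_right (by norm_num : 1 < 2)).1 h7
  omega

/-- **`P ≤ J`** -/
theorem P_le_component (s : Sit T W j) {J : Subgroup (G ⧸ C T j)} (hJ : IsComponent J) :
    (P T j : Subgroup (G ⧸ C T j)) ≤ J := by
  have : Fact (Nat.Prime 2) := ⟨Nat.prime_two⟩
  obtain ⟨D, hDn, hDD, hDs⟩ := exists_residual (G := G ⧸ C T j)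
  have hs := hDs hDn
  have hPD : (P T j : Subgroup (G ⧸ C T j)) ≤ D := by
    have h1 := le_ker T s.toSet1.sn s.two ((QuotientGroup.mk' D).comp (QuotientGroup.mk' (C T j))) (by infer_instance)
    rw [P_coe, map_le_iff_le_comap]
    intro t ht
    rw [mem_comap, ← QuotientGroup.ker_mk' D]
    exact h1 ht
  have hDJ : D ≤ normalizer (J : Set (G ⧸ C T j)) := le_normalizer_of_card s.card_comp_le hDD hJ
  have hPN := hPD.trans hDJ
  have hsup := sylow_split (P T j) s.core_quot hJ hPN (fun d hd => split s.inp hJ.2 hDD hDJ (hPD hd))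
  have hinf : (P T j : Subgroup (G ⧸ C T j)) ⊓ (J ⊓ centralizer (J : Set (G ⧸ C T j))) = ⊥ :=
    inf_odd (P T j).2 (odd_center s.core_quot hJ)
  -- pull back
  let f : ↥(T : Subgroup G) →* G ⧸ C T j := (QuotientGroup.mk' (C T j)).comp (T : Subgroup G).subtype
  have hfr : f.range = (P T j : Subgroup (G ⧸ C T j)) := by
    ext x
    constructor
    · rintro ⟨y, rfl⟩
      exact ⟨y, y.2, rfl⟩
    · rintro ⟨y, hy, rfl⟩
      exact ⟨⟨y, hy⟩, rfl⟩
  have hfk : f.ker = (C T j).subgroupOf (T : Subgroup G) := by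
    ext x
    show f x = 1 ↔ _
    rw [mem_subgroupOf]
    exact QuotientGroup.eq_one_iff _
  have hfP : ∀ x, f x ∈ (P T j : Subgroup (G ⧸ C T j)) := fun x => ⟨x, x.2, rfl⟩
  have hcn : ∀ g ∈ normalizer (J : Set (G ⧸ C T j)), ∀ c ∈ centralizer (J : Set (G ⧸ C T j)),
      g * c * g⁻¹ ∈ centralizer (J : Set (G ⧸ C T j)) := by
    intro g hg c hc
    rw [mem_centralizer_iff]
    intro x hx
    have h1 : g⁻¹ * x * g ∈ J := by
      have h2 := (mem_normalizer_iff.1 (inv_mem hg) x).1 hx
      rwa [inv_inv] at h2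
    have h2 := mem_centralizer_iff.1 hc _ h1
    calc x * (g * c * g⁻¹) = g * ((g⁻¹ * x * g) * c) * g⁻¹ := by group
      _ = g * c * g⁻¹ * x := by rw [h2]; group
  have hi := indec s.h (C := (C T j).subgroupOf (T : Subgroup G)) (P₁ := J.comap f)
    (P₂ := (centralizer (J : Set (G ⧸ C T j))).comap f) inferInstance (by
      intro z hz
      exact s.M_le_C (s.Z3_le_M ⟨z, hz, rfl⟩)) (by
      intro x hx
      obtain ⟨_, h1⟩ := mem_Wg.1 (s.C_le_W (mem_subgroupOf.1 hx))
      exact h1) (by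
      rw [sub_card s.C_le_T]; exact s.card_C_le) (by
      intro hle
      apply s.Z5_not_le
      rintro _ ⟨z, hz, rfl⟩
      exact hle hz) (by
      refine ⟨fun x hx g => ?_⟩
      rw [mem_comap, map_mul, map_mul, map_inv]
      exact (mem_normalizer_iff.1 (hPN (hfP g)) _).1 hx) (by
      refine ⟨fun x hx g => ?_⟩
      rw [mem_comap, map_mul, map_mul, map_inv]
      exact hcn _ (hPN (hfP g)) _ hx) (by
      rw [← hfk]
      intro x hx
      rw [mem_comap, (show f x = 1 from hx)]
      exact one_mem _) (by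
      rw [← hfk]
      intro x hx
      rw [mem_comap, (show f x = 1 from hx)]
      exact one_mem _) (by
      rw [← hfk]
      ext x
      constructor
      · rintro ⟨h1, h2⟩
        have h3 : f x ∈ (P T j : Subgroup (G ⧸ C T j)) ⊓ (J ⊓ centralizer (J : Set (G ⧸ C T j))) := ⟨hfP x, h1, h2⟩
        rw [hinf, mem_bot] at h3
        exact h3
      · intro hx
        refine ⟨?_, ?_⟩
        · show f x ∈ J
          rw [(show f x = 1 from hx)]
          exact one_mem _
        · show f x ∈ centralizer _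
          rw [(show f x = 1 from hx)]
          exact one_mem _) (by
      have h1 : (J.comap f ⊔ (centralizer (J : Set (G ⧸ C T j))).comap f).map f = (⊤ : Subgroup _).map f := by
        rw [Subgroup.map_sup, Subgroup.map_comap_eq, Subgroup.map_comap_eq, hfr, hsup, ← hfr, MonoidHom.range_eq_map]
      have h2 := congrArg (Subgroup.comap f) h1
      rw [Subgroup.comap_map_eq_self, Subgroup.comap_map_eq_self] at h2
      · exact h2
      · exact le_top
      · refine le_trans ?_ le_sup_left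
        intro x hx
        rw [mem_comap, (show f x = 1 from hx)]
        exact one_mem _) (by
      intro x hx y hy
      rw [← hfk]
      show f ⁅x, y⁆ = 1
      rw [map_commutatorElement, commutatorElement_eq_one_iff_mul_comm]
      exact mem_centralizer_iff.1 hy _ hx)
  rcases hi with hi | hi
  · exfalso
    -- `P ∩ J = 1`
    have h1 : (P T j : Subgroup (G ⧸ C T j)) ⊓ J = ⊥ := by
      have h2 := congrArg (Subgroup.map f) hi
      rw [Subgroup.map_comap_eq, hfr, ← hfk] at h2
      rw [h2, Subgroup.map_eq_bot_iff]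
    obtain ⟨Q, hQ⟩ := Cfsg.Agent.SylowL.CompFacts.exists_sylow (P T j) hJ.1
    have h4 : (2 : ℕ) ^ 2 ∣ Nat.card J := (four_dvd hJ.2).trans (Subgroup.card_quotient_dvd_card _)
    have h5 := Q.pow_dvd_card_of_pow_dvd_card h4
    have h6 : (Q : Subgroup J) = ⊥ := by
      rw [hQ, eq_bot_iff]
      intro x hx
      have h7 : (x : G ⧸ C T j) ∈ (P T j : Subgroup (G ⧸ C T j)) ⊓ J := ⟨hx, x.2⟩
      rw [h1, mem_bot] at h7
      exact Subtype.ext h7
    rw [h6, Subgroup.card_bot] at h5
    norm_num at h5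
  · have h1 : (P T j : Subgroup (G ⧸ C T j)) ⊓ centralizer (J : Set (G ⧸ C T j)) = ⊥ := by
      have h2 := congrArg (Subgroup.map f) hi
      rw [Subgroup.map_comap_eq, hfr, ← hfk] at h2
      rw [h2, Subgroup.map_eq_bot_iff]
    rw [h1, sup_bot_eq] at hsup
    rw [← hsup]
    exact inf_le_right

end Sit

end Cfsg.Agent.H302.Rv
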