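import Mathlib
import Cfsg.Agent.H302.RvEl

/-!
# 2-groups of Rudvalis type: the subgroup `K / Z_3 = C_V(c)` and `Z_5` (helper302)
-/

set_option autoImplicit false
set_option linter.style.haveILetI false
set_option linter.unnecessarySimpa false

namespace Cfsg.Agent.H302.Rv

open Subgroup Cfsg.Agent.H303 Cfsg.Agent.H303.RuMain
open scoped commutatorElement

local notation "Zu" => Subgroup.upperCentralSeries

variable {T : Type*} [Group T] {W : Subgroup T}

/-- `w ↦ ⁅c, w⁆ Z_3` on `W`, for any `c` -/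
def dm (h : Hyp T W) (c : T) : ↥W →* T ⧸ Zu T 3 where
  toFun w := QuotientGroup.mk' (Zu T 3) ⁅c, (w : T)⁆
  map_one' := by
    rw [Subgroup.coe_one, commutatorElement_one_right, map_one]
  map_mul' := by
    intro x y
    rw [map_commutatorElement, map_commutatorElement, map_commutatorElement, Subgroup.coe_mul, map_mul]
    exact dl_mul h.normalV h.V_facts.2.1 _ (Hyp.mem_V x.2) (Hyp.mem_V y.2)

theorem dm_apply (h : Hyp T W) (c : T) (w : ↥W) : dm h c w = QuotientGroup.mk' (Zu T 3) ⁅c, (w : T)⁆ := rfl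

/-- `K = Fx W B`, tested by `c` alone -/
theorem mem_K (h : Hyp T W) {c : T} (hc : c ∈ B T) (hcW : c ∉ W) {w : T} :
    w ∈ Fx W (B T) ↔ w ∈ W ∧ ⁅c, w⁆ ∈ Zu T 3 := by
  rw [mem_Fx]
  refine and_congr_right fun hw => ⟨fun h1 => h1 c hc, fun h1 b hb => ?_⟩
  by_cases hbW : b ∈ W
  · exact h.comm_W_mem hbW hw
  · have h2 := inv_mul_mem h hc hcW hb hbW
    have hn3 : (Zu T 3).Normal := inferInstance
    have e : b = c * (c⁻¹ * b) := by group
    rw [e, dl_comp]
    have h3 := h.comm_W_mem h2 hw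
    exact mul_mem (mul_mem (dl_mem hn3 c h3) h3) h1

/-- `⁅c, w⁆ ∈ K` -/
theorem comm_mem_K (h : Hyp T W) {c : T} (hc : c ∈ B T) (hcW : c ∉ W) {w : T} (hw : w ∈ W) :
    ⁅c, w⁆ ∈ Fx W (B T) := by
  rw [mem_K h hc hcW]
  refine ⟨comm_mem_of h hw, ?_⟩
  rw [← mk3_eq_one, map_commutatorElement, map_commutatorElement]
  refine dl_self h.normalV h.V_facts.2.1 h.V_facts.1 ?_ (Hyp.mem_V hw)
  rw [← map_pow]
  exact Hyp.mem_V (sq_B h hc)

theorem card_K (h : Hyp T W) : Nat.card (Fx W (B T)) = 2 ^ 7 := by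
  have := h.fin
  obtain ⟨c, hcA, hc0, hcW⟩ := exists_c h
  have hc : c ∈ B T := ⟨hcA, hc0⟩
  have h1 := card_Fx h (h.Z3_le_W.trans (W_le_B h))
  rw [index_B h] at h1
  set K := Fx W (B T) with hK
  -- `|W| = |K| · |range|`, `|range| · 8 ≤ |K|`
  have h2 : Nat.card (dm h c).ker = Nat.card K := by
    apply Nat.card_congr
    refine ⟨fun x => ⟨x, ?_⟩, fun x => ⟨⟨x, Fx_le x.2⟩, ?_⟩, fun x => rfl, fun x => rfl⟩
    · rw [hK, mem_K h hc hcW]
      exact ⟨(x : ↥W).2, mk3_eq_one.1 x.2⟩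
    · show dm h c _ = 1
      rw [dm_apply, mk3_eq_one]
      exact ((mem_K h hc hcW).1 x.2).2
  have h3 := (dm h c).ker.card_mul_index
  have h3' : (dm h c).ker.index = Nat.card (dm h c).range := Subgroup.index_ker _
  rw [h2, h3', h.orders.2.2.2] at h3
  have h4 : Nat.card (dm h c).range * 8 ≤ Nat.card K := by
    have h5 : Nat.card ((dm h c).range.comap (QuotientGroup.mk' (Zu T 3))) = Nat.card (dm h c).range * 8 := by
      have h5 := ((dm h c).range.comap (QuotientGroup.mk' (Zu T 3))).card_mul_index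
      rw [Subgroup.index_comap_of_surjective _ (QuotientGroup.mk'_surjective _)] at h5
      have h6 := (dm h c).range.card_mul_index
      have h7 := (Zu T 3).card_mul_index
      have h8 : (Zu T 3).index = Nat.card (T ⧸ Zu T 3) := rfl
      rw [h8, ← h6, h.cardZ 3 (by norm_num)] at h7
      have h9 : 0 < (dm h c).range.index := Nat.pos_of_ne_zero Subgroup.index_ne_zero_of_finite
      apply Nat.eq_of_mul_eq_mul_right h9
      rw [h5, ← h7]; ring
    rw [← h5]
    apply Subgroup.card_le_of_le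
    rintro x ⟨w, hw⟩
    rw [dm_apply] at hw
    have h6 : ⁅c, (w : T)⁆⁻¹ * x ∈ Zu T 3 := Hyp.mk_eq_iff.1 hw
    have e : x = ⁅c, (w : T)⁆ * (⁅c, (w : T)⁆⁻¹ * x) := by group
    rw [e]
    exact mul_mem (comm_mem_K h hc hcW w.2) (Z3_le_Fx h h6)
  have h5 : Nat.card K ≤ 2 ^ 7 := by simpa using h1
  have h6 : 2 ^ 14 ≤ Nat.card K * Nat.card K := by
    calc 2 ^ 14 = 8 * (Nat.card K * Nat.card (dm h c).range) := by rw [h3]; norm_num
      _ = Nat.card K * (Nat.card (dm h c).range * 8) := by ring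
      _ ≤ Nat.card K * Nat.card K := Nat.mul_le_mul_left _ h4
  nlinarith

/-- every element of `K` is `⁅c, w⁆` modulo `Z_3` -/
theorem exists_of_mem_K (h : Hyp T W) {c : T} (hc : c ∈ B T) (hcW : c ∉ W) {k : T} (hk : k ∈ Fx W (B T)) :
    ∃ w ∈ W, ⁅c, w⁆⁻¹ * k ∈ Zu T 3 := by
  have := h.fin
  have h2 : Nat.card (dm h c).ker = Nat.card (Fx W (B T)) := by
    apply Nat.card_congr
    refine ⟨fun x => ⟨x, ?_⟩, fun x => ⟨⟨x, Fx_le x.2⟩, ?_⟩, fun x => rfl, fun x => rfl⟩
    · rw [mem_K h hc hcW]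
      exact ⟨(x : ↥W).2, mk3_eq_one.1 x.2⟩
    · show dm h c _ = 1
      rw [dm_apply, mk3_eq_one]
      exact ((mem_K h hc hcW).1 x.2).2
  have h3 := (dm h c).ker.card_mul_index
  have h3' : (dm h c).ker.index = Nat.card (dm h c).range := Subgroup.index_ker _
  rw [h2, h3', h.orders.2.2.2, card_K h] at h3
  have h4 : Nat.card (dm h c).range = 2 ^ 4 := by omega
  have h5 : Nat.card ((dm h c).range.comap (QuotientGroup.mk' (Zu T 3))) = Nat.card (dm h c).range * 8 := by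
    have h5 := ((dm h c).range.comap (QuotientGroup.mk' (Zu T 3))).card_mul_index
    rw [Subgroup.index_comap_of_surjective _ (QuotientGroup.mk'_surjective _)] at h5
    have h6 := (dm h c).range.card_mul_index
    have h7 := (Zu T 3).card_mul_index
    have h8 : (Zu T 3).index = Nat.card (T ⧸ Zu T 3) := rfl
    rw [h8, ← h6, h.cardZ 3 (by norm_num)] at h7
    have h9 : 0 < (dm h c).range.index := Nat.pos_of_ne_zero Subgroup.index_ne_zero_of_finite
    apply Nat.eq_of_mul_eq_mul_right h9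
    rw [h5, ← h7]; ring
  have hle : (dm h c).range.comap (QuotientGroup.mk' (Zu T 3)) ≤ Fx W (B T) := by
    rintro x ⟨w, hw⟩
    rw [dm_apply] at hw
    have h6 : ⁅c, (w : T)⁆⁻¹ * x ∈ Zu T 3 := Hyp.mk_eq_iff.1 hw
    have e : x = ⁅c, (w : T)⁆ * (⁅c, (w : T)⁆⁻¹ * x) := by group
    rw [e]
    exact mul_mem (comm_mem_K h hc hcW w.2) (Z3_le_Fx h h6)
  have heq := Subgroup.eq_of_le_of_card_ge hle (by rw [h5, h4, card_K h]; norm_num)
  rw [← heq] at hk
  obtain ⟨w, hw⟩ := hk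
  exact ⟨w, w.2, Hyp.mk_eq_iff.1 hw⟩

end Cfsg.Agent.H302.Rv
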