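import Mathlib
import Cfsg.Agent.H302.RvK

/-!
# 2-groups of Rudvalis type: `Z_5` in normal subgroups (helper302)
-/

set_option autoImplicit false
set_option linter.style.haveILetI false
set_option linter.unnecessarySimpa false

namespace Cfsg.Agent.H302.Rv

open Subgroup Cfsg.Agent.H303 Cfsg.Agent.H303.RuMain
open scoped commutatorElement

local notation "Zu" => Subgroup.upperCentralSeries

section General

variable {G : Type*} [Group G]

/-- the centraliser of `x` modulo the normal subgroup `N` -/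
def cM (N : Subgroup G) [N.Normal] (x : G) : Subgroup G :=
  (centralizer {QuotientGroup.mk' N x}).comap (QuotientGroup.mk' N)

theorem mem_cM {N : Subgroup G} [N.Normal] {x g : G} : g ∈ cM N x ↔ ⁅g, x⁆ ∈ N := by
  show QuotientGroup.mk' N g ∈ centralizer {QuotientGroup.mk' N x} ↔ _
  rw [mem_centralizer_singleton_iff, ← commutatorElement_eq_one_iff_mul_comm, ← map_commutatorElement]
  exact QuotientGroup.eq_one_iff _

theorem dl_self' {t x : G} (h1 : ⁅t * t, x⁆ = 1) (h2 : ⁅t, x⁆ ^ 2 = 1) : ⁅t, ⁅t, x⁆⁆ = 1 := by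
  have h3 := dl_comp t t x
  rw [h1, mul_assoc, ← pow_two, h2, mul_one] at h3
  exact h3.symm

theorem dl_comm' {V : Subgroup G} (hVn : V.Normal) (hV : ∀ x ∈ V, ∀ y ∈ V, x * y = y * x)
    {t s : G} (hts : ∀ y ∈ V, ⁅t, s⁆ * y = y * ⁅t, s⁆) {x : G} (hx : x ∈ V) : ⁅t, ⁅s, x⁆⁆ = ⁅s, ⁅t, x⁆⁆ := by
  have hc : ∀ g : G, g * x * g⁻¹ ∈ V := fun g => hVn.conj_mem x hx g
  have e0 : (t * s) * x * (t * s)⁻¹ = (s * t) * x * (s * t)⁻¹ := by
    have h1 := hts _ (hc (s * t))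
    calc (t * s) * x * (t * s)⁻¹ = ⁅t, s⁆ * ((s * t) * x * (s * t)⁻¹) * ⁅t, s⁆⁻¹ := by
          rw [commutatorElement_def]; group
      _ = (s * t) * x * (s * t)⁻¹ := by rw [h1]; group
  have e1 : ⁅t, ⁅s, x⁆⁆ = ((t * s) * x * (t * s)⁻¹) * ((t * x * t⁻¹)⁻¹ * (x * (s * x * s⁻¹)⁻¹)) := by
    simp only [commutatorElement_def]; group
  have e2 : ⁅s, ⁅t, x⁆⁆ = ((s * t) * x * (s * t)⁻¹) * ((s * x * s⁻¹)⁻¹ * (x * (t * x * t⁻¹)⁻¹)) := by
    simp only [commutatorElement_def]; group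
  rw [e1, e2, e0]
  congr 1
  have a1 := hV _ (inv_mem (hc t)) _ (mul_mem hx (inv_mem (hc s)))
  have a2 := hV _ hx _ (inv_mem (hc s))
  rw [a1, a2, mul_assoc]

/-- nilpotency: `N ≤ ⁅N, ⊤⁆` implies `N = 1` -/
theorem eq_bot_of_le_commutator (hG : Group.IsNilpotent G) {N : Subgroup G} (h : N ≤ ⁅N, ⊤⁆) : N = ⊥ := by
  have key : ∀ n : ℕ, N ≤ (⊤ : Subgroup G).lowerCentralSeries n := by
    intro n
    induction n with
    | zero => simp
    | succ n ih =>
      refine h.trans ?_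
      rw [Subgroup.lowerCentralSeries_succ]
      exact Subgroup.commutator_mono ih le_rfl
  obtain ⟨n, hn⟩ := _root_.nilpotent_iff_lowerCentralSeries.1 hG
  rw [eq_bot_iff, ← hn]
  exact key n

/-- nilpotency: `N ≤ ⁅N, ⊤⁆ Z` implies `N ≤ Z` -/
theorem le_of_le_commutator (hG : Group.IsNilpotent G) {N Z : Subgroup G} (hZ : Z.Normal)
    (h : N ≤ ⁅N, ⊤⁆ ⊔ Z) : N ≤ Z := by
  have h1 : N.map (QuotientGroup.mk' Z) = ⊥ := by
    apply eq_bot_of_le_commutator (G := G ⧸ Z)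
    · infer_instance
    · have h2 := Subgroup.map_mono (f := QuotientGroup.mk' Z) h
      rw [Subgroup.map_sup, Subgroup.map_commutator, Subgroup.map_top_of_surjective _ (QuotientGroup.mk'_surjective Z)] at h2
      refine h2.trans ?_
      rw [sup_le_iff]
      refine ⟨le_rfl, ?_⟩
      rintro _ ⟨z, hz, rfl⟩
      have : QuotientGroup.mk' Z z = 1 := (QuotientGroup.eq_one_iff z).2 hz
      rw [this]
      exact one_mem _
  rw [Subgroup.map_eq_bot_iff, QuotientGroup.ker_mk'] at h1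
  exact h1

end General

variable {T : Type*} [Group T] {W : Subgroup T}

/-- `K / Z_3` as an abelian normal subgroup of exponent 2 of `T / Z_3`. -/
theorem Kb_facts (h : Hyp T W) : ((Fx W (B T)).map (QuotientGroup.mk' (Zu T 3))).Normal ∧
    (∀ x ∈ (Fx W (B T)).map (QuotientGroup.mk' (Zu T 3)), x ^ 2 = 1) ∧
    (∀ x ∈ (Fx W (B T)).map (QuotientGroup.mk' (Zu T 3)), ∀ y ∈ (Fx W (B T)).map (QuotientGroup.mk' (Zu T 3)),
      x * y = y * x) ∧
    (∀ b ∈ B T, ∀ x ∈ (Fx W (B T)).map (QuotientGroup.mk' (Zu T 3)),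
      QuotientGroup.mk' (Zu T 3) b * x = x * QuotientGroup.mk' (Zu T 3) b) := by
  have hn : (Fx W (B T)).Normal := Fx_normal h B_normal
  have hle : (Fx W (B T)).map (QuotientGroup.mk' (Zu T 3)) ≤ Hyp.V W := Subgroup.map_mono Fx_le
  refine ⟨hn.map _ (QuotientGroup.mk'_surjective _), fun x hx => h.V_facts.1 x (hle hx),
    fun x hx y hy => h.V_facts.2.1 x (hle hx) y (hle hy), ?_⟩
  rintro b hb _ ⟨x, hx, rfl⟩
  rw [← commutatorElement_eq_one_iff_mul_comm, ← map_commutatorElement, mk3_eq_one]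
  exact (mem_Fx.1 hx).2 b hb

/-- iterated commutators with elements of `K` -/
theorem K_self (h : Hyp T W) (g : T) {k : T} (hk : k ∈ Fx W (B T)) : ⁅g, ⁅g, k⁆⁆ ∈ Zu T 3 := by
  obtain ⟨h1, h2, h3, h4⟩ := Kb_facts h
  have hk' : QuotientGroup.mk' (Zu T 3) k ∈ (Fx W (B T)).map (QuotientGroup.mk' (Zu T 3)) := mem_map_of_mem _ hk
  rw [← mk3_eq_one, map_commutatorElement, map_commutatorElement]
  apply dl_self'
  · rw [← map_mul, commutatorElement_eq_one_iff_mul_comm]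
    refine h4 _ (mem_inf.2 ⟨?_, ?_⟩) _ hk'
    · exact Subgroup.mul_self_mem_of_index_two h.index_A.1 g
    · exact Subgroup.mul_self_mem_of_index_two (index_T0_eq h) g
  · exact h2 _ (dl_mem h1 _ hk')

theorem K_comm (h : Hyp T W) (g s : T) {k : T} (hk : k ∈ Fx W (B T)) :
    QuotientGroup.mk' (Zu T 3) ⁅g, ⁅s, k⁆⁆ = QuotientGroup.mk' (Zu T 3) ⁅s, ⁅g, k⁆⁆ := by
  obtain ⟨h1, h2, h3, h4⟩ := Kb_facts h
  have hk' : QuotientGroup.mk' (Zu T 3) k ∈ (Fx W (B T)).map (QuotientGroup.mk' (Zu T 3)) := mem_map_of_mem _ hk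
  simp only [map_commutatorElement]
  refine dl_comm' h1 h3 (fun y hy => ?_) hk'
  rw [← map_commutatorElement]
  exact h4 _ (comm_mem_B h g s) y hy

theorem K_mem (h : Hyp T W) (g : T) {k : T} (hk : k ∈ Fx W (B T)) : ⁅g, k⁆ ∈ Fx W (B T) :=
  dl_mem (Fx_normal h B_normal) g hk

theorem comm3 (_h : Hyp T W) {x y : T} (hxy : QuotientGroup.mk' (Zu T 3) x = QuotientGroup.mk' (Zu T 3) y) (g : T) :
    ⁅g, x⁆ ∈ Zu T 3 ↔ ⁅g, y⁆ ∈ Zu T 3 := by
  rw [← mk3_eq_one, ← mk3_eq_one, map_commutatorElement, map_commutatorElement, hxy]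

/-- `⁅a, ⁅t, k⁆⁆ ∈ Z_4` -/
theorem K_four (h : Hyp T W) {a t : T} (haA : a ∈ Hyp.A T) (ha0 : a ∉ T0 T) (ht0 : t ∈ T0 T) (htA : t ∉ Hyp.A T)
    {k : T} (hk : k ∈ Fx W (B T)) : ⁅a, ⁅t, k⁆⁆ ∈ Zu T 4 := by
  rw [mem_succ_iff]
  have hn3 : (Zu T 3).Normal := inferInstance
  have hM : cM (Zu T 3) ⁅a, ⁅t, k⁆⁆ = ⊤ := by
    refine eq_top_of h (M := cM (Zu T 3) ⁅a, ⁅t, k⁆⁆) ?_ ?_ haA ha0 ?_ ht0 htA
    · intro b hb
      rw [mem_cM]
      exact (mem_Fx.1 (K_mem h a (K_mem h t hk))).2 b hb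
    · rw [mem_cM]
      exact K_self h a (K_mem h t hk)
    · rw [mem_cM, comm3 h (K_comm h a t hk)]
      exact K_self h t (K_mem h a hk)
  intro g
  rw [← mem_cM, hM]
  exact mem_top _

/-- `⁅g, k⁆ ∈ Z_5` for `k ∈ K` -/
theorem K_five (h : Hyp T W) (g : T) {k : T} (hk : k ∈ Fx W (B T)) : ⁅g, k⁆ ∈ Zu T 5 := by
  obtain ⟨a, haA, ha0⟩ := exists_a' h
  obtain ⟨t, ht0, htA⟩ := exists_t h
  have h45 : Zu T 3 ≤ Zu T 4 := RuBase.upper_le_succ 3
  have h55 : Zu T 4 ≤ Zu T 5 := RuBase.upper_le_succ 4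
  have hta : ⁅t, ⁅a, k⁆⁆ ∈ Zu T 4 := by
    have h1 := K_comm h t a hk
    rw [Hyp.mk_eq_iff] at h1
    have h2 := K_four h haA ha0 ht0 htA hk
    have h3 := mul_mem h2 (inv_mem (h45 h1))
    have e : ⁅a, ⁅t, k⁆⁆ * (⁅t, ⁅a, k⁆⁆⁻¹ * ⁅a, ⁅t, k⁆⁆)⁻¹ = ⁅t, ⁅a, k⁆⁆ := by group
    rwa [e] at h3
  have h1 : ⁅a, k⁆ ∈ Zu T 5 := by
    rw [mem_succ_iff]
    have hM : cM (Zu T 4) ⁅a, k⁆ = ⊤ := by
      refine eq_top_of h (M := cM (Zu T 4) ⁅a, k⁆) ?_ ?_ haA ha0 ?_ ht0 htA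
      · intro b hb
        rw [mem_cM]
        exact h45 ((mem_Fx.1 (K_mem h a hk)).2 b hb)
      · rw [mem_cM]
        exact h45 (K_self h a hk)
      · rw [mem_cM]
        exact hta
    intro g
    rw [← mem_cM, hM]
    exact mem_top _
  have h2 : ⁅t, k⁆ ∈ Zu T 5 := by
    rw [mem_succ_iff]
    have hM : cM (Zu T 4) ⁅t, k⁆ = ⊤ := by
      refine eq_top_of h (M := cM (Zu T 4) ⁅t, k⁆) ?_ ?_ haA ha0 ?_ ht0 htA
      · intro b hb
        rw [mem_cM]
        exact h45 ((mem_Fx.1 (K_mem h t hk)).2 b hb)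
      · rw [mem_cM]
        exact K_four h haA ha0 ht0 htA hk
      · rw [mem_cM]
        exact h45 (K_self h t hk)
    intro g
    rw [← mem_cM, hM]
    exact mem_top _
  have hM : cM (Zu T 5) k = ⊤ := by
    refine eq_top_of h (M := cM (Zu T 5) k) ?_ ?_ haA ha0 ?_ ht0 htA
    · intro b hb
      rw [mem_cM]
      exact h55 (h45 ((mem_Fx.1 hk).2 b hb))
    · rw [mem_cM]; exact h1
    · rw [mem_cM]; exact h2
  rw [← mem_cM, hM]
  exact mem_top _

/-- a subgroup of `K` containing `[K, T] Z_3` has index at most two in `K`. -/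
theorem card_of_comm (h : Hyp T W) {N : Subgroup T} (hN : Zu T 3 ≤ N) (_hNK : N ≤ Fx W (B T))
    (hKN : ∀ g : T, ∀ k ∈ Fx W (B T), ⁅g, k⁆ ∈ N) : 2 ^ 6 ≤ Nat.card N := by
  have := h.fin
  obtain ⟨c, hcA, hc0, hcW⟩ := exists_c h
  have hc : c ∈ B T := ⟨hcA, hc0⟩
  -- the preimage in `W`
  let U : Subgroup T := ((N.map (QuotientGroup.mk' (Zu T 3))).comap (dm h c)).map W.subtype
  have hmemN : ∀ x : T, QuotientGroup.mk' (Zu T 3) x ∈ N.map (QuotientGroup.mk' (Zu T 3)) ↔ x ∈ N := by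
    intro x
    constructor
    · rintro ⟨n, hn, hnx⟩
      have h1 : n⁻¹ * x ∈ Zu T 3 := Hyp.mk_eq_iff.1 hnx
      have e : x = n * (n⁻¹ * x) := by group
      rw [e]
      exact mul_mem hn (hN h1)
    · exact fun hx => mem_map_of_mem _ hx
  have hU : ∀ w : T, w ∈ U ↔ w ∈ W ∧ ⁅c, w⁆ ∈ N := by
    intro w
    constructor
    · rintro ⟨w', hw', rfl⟩
      refine ⟨w'.2, ?_⟩
      rw [← hmemN]
      exact hw'
    · rintro ⟨hw, hw'⟩
      refine ⟨⟨w, hw⟩, ?_, rfl⟩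
      show dm h c ⟨w, hw⟩ ∈ N.map (QuotientGroup.mk' (Zu T 3))
      rw [dm_apply, hmemN]
      exact hw'
  have hn3 : (Zu T 3).Normal := inferInstance
  have h1 : Nat.card W ≤ 2 ^ (⊤ : Subgroup T).index * Nat.card U := by
    refine coinv h ?_ ?_ ?_
    · intro z hz
      rw [hU]
      exact ⟨h.Z3_le_W hz, hN (dl_mem hn3 c hz)⟩
    · intro w hw
      exact ((hU w).1 hw).1
    · intro d _ w hw
      rw [hU]
      refine ⟨comm_mem_of h hw, ?_⟩
      have h2 : QuotientGroup.mk' (Zu T 3) ⁅c, ⁅d, w⁆⁆ = QuotientGroup.mk' (Zu T 3) ⁅d, ⁅c, w⁆⁆ := by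
        simp only [map_commutatorElement]
        refine dl_comm h.normalV h.V_facts.2.1 ?_ (Hyp.mem_V hw)
        rw [← map_commutatorElement]
        apply Hyp.mem_V
        rw [← commutatorElement_inv]
        exact inv_mem (comm_B h hc d)
      rw [← hmemN, h2, hmemN]
      exact hKN d _ (comm_mem_K h hc hcW hw)
  rw [Subgroup.index_top, h.orders.2.2.2, pow_one] at h1
  -- `|U| ≤ |ker| * |N / Z_3|`
  have h2 : Nat.card U = Nat.card ((N.map (QuotientGroup.mk' (Zu T 3))).comap (dm h c)) :=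
    Subgroup.card_map_of_injective W.subtype_injective
  have h3 : Nat.card ((N.map (QuotientGroup.mk' (Zu T 3))).comap (dm h c)) ≤
      Nat.card (dm h c).ker * Nat.card (N.map (QuotientGroup.mk' (Zu T 3))) := by
    set Y := N.map (QuotientGroup.mk' (Zu T 3)) with hY
    let f : ↥(Y.comap (dm h c)) →* ↥Y := ((dm h c).comp (Y.comap (dm h c)).subtype).codRestrict Y (fun x => x.2)
    have h4 := f.ker.card_mul_index
    have h5 : f.ker.index = Nat.card f.range := Subgroup.index_ker _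
    have h6 : Nat.card f.ker ≤ Nat.card (dm h c).ker := by
      apply Nat.card_le_card_of_injective (fun x : ↥f.ker => (⟨((x : ↥(Y.comap (dm h c))) : ↥W), by
        have h7 : f x = 1 := x.2
        exact congrArg Subtype.val h7⟩ : ↥(dm h c).ker))
      intro x y hxy
      have := congrArg Subtype.val hxy
      exact Subtype.ext (Subtype.ext this)
    have h7 : Nat.card f.range ≤ Nat.card Y := Subgroup.card_le_card_group _
    rw [← h4, h5]
    exact Nat.mul_le_mul h6 h7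
  have h4 : Nat.card (dm h c).ker = 2 ^ 7 := by
    rw [← card_K h]
    apply Nat.card_congr
    refine ⟨fun x => ⟨x, ?_⟩, fun x => ⟨⟨x, Fx_le x.2⟩, ?_⟩, fun x => rfl, fun x => rfl⟩
    · rw [mem_K h hc hcW]
      exact ⟨(x : ↥W).2, mk3_eq_one.1 x.2⟩
    · show dm h c _ = 1
      rw [dm_apply, mk3_eq_one]
      exact ((mem_K h hc hcW).1 x.2).2
  have h5 : Nat.card (N.map (QuotientGroup.mk' (Zu T 3))) * 8 = Nat.card N := by
    have h5 := (N.map (QuotientGroup.mk' (Zu T 3))).card_mul_index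
    have h6 := N.card_mul_index
    have h7 := (Zu T 3).card_mul_index
    have h8 : (Zu T 3).index = Nat.card (T ⧸ Zu T 3) := rfl
    have h9 : (N.map (QuotientGroup.mk' (Zu T 3))).index = N.index := by
      apply Subgroup.index_map_eq
      · exact QuotientGroup.mk'_surjective _
      · rw [QuotientGroup.ker_mk']; exact hN
    rw [h9] at h5
    rw [h8, ← h5, h.cardZ 3 (by norm_num), ← h6] at h7
    have h10 : 0 < N.index := Nat.pos_of_ne_zero Subgroup.index_ne_zero_of_finite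
    apply Nat.eq_of_mul_eq_mul_right h10
    rw [← h7]; ring
  rw [h4] at h3
  rw [← h5]
  have h6 : 2 ^ 11 ≤ 2 * (2 ^ 7 * Nat.card (N.map (QuotientGroup.mk' (Zu T 3)))) :=
    h1.trans (Nat.mul_le_mul_left _ (h2.le.trans h3))
  omega

theorem Z5_le_K (h : Hyp T W) : Zu T 5 ≤ Fx W (B T) := Z5_le_Fx h

theorem Z3_le_Z5 : Zu T 3 ≤ Zu T 5 := (RuBase.upper_le_succ 3).trans (RuBase.upper_le_succ 4)

/-- `|Z_5| = 2^6` -/
theorem card_Z5 (h : Hyp T W) : Nat.card (Zu T 5) = 2 ^ 6 :=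
  le_antisymm (card_Z5_le h) (card_of_comm h Z3_le_Z5 (Z5_le_Fx h) (fun g k hk => K_five h g hk))

/-- **T5**: a normal subgroup with large intersection with `K` contains `Z_5`. -/
theorem Z5_le_of (h : Hyp T W) {C : Subgroup T} (hC : C.Normal) (hZC : Zu T 3 ≤ C)
    (hc : 2 ^ 6 ≤ Nat.card (Fx W (B T) ⊓ C : Subgroup T)) : Zu T 5 ≤ C := by
  have := h.fin
  by_cases hKC : Fx W (B T) ≤ C
  · exact (Z5_le_Fx h).trans hKC
  · have hKn : (Fx W (B T)).Normal := Fx_normal h B_normal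
    have hn5 : (Zu T 5).Normal := inferInstance
    -- `[K, T] ≤ K ∩ C`
    have h1 : ∀ g : T, ∀ k ∈ Fx W (B T), ⁅g, k⁆ ∈ Fx W (B T) ⊓ C := by
      intro g k hk
      refine mem_inf.2 ⟨K_mem h g hk, ?_⟩
      -- index two
      set C' := C.subgroupOf (Fx W (B T)) with hC'
      have hidx : C'.index = 2 := by
        have h2 := C'.card_mul_index
        have h3 : Nat.card C' = Nat.card (Fx W (B T) ⊓ C : Subgroup T) := by
          apply Nat.card_congr
          exact ⟨fun x => ⟨x, (x : ↥(Fx W (B T))).2, x.2⟩, fun x => ⟨⟨x, x.2.1⟩, x.2.2⟩, fun x => rfl, fun x => rfl⟩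
        rw [h3, card_K h] at h2
        have h4 : C'.index ≠ 1 := by
          rw [Ne, Subgroup.index_eq_one, hC', Subgroup.subgroupOf_eq_top]
          exact hKC
        have h5 : C'.index ≤ 2 := by
          by_contra hcon
          push Not at hcon
          have := Nat.mul_le_mul hc (Nat.succ_le_of_lt hcon)
          rw [h2] at this
          norm_num at this
        have h6 : C'.index ≠ 0 := Subgroup.index_ne_zero_of_finite
        omega
      have h2 := Subgroup.mul_mem_iff_of_index_two hidx (a := ⟨g * k * g⁻¹, hKn.conj_mem k hk g⟩)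
        (b := ⟨k⁻¹, inv_mem hk⟩)
      have h3 : (⟨g * k * g⁻¹, hKn.conj_mem k hk g⟩ * ⟨k⁻¹, inv_mem hk⟩ : ↥(Fx W (B T))) ∈ C' := by
        rw [h2, hC', mem_subgroupOf, mem_subgroupOf]
        show g * k * g⁻¹ ∈ C ↔ k⁻¹ ∈ C
        rw [inv_mem_iff]
        constructor
        · intro h4
          have h5 := hC.conj_mem _ h4 g⁻¹
          have e : g⁻¹ * (g * k * g⁻¹) * g⁻¹⁻¹ = k := by group
          rwa [e] at h5
        · exact fun h4 => hC.conj_mem k h4 g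
      exact h3
    have h2 := card_of_comm h (N := Zu T 5 ⊓ (Fx W (B T) ⊓ C)) (le_inf Z3_le_Z5 (le_inf (Z3_le_Fx h) hZC))
      (inf_le_left.trans (Z5_le_Fx h)) (fun g k hk => mem_inf.2 ⟨K_five h g hk, h1 g k hk⟩)
    have h3 : Zu T 5 ⊓ (Fx W (B T) ⊓ C) = Zu T 5 := Subgroup.eq_of_le_of_card_ge inf_le_left (by
      rw [card_Z5 h]; exact h2)
    exact (inf_eq_left.1 h3).trans inf_le_right

end Cfsg.Agent.H302.Rv
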