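import Mathlib
import Cfsg.Agent.H302.RvZ5

/-!
# 2-groups of Rudvalis type: `Z_5` is not abelian (helper302)
-/

set_option autoImplicit false
set_option linter.style.haveILetI false
set_option linter.unnecessarySimpa false

namespace Cfsg.Agent.H302.Rv

open Subgroup Cfsg.Agent.H303 Cfsg.Agent.H303.RuMain
open scoped commutatorElement

local notation "Zu" => Subgroup.upperCentralSeries

variable {T : Type*} [Group T] {W : Subgroup T}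

theorem cf_mul_left (h : Hyp T W) {x y z : T} (hx : x ∈ W) (hy : y ∈ W) (hz : z ∈ W) :
    cf (x * y) z = cf x z + cf y z := by
  rw [h.cf_symm, h.cf_mul_right hz hx hy, h.cf_symm z x, h.cf_symm z y]

theorem cf_inv_left (h : Hyp T W) {x z : T} (hx : x ∈ W) (hz : z ∈ W) : cf x⁻¹ z = cf x z := by
  rw [h.cf_symm, h.cf_inv_right hz hx, h.cf_symm]

/-- the orthogonal space of `x ∈ W` -/
noncomputable def perp (h : Hyp T W) {x : T} (hx : x ∈ W) : Subgroup T where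
  carrier := {y | y ∈ W ∧ cf x y = 0}
  one_mem' := ⟨one_mem _, h.cf_one_right hx⟩
  mul_mem' := by
    rintro a b ⟨ha, ha'⟩ ⟨hb, hb'⟩
    exact ⟨mul_mem ha hb, by rw [h.cf_mul_right hx ha hb, ha', hb', add_zero]⟩
  inv_mem' := by
    rintro a ⟨ha, ha'⟩
    exact ⟨inv_mem ha, by rw [h.cf_inv_right hx ha, ha']⟩

theorem mem_perp (h : Hyp T W) {x y : T} (hx : x ∈ W) : y ∈ perp h hx ↔ y ∈ W ∧ cf x y = 0 := Iff.rfl

theorem Z3_le_perp (h : Hyp T W) {x : T} (hx : x ∈ W) : Zu T 3 ≤ perp h hx :=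
  fun _ hz => ⟨h.Z3_le_W hz, h.cf_Z3 hx hz⟩

theorem cf_dl (h : Hyp T W) (g : T) {x y : T} (hx : x ∈ W) (hy : y ∈ W) :
    cf ⁅g, x⁆ y = cf (g * x * g⁻¹) y + cf x y := by
  rw [commutatorElement_def, cf_mul_left h (h.conj_W hx g) (inv_mem hx) hy, cf_inv_left h hx hy]

/-- the norm form -/
theorem beta (h : Hyp T W) (a c : T) {x y : T} (hx : x ∈ W) (hy : y ∈ W) :
    cf ⁅a, ⁅c, x⁆⁆ y = cf ((a * c) * x * (a * c)⁻¹) y + cf (a * x * a⁻¹) y + (cf (c * x * c⁻¹) y + cf x y) := by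
  rw [cf_dl h a (comm_mem_of h hx) hy, cf_dl h c hx hy]
  have e : a * ⁅c, x⁆ * a⁻¹ = ((a * c) * x * (a * c)⁻¹) * (a * x * a⁻¹)⁻¹ := by
    rw [commutatorElement_def]; group
  rw [e, cf_mul_left h (h.conj_W hx _) (inv_mem (h.conj_W hx _)) hy, cf_inv_left h (h.conj_W hx _) hy]

theorem beta_self (h : Hyp T W) {a c : T} (ha : a ∈ Hyp.A T) (hc : c ∈ Hyp.A T) {x : T} (hx : x ∈ W) :
    cf ⁅a, ⁅c, x⁆⁆ x = 0 := by
  rw [beta h a c hx hx, h.cf_symm _ x, h.cf_symm _ x, h.cf_symm _ x, h.cf_A hx (mul_mem ha hc), h.cf_A hx ha,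
    h.cf_A hx hc, h.cf_self]
  decide

theorem beta_mul (h : Hyp T W) (a c : T) {x x' y : T} (hx : x ∈ W) (hx' : x' ∈ W) (hy : y ∈ W) :
    cf ⁅a, ⁅c, x * x'⁆⁆ y = cf ⁅a, ⁅c, x⁆⁆ y + cf ⁅a, ⁅c, x'⁆⁆ y := by
  rw [beta h a c (mul_mem hx hx') hy, beta h a c hx hy, beta h a c hx' hy]
  have e : ∀ g : T, cf (g * (x * x') * g⁻¹) y = cf (g * x * g⁻¹) y + cf (g * x' * g⁻¹) y := by
    intro g
    have e1 : g * (x * x') * g⁻¹ = (g * x * g⁻¹) * (g * x' * g⁻¹) := by group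
    rw [e1, cf_mul_left h (h.conj_W hx g) (h.conj_W hx' g) hy]
  rw [e, e, e, cf_mul_left h hx hx' hy]
  ring

/-- the key computation: `[x, ⁅c, u⁆] = ⁅c, [x, u]⁆` for `x ∈ K` -/
theorem cf_of_comm (h : Hyp T W) {c : T} (hc : c ∈ B T) (hcW : c ∉ W) {x u : T} (hx : x ∈ Fx W (B T)) (hu : u ∈ W)
    (hcomm : x * ⁅c, u⁆ = ⁅c, u⁆ * x) : cf x u = 0 := by
  have hxW : x ∈ W := Fx_le hx
  have hcu : c * u * c⁻¹ ∈ W := h.conj_W hu c
  have hz3 : ⁅x, u⁆ ∈ Zu T 3 := h.comm_W_mem hxW hu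
  rw [cf_eq_zero]
  by_contra hcon
  apply hcW
  refine h.cent_Z3 hz3 hcon ?_ (Hyp.mem_A.1 hc.1)
  -- `⁅x, c u c⁻¹⁆ = ⁅x, u⁆`
  have h1 : ⁅x, c * u * c⁻¹⁆ = ⁅x, u⁆ := by
    have e : c * u * c⁻¹ = ⁅c, u⁆ * u := by rw [commutatorElement_def]; group
    rw [e]
    have e2 : ⁅x, ⁅c, u⁆ * u⁆ = (x * ⁅c, u⁆ * x⁻¹) * (x * u * x⁻¹ * u⁻¹) * ⁅c, u⁆⁻¹ := by
      simp only [commutatorElement_def]; group
    have e3 : x * ⁅c, u⁆ * x⁻¹ = ⁅c, u⁆ := by rw [hcomm]; group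
    rw [e2, e3, ← commutatorElement_def, ← h.comm_Z3_W hz3 (comm_mem_of h hu)]
    group
  -- `⁅x, c u c⁻¹⁆ = c ⁅c⁻¹ x c, u⁆ c⁻¹` and `c⁻¹ x c = x z`
  have h2 : ⁅x, c * u * c⁻¹⁆ = c * ⁅c⁻¹ * x * c, u⁆ * c⁻¹ := by
    simp only [commutatorElement_def]; group
  have h3 : ⁅c⁻¹ * x * c, u⁆ = ⁅x, u⁆ := by
    have h4 : ⁅c⁻¹, x⁆ ∈ Zu T 3 := (mem_Fx.1 hx).2 _ (inv_mem hc)
    have e : c⁻¹ * x * c = ⁅c⁻¹, x⁆ * x := by rw [commutatorElement_def]; group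
    rw [e]
    have h5 := h.comm_Z3_W h4 (h.conj_W hu x)
    have h6 := h.comm_Z3_W h4 (mul_mem (h.conj_W hu x) (inv_mem hu))
    have e2 : ⁅⁅c⁻¹, x⁆ * x, u⁆ = ⁅c⁻¹, x⁆ * (x * u * x⁻¹) * (⁅c⁻¹, x⁆⁻¹ * u⁻¹) := by
      rw [commutatorElement_def (⁅c⁻¹, x⁆ * x) u]; group
    have h7 := h.comm_Z3_W (inv_mem h4) (inv_mem hu)
    rw [e2, h7, h5]
    calc x * u * x⁻¹ * ⁅c⁻¹, x⁆ * (u⁻¹ * ⁅c⁻¹, x⁆⁻¹) = x * u * x⁻¹ * (⁅c⁻¹, x⁆ * u⁻¹) * ⁅c⁻¹, x⁆⁻¹ := by group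
      _ = x * u * x⁻¹ * (u⁻¹ * ⁅c⁻¹, x⁆) * ⁅c⁻¹, x⁆⁻¹ := by rw [h.comm_Z3_W h4 (inv_mem hu)]
      _ = ⁅x, u⁆ := by rw [commutatorElement_def]; group
  rw [h2, h3] at h1
  -- `c ⁅x, u⁆ c⁻¹ = ⁅x, u⁆`
  calc ⁅x, u⁆ * c = (c * ⁅x, u⁆ * c⁻¹) * c := by rw [h1]
    _ = c * ⁅x, u⁆ := by group

/-- **T3**: `Z_5` is not abelian. -/
theorem Z5_not_comm (h : Hyp T W) (hcomm : ∀ x ∈ Zu T 5, ∀ y ∈ Zu T 5, x * y = y * x) : False := by
  have := h.fin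
  obtain ⟨c, hcA, hc0, hcW⟩ := exists_c h
  have hc : c ∈ B T := ⟨hcA, hc0⟩
  obtain ⟨a, haA, ha0⟩ := exists_a' h
  obtain ⟨w₀, hw₀, hgen⟩ := exists_gen h
  have hn3 : (Zu T 3).Normal := inferInstance
  have hdlW : ∀ x ∈ W, ⁅a, ⁅c, x⁆⁆ ∈ W := fun x hx => comm_mem_of h (comm_mem_of h hx)
  -- step 1
  have h1 : ∀ w ∈ W, ∀ g : T, cf ⁅a, ⁅c, w⁆⁆ (g * w * g⁻¹) = 0 := by
    intro w hw g
    have hk : ⁅c, w⁆ ∈ Fx W (B T) := comm_mem_K h hc hcW hw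
    have hx5 : ⁅a, ⁅c, w⁆⁆ ∈ Zu T 5 := K_five h a hk
    have hxK : ⁅a, ⁅c, w⁆⁆ ∈ Fx W (B T) := K_mem h a hk
    have hy5 : ⁅c, ⁅g, w⁆⁆ ∈ Zu T 5 := by
      have h2 : QuotientGroup.mk' (Zu T 3) ⁅c, ⁅g, w⁆⁆ = QuotientGroup.mk' (Zu T 3) ⁅g, ⁅c, w⁆⁆ := by
        simp only [map_commutatorElement]
        refine dl_comm h.normalV h.V_facts.2.1 ?_ (Hyp.mem_V hw)
        rw [← map_commutatorElement]
        apply Hyp.mem_V
        rw [← commutatorElement_inv]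
        exact inv_mem (comm_B h hc g)
      rw [Hyp.mk_eq_iff] at h2
      have h3 := K_five h g hk
      have h4 := mul_mem h3 (inv_mem (Z3_le_Z5 h2))
      have e : ⁅g, ⁅c, w⁆⁆ * (⁅c, ⁅g, w⁆⁆⁻¹ * ⁅g, ⁅c, w⁆⁆)⁻¹ = ⁅c, ⁅g, w⁆⁆ := by group
      rwa [e] at h4
    have h2 := cf_of_comm h hc hcW hxK (comm_mem_of h hw) (hcomm _ hx5 _ hy5)
    have e : g * w * g⁻¹ = ⁅g, w⁆ * w := by rw [commutatorElement_def]; group
    rw [e, h.cf_mul_right (hdlW w hw) (comm_mem_of h hw) hw, h2, beta_self h haA hcA hw, add_zero]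
  -- step 2
  have h2 : ∀ x ∈ W, cf ⁅a, ⁅c, w₀⁆⁆ x = 0 := by
    intro x hx
    exact ((mem_perp h (hdlW w₀ hw₀)).1 (hgen (perp h (hdlW w₀ hw₀)) (Z3_le_perp h _)
      (fun g => ⟨h.conj_W hw₀ g, h1 w₀ hw₀ g⟩) hx)).2
  -- step 3
  have h3 : ∀ x ∈ W, ∀ y ∈ W, cf ⁅a, ⁅c, x⁆⁆ y = 0 := by
    intro x hx y hy
    have h4 : ∀ g : T, cf ⁅a, ⁅c, x⁆⁆ (g * w₀ * g⁻¹) = 0 := by
      intro g
      have h5 := h1 (x * w₀) (mul_mem hx hw₀) g
      have e : g * (x * w₀) * g⁻¹ = (g * x * g⁻¹) * (g * w₀ * g⁻¹) := by group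
      rw [beta_mul h a c hx hw₀ (h.conj_W (mul_mem hx hw₀) g), e, h.cf_mul_right (hdlW x hx) (h.conj_W hx g)
        (h.conj_W hw₀ g), h.cf_mul_right (hdlW w₀ hw₀) (h.conj_W hx g) (h.conj_W hw₀ g), h1 x hx g, h1 w₀ hw₀ g,
        h2 _ (h.conj_W hx g), zero_add, add_zero, add_zero] at h5
      exact h5
    exact ((mem_perp h (hdlW x hx)).1 (hgen (perp h (hdlW x hx)) (Z3_le_perp h _)
      (fun g => ⟨h.conj_W hw₀ g, h4 g⟩) hy)).2
  -- step 4: an isotropic subgroup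
  let S : Set T := {x | ∃ w ∈ W, x = ⁅a, w⁆ ∨ x = ⁅c, w⁆} ∪ (Zu T 3 : Set T)
  have hSW : S ⊆ W := by
    rintro x (⟨w, hw, rfl | rfl⟩ | hx)
    · exact comm_mem_of h hw
    · exact comm_mem_of h hw
    · exact h.Z3_le_W hx
  have hcfdl : ∀ g : T, ∀ x ∈ W, ∀ y ∈ W, cf ⁅g, x⁆ y = cf x ⁅g⁻¹, y⁆ := by
    intro g x hx y hy
    have e1 : ⁅g⁻¹, y⁆ = (g⁻¹ * y * g) * y⁻¹ := by rw [commutatorElement_def]; group
    have hy' : g⁻¹ * y * g ∈ W := by simpa using h.conj_W hy g⁻¹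
    rw [cf_dl h g hx hy, e1, h.cf_mul_right hx hy' (inv_mem hy), h.cf_inv_right hx hy]
    congr 1
    have h5 := h.cf_conj g⁻¹ (g * x * g⁻¹) y
    rw [← h5]
    congr 1 <;> group
  have hdl2 : ∀ s : T, s ^ 2 ∈ W → ∀ w ∈ W, ⁅s⁻¹, ⁅s, w⁆⁆ ∈ Zu T 3 := by
    intro s hs w hw
    have h5 : ⁅s, ⁅s, w⁆⁆ ∈ Zu T 3 := by
      rw [← mk3_eq_one, map_commutatorElement, map_commutatorElement]
      refine dl_self h.normalV h.V_facts.2.1 h.V_facts.1 ?_ (Hyp.mem_V hw)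
      rw [← map_pow]
      exact Hyp.mem_V hs
    have h6 := hn3.conj_mem _ (inv_mem h5) s⁻¹
    have e : s⁻¹ * ⁅s, ⁅s, w⁆⁆⁻¹ * s⁻¹⁻¹ = ⁅s⁻¹, ⁅s, w⁆⁆ := by
      simp only [commutatorElement_def]; group
    rwa [e] at h6
  -- `⁅a⁻¹, ⁅c, w⁆⁆ ≡ ⁅a, ⁅c, w⁆⁆`
  have hinv : ∀ y ∈ W, ∀ x ∈ W, cf x ⁅a⁻¹, ⁅c, y⁆⁆ = 0 := by
    intro y hy x hx
    have h5 := h3 y hy (a * x * a⁻¹) (h.conj_W hx a)
    have h6 := h.cf_conj a⁻¹ ⁅a, ⁅c, y⁆⁆ (a * x * a⁻¹)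
    have e1 : a⁻¹ * ⁅a, ⁅c, y⁆⁆ * a⁻¹⁻¹ = ⁅a⁻¹, ⁅c, y⁆⁆⁻¹ := by simp only [commutatorElement_def]; group
    have e2 : a⁻¹ * (a * x * a⁻¹) * a⁻¹⁻¹ = x := by group
    rw [e1, e2, h5, cf_inv_left h (comm_mem_of h (comm_mem_of h hy)) hx, h.cf_symm] at h6
    exact h6
  have hSS : ∀ x ∈ S, ∀ y ∈ S, cf x y = 0 := by
    have key : ∀ x ∈ W, ∀ y ∈ W, cf ⁅a, x⁆ ⁅c, y⁆ = 0 := by
      intro x hx y hy
      rw [hcfdl a x hx _ (comm_mem_of h hy)]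
      exact hinv y hy x hx
    have keys : ∀ s : T, s ^ 2 ∈ W → ∀ x ∈ W, ∀ y ∈ W, cf ⁅s, x⁆ ⁅s, y⁆ = 0 := by
      intro s hs x hx y hy
      rw [hcfdl s x hx _ (comm_mem_of h hy)]
      exact h.cf_Z3 hx (hdl2 s hs y hy)
    have ha2 : a ^ 2 ∈ W := h.sq_A haA
    have hc2 : c ^ 2 ∈ W := h.sq_A hcA
    rintro x hx y hy
    rcases hx with ⟨w, hw, rfl | rfl⟩ | hx
    · rcases hy with ⟨v, hv, rfl | rfl⟩ | hy
      · exact keys a ha2 w hw v hv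
      · exact key w hw v hv
      · exact h.cf_Z3 (comm_mem_of h hw) hy
    · rcases hy with ⟨v, hv, rfl | rfl⟩ | hy
      · rw [h.cf_symm]; exact key v hv w hw
      · exact keys c hc2 w hw v hv
      · exact h.cf_Z3 (comm_mem_of h hw) hy
    · rw [h.cf_symm]
      exact h.cf_Z3 (hSW hy) hx
  set U : Subgroup T := closure S with hU
  have hUW : U ≤ W := (closure_le _).2 hSW
  have hUU : ∀ x ∈ U, ∀ y ∈ U, cf x y = 0 := by
    have h5 : ∀ x ∈ S, ∀ y ∈ U, cf x y = 0 := by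
      intro x hx y hy
      have h6 : U ≤ perp h (hSW hx) := by
        rw [hU, closure_le]
        exact fun y hy => ⟨hSW hy, hSS x hx y hy⟩
      exact (h6 hy).2
    intro x hx y hy
    have h6 : U ≤ perp h (hUW hx) := by
      rw [hU, closure_le]
      intro y hy
      refine ⟨hSW hy, ?_⟩
      rw [h.cf_symm]
      exact h5 y hy x hx
    exact (h6 hy).2
  have hZU : Zu T 3 ≤ U := fun z hz => subset_closure (Or.inr hz)
  -- the index of `U`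
  have hidx : Nat.card W ≤ 2 ^ (Hyp.A T).index * Nat.card U := by
    refine coinv h hZU hUW ?_
    have hB : ∀ b ∈ B T, ∀ w ∈ W, ⁅b, w⁆ ∈ U := by
      intro b hb w hw
      by_cases hbW : b ∈ W
      · exact hZU (h.comm_W_mem hbW hw)
      · have h5 := inv_mul_mem h hc hcW hb hbW
        have e : b = c * (c⁻¹ * b) := by group
        rw [e, dl_comp]
        have h6 := h.comm_W_mem h5 hw
        exact mul_mem (mul_mem (hZU (dl_mem hn3 c h6)) (hZU h6)) (subset_closure (Or.inl ⟨w, hw, Or.inr rfl⟩))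
    intro s hs w hw
    by_cases hs0 : s ∈ T0 T
    · exact hB s (mem_inf.2 ⟨hs, hs0⟩) w hw
    · have h5 : a⁻¹ * s ∈ B T := by
        refine mem_inf.2 ⟨mul_mem (inv_mem haA) hs, ?_⟩
        rw [Subgroup.mul_mem_iff_of_index_two (index_T0_eq h), inv_mem_iff]
        exact iff_of_false ha0 hs0
      have e : s = a * (a⁻¹ * s) := by group
      rw [e, dl_comp]
      have h6 := hB _ h5 w hw
      refine mul_mem (mul_mem ?_ h6) (subset_closure (Or.inl ⟨w, hw, Or.inl rfl⟩))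
      exact subset_closure (Or.inl ⟨_, hUW h6, Or.inl rfl⟩)
  rw [h.index_A.1, h.orders.2.2.2] at hidx
  -- the squares
  let C : Subgroup T :=
    { carrier := {x | x ∈ U ∧ sf x = 0}
      one_mem' := ⟨one_mem _, h.sf_Z3 (one_mem _)⟩
      mul_mem' := by
        rintro x y ⟨hx, hx'⟩ ⟨hy, hy'⟩
        exact ⟨mul_mem hx hy, by rw [h.sf_mul (hUW hx) (hUW hy), hx', hy', hUU x hx y hy]; decide⟩
      inv_mem' := by
        rintro x ⟨hx, hx'⟩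
        refine ⟨inv_mem hx, ?_⟩
        rw [sf_eq_zero] at hx' ⊢
        rw [inv_pow]
        exact inv_mem hx' }
  have hCU : C ≤ U := fun x hx => hx.1
  have hCi : (C.subgroupOf U).index ≤ 2 := by
    have h5 := RuBase.index_le_of_fun (C.subgroupOf U) (β := ZMod 2) (fun u => sf (u : T)) (by
      intro x y hxy
      rw [mem_subgroupOf]
      refine ⟨mul_mem (inv_mem x.2) y.2, ?_⟩
      have h6 : sf ((x : T)⁻¹) = sf (x : T) := by
        apply zmod2_ext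
        rw [sf_eq_zero, sf_eq_zero, inv_pow, inv_mem_iff]
      show sf ((x : T)⁻¹ * (y : T)) = 0
      rw [h.sf_mul (inv_mem (hUW x.2)) (hUW y.2), hUU _ (inv_mem x.2) _ y.2, h6, hxy]
      generalize sf (y : T) = r
      revert r; decide)
    simpa using h5
  have h5 := (C.subgroupOf U).card_mul_index
  rw [Nat.card_congr (Subgroup.subgroupOfEquivOfLe hCU).toEquiv] at h5
  have h6 := card_le_of_sq h (hCU.trans hUW) Hyp.le32 (fun hle => by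
    obtain ⟨y, hy, hy2⟩ := h.exists_y
    exact hy2 (hle hy)) (fun x hx => sf_eq_zero.1 hx.2)
  have h7 : Nat.card U ≤ 2 ^ 7 * 2 := by
    rw [← h5]
    exact Nat.mul_le_mul h6 hCi
  omega

/-- **T3'**: `Z_5` does not centralise a normal subgroup of order at least `2^5`. -/
theorem Z5_not_cent (h : Hyp T W) {M : Subgroup T} (hM : M.Normal) (hc : 2 ^ 5 ≤ Nat.card M)
    (hcent : ∀ x ∈ Zu T 5, ∀ m ∈ M, x * m = m * x) : False := by
  have := h.fin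
  set N : Subgroup T := M ⊓ Zu T 5 with hN
  have hNc : 2 ^ 5 ≤ Nat.card N := by
    rcases RuBase.le_or_card h.two M 5 with h1 | h1
    · rw [hN, inf_eq_left.2 h1]; exact hc
    · exact h1
  have hN5 : N ≤ Zu T 5 := inf_le_right
  apply Z5_not_comm h
  by_cases hle : Zu T 5 ≤ N
  · intro x hx y hy
    exact hcent x hx y (hle hy).1
  · obtain ⟨v, hv, hvN⟩ := Set.not_subset.1 hle
    have hidx : (N.subgroupOf (Zu T 5)).index = 2 := by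
      have h2 := (N.subgroupOf (Zu T 5)).card_mul_index
      rw [Nat.card_congr (Subgroup.subgroupOfEquivOfLe hN5).toEquiv, card_Z5 h] at h2
      have h3 : (N.subgroupOf (Zu T 5)).index ≠ 1 := by
        rw [Ne, Subgroup.index_eq_one, Subgroup.subgroupOf_eq_top]
        exact hle
      have h4 : (N.subgroupOf (Zu T 5)).index ≤ 2 := by
        by_contra hcon
        push Not at hcon
        have := Nat.mul_le_mul hNc (Nat.succ_le_of_lt hcon)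
        rw [h2] at this
        norm_num at this
      have h5 : (N.subgroupOf (Zu T 5)).index ≠ 0 := Subgroup.index_ne_zero_of_finite
      omega
    have key : ∀ x ∈ Zu T 5, x ∉ N → v⁻¹ * x ∈ N := by
      intro x hx hxN
      have h2 := Subgroup.mul_mem_iff_of_index_two hidx (a := ⟨v⁻¹, inv_mem hv⟩) (b := ⟨x, hx⟩)
      have h3 : (⟨v⁻¹, inv_mem hv⟩ * ⟨x, hx⟩ : ↥(Zu T 5)) ∈ N.subgroupOf (Zu T 5) := by
        rw [h2]
        refine iff_of_false ?_ hxN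
        rw [mem_subgroupOf]
        show ¬ v⁻¹ ∈ N
        rw [inv_mem_iff]; exact hvN
      exact h3
    intro x hx y hy
    by_cases hxN : x ∈ N
    · exact (hcent y hy x hxN.1).symm
    · by_cases hyN : y ∈ N
      · exact hcent x hx y hyN.1
      · have h2 := key x hx hxN
        have h3 := key y hy hyN
        have c1 : v * (v⁻¹ * x) = (v⁻¹ * x) * v := hcent v hv _ h2.1
        have c2 : v * (v⁻¹ * y) = (v⁻¹ * y) * v := hcent v hv _ h3.1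
        have c3 : (v⁻¹ * x) * (v⁻¹ * y) = (v⁻¹ * y) * (v⁻¹ * x) := hcent _ (hN5 h2) _ h3.1
        calc x * y = (v * (v⁻¹ * x)) * (v * (v⁻¹ * y)) := by group
          _ = ((v⁻¹ * x) * v) * (v * (v⁻¹ * y)) := by rw [c1]
          _ = (v⁻¹ * x) * v * ((v⁻¹ * y) * v) := by rw [c2]
          _ = (v⁻¹ * x) * (v * (v⁻¹ * y)) * v := by group
          _ = (v⁻¹ * x) * ((v⁻¹ * y) * v) * v := by rw [c2]
          _ = ((v⁻¹ * x) * (v⁻¹ * y)) * (v * v) := by group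
          _ = ((v⁻¹ * y) * (v⁻¹ * x)) * (v * v) := by rw [c3]
          _ = (v⁻¹ * y) * ((v⁻¹ * x) * v) * v := by group
          _ = (v⁻¹ * y) * (v * (v⁻¹ * x)) * v := by rw [c1]
          _ = ((v⁻¹ * y) * v) * ((v⁻¹ * x) * v) := by group
          _ = (v * (v⁻¹ * y)) * (v * (v⁻¹ * x)) := by rw [c1, c2]
          _ = y * x := by group

/-- **T2**: `|C_T(Z_4)| ≥ 2^8` -/
theorem card_cent_Z4 (h : Hyp T W) : 2 ^ 8 ≤ Nat.card (W ⊓ centralizer (Zu T 4 : Set T) : Subgroup T) := by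
  have := h.fin
  have hn3 : (Zu T 3).Normal := inferInstance
  obtain ⟨e, he, he3⟩ : ∃ e ∈ Zu T 4, e ∉ Zu T 3 := by
    by_contra hcon
    push Not at hcon
    have h1 := Subgroup.card_le_of_le (show Zu T 4 ≤ Zu T 3 from hcon)
    rw [h.cardZ 4 le_rfl, h.cardZ 3 (by norm_num)] at h1
    norm_num at h1
  have heW := Z4_le_W h he
  set C : Subgroup T := W ⊓ centralizer (Zu T 4 : Set T) with hC
  have hCmem : ∀ w : T, w ∈ C ↔ w ∈ W ∧ e * w = w * e := by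
    intro w
    rw [hC, mem_inf, mem_centralizer_iff]
    refine and_congr_right fun hw => ⟨fun h1 => h1 e he, fun h1 z hz => ?_⟩
    by_cases hz3 : z ∈ Zu T 3
    · exact h.comm_Z3_W hz3 hw
    · have h2 : e⁻¹ * z ∈ Zu T 3 := by
        rw [Hyp.mul_mem_of_card Hyp.le43 (by rw [h.cardZ 4 le_rfl, h.cardZ 3 (by norm_num)]; norm_num) (inv_mem he) hz,
          inv_mem_iff]
        exact iff_of_false he3 hz3
      have h3 := h.comm_Z3_W h2 hw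
      calc z * w = e * ((e⁻¹ * z) * w) := by group
        _ = (e * w) * (e⁻¹ * z) := by rw [h3]; group
        _ = w * z := by rw [h1]; group
  have hidx := RuBase.index_le_of_fun (C.subgroupOf W) (β := ↥(Zu T 3)) (fun w => ⟨⁅e, (w : T)⁆, h.comm_W_mem heW w.2⟩) (by
    intro x y hxy
    rw [mem_subgroupOf, hCmem]
    refine ⟨mul_mem (inv_mem x.2) y.2, ?_⟩
    have h1 : ⁅e, (x : T)⁆ = ⁅e, (y : T)⁆ := congrArg Subtype.val hxy
    have h2 := Hyp.conj_eq_of_comm_eq h1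
    exact h2)
  rw [h.cardZ 3 (by norm_num)] at hidx
  have h1 := (C.subgroupOf W).card_mul_index
  rw [Nat.card_congr (Subgroup.subgroupOfEquivOfLe (inf_le_left : C ≤ W)).toEquiv, h.orders.2.2.2] at h1
  have h2 := Nat.mul_le_mul_left (Nat.card C) hidx
  have h3 : 2 ^ 11 ≤ Nat.card C * 2 ^ 3 := h1.symm.le.trans h2
  omega

end Cfsg.Agent.H302.Rv
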