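import Mathlib
import Cfsg.Agent.H302.RvNonab

/-!
# 2-groups of Rudvalis type: indecomposability (helper302)
-/

set_option autoImplicit false
set_option linter.style.haveILetI false
set_option linter.unnecessarySimpa false

namespace Cfsg.Agent.H302.Rv

open Subgroup Cfsg.Agent.H303 Cfsg.Agent.H303.RuMain
open scoped commutatorElement

local notation "Zu" => Subgroup.upperCentralSeries

variable {T : Type*} [Group T] {W : Subgroup T}

theorem at_comm (h : Hyp T W) {a t : T} (haA : a ∈ Hyp.A T) (ha0 : a ∉ T0 T) (ht0 : t ∈ T0 T) (htA : t ∉ Hyp.A T) :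
    ⁅a, t⁆ ∉ W := by
  intro hat
  have hWn := h.normalW
  have hta : ⁅t, a⁆ ∈ W := by rw [← commutatorElement_inv]; exact inv_mem hat
  have hb : ∀ x : T, ∀ b ∈ B T, b ∈ cM W x := by
    intro x b hb
    rw [mem_cM, ← commutatorElement_inv]
    exact inv_mem (comm_B h hb x)
  have hself : ∀ x : T, x ∈ cM W x := fun x => by rw [mem_cM, commutatorElement_self]; exact one_mem _
  have h1 : cM W a = ⊤ := eq_top_of h (M := cM W a) (hb a) (hself a) haA ha0 (mem_cM.2 hta) ht0 htA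
  have h2 : cM W t = ⊤ := eq_top_of h (M := cM W t) (hb t) (mem_cM.2 hat) haA ha0 (hself t) ht0 htA
  obtain ⟨p, q, hpq⟩ := h.not_comm
  apply hpq
  rw [← mem_cM]
  have h3 : cM W q = ⊤ := by
    refine eq_top_of h (M := cM W q) (hb q) (mem_cM.2 ?_) haA ha0 (mem_cM.2 ?_) ht0 htA
    · have h4 : q ∈ cM W a := by rw [h1]; exact mem_top _
      rw [mem_cM] at h4
      rw [← commutatorElement_inv]
      exact inv_mem h4
    · have h4 : q ∈ cM W t := by rw [h2]; exact mem_top _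
      rw [mem_cM] at h4
      rw [← commutatorElement_inv]
      exact inv_mem h4
  rw [h3]
  exact mem_top _

/-- the centre of `T / W` is `B / W` -/
theorem mem_B_of (h : Hyp T W) {x : T} (hx : ∀ g : T, ⁅g, x⁆ ∈ W) : x ∈ B T := by
  obtain ⟨a, haA, ha0⟩ := exists_a' h
  obtain ⟨t, ht0, htA⟩ := exists_t h
  by_cases hxA : x ∈ Hyp.A T
  · by_cases hx0 : x ∈ T0 T
    · exact mem_inf.2 ⟨hxA, hx0⟩
    · exfalso
      apply at_comm h hxA hx0 ht0 htA
      rw [← commutatorElement_inv]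
      exact inv_mem (hx t)
  · exfalso
    by_cases hx0 : x ∈ T0 T
    · exact at_comm h haA ha0 hx0 hxA (hx a)
    · have h1 : a * x ∈ T0 T := by
        rw [Subgroup.mul_mem_iff_of_index_two (index_T0_eq h)]
        exact iff_of_false ha0 hx0
      have h2 : a * x ∉ Hyp.A T := by
        rw [Subgroup.mul_mem_iff_of_index_two h.index_A.1]
        exact fun h3 => hxA (h3.1 haA)
      apply at_comm h haA ha0 h1 h2
      have e : ⁅a, a * x⁆ = a * ⁅a, x⁆ * a⁻¹ := by simp only [commutatorElement_def]; group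
      rw [e]
      exact h.conj_W (hx a) a

theorem comm_of_card {G : Type*} [Group G] (hc : Nat.card G = 1 ∨ Nat.card G = 2 ∨ Nat.card G = 4) (x y : G) :
    x * y = y * x := by
  have h2 : Fact (Nat.Prime 2) := ⟨Nat.prime_two⟩
  rcases hc with hc | hc | hc
  · have := (Nat.card_eq_one_iff_unique.1 hc).1
    exact Subsingleton.elim _ _
  · have : IsCyclic G := isCyclic_of_prime_card hc
    letI := IsCyclic.commGroup (α := G)
    exact mul_comm x y
  · exact (IsPGroup.isMulCommutative_of_card_eq_prime_sq (p := 2) (by rw [hc]; norm_num)).is_comm.comm x y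

/-- `T / W` is not a product of two proper commuting normal subgroups -/
theorem sup_W (h : Hyp T W) {P₁ P₂ : Subgroup T} (hsup : P₁ ⊔ P₂ = ⊤) (hcomm : ∀ x ∈ P₁, ∀ y ∈ P₂, ⁅x, y⁆ ∈ W) :
    P₁ ⊔ W = ⊤ ∨ P₂ ⊔ W = ⊤ := by
  have := h.fin
  have hWn := h.normalW
  by_contra hcon
  push Not at hcon
  have hcard : Nat.card (T ⧸ W) = 8 := h.orders.1
  have key : ∀ P : Subgroup T, P ⊔ W ≠ ⊤ → ∀ x ∈ P, ∀ y ∈ P, QuotientGroup.mk' W x * QuotientGroup.mk' W y =
      QuotientGroup.mk' W y * QuotientGroup.mk' W x := by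
    intro P hP x hx y hy
    set D := P.map (QuotientGroup.mk' W) with hD
    have h1 : D ≠ ⊤ := by
      intro h2
      apply hP
      have h3 : (P.map (QuotientGroup.mk' W)).comap (QuotientGroup.mk' W) = ⊤ := by
        rw [← hD, h2, comap_top]
      rw [Subgroup.comap_map_eq, QuotientGroup.ker_mk'] at h3
      exact h3
    have h2 : Nat.card D ∣ 8 := by rw [← hcard]; exact Subgroup.card_subgroup_dvd_card D
    have h3 : Nat.card D ≠ 8 := by
      intro h4
      apply h1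
      exact Subgroup.eq_top_of_card_eq D (by rw [h4, hcard])
    have h4 : Nat.card D ∈ Nat.divisors 8 := Nat.mem_divisors.2 ⟨h2, by norm_num⟩
    have h5 : Nat.divisors 8 = {1, 2, 4, 8} := by decide
    rw [h5] at h4
    simp only [Finset.mem_insert, Finset.mem_singleton] at h4
    have h6 := comm_of_card (G := ↥D) (by tauto) ⟨_, mem_map_of_mem _ hx⟩ ⟨_, mem_map_of_mem _ hy⟩
    exact congrArg Subtype.val h6
  -- all elements commute modulo `W`
  obtain ⟨p, q, hpq⟩ := h.not_comm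
  apply hpq
  have hcen : ∀ x ∈ P₁ ⊔ P₂, ∀ y ∈ P₁ ⊔ P₂, QuotientGroup.mk' W x * QuotientGroup.mk' W y =
      QuotientGroup.mk' W y * QuotientGroup.mk' W x := by
    have hm : ∀ x ∈ P₁, ∀ y ∈ P₂, QuotientGroup.mk' W x * QuotientGroup.mk' W y =
        QuotientGroup.mk' W y * QuotientGroup.mk' W x := by
      intro x hx y hy
      rw [← commutatorElement_eq_one_iff_mul_comm, ← map_commutatorElement]
      exact (QuotientGroup.eq_one_iff _).2 (hcomm x hx y hy)
    have h1 : ∀ x ∈ P₁, P₁ ⊔ P₂ ≤ (centralizer {QuotientGroup.mk' W x}).comap (QuotientGroup.mk' W) := by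
      intro x hx
      refine sup_le ?_ ?_
      · intro y hy
        rw [mem_comap, mem_centralizer_singleton_iff]
        exact key P₁ hcon.1 y hy x hx
      · intro y hy
        rw [mem_comap, mem_centralizer_singleton_iff]
        exact (hm x hx y hy).symm
    have h2 : ∀ x ∈ P₂, P₁ ⊔ P₂ ≤ (centralizer {QuotientGroup.mk' W x}).comap (QuotientGroup.mk' W) := by
      intro x hx
      refine sup_le ?_ ?_
      · intro y hy
        rw [mem_comap, mem_centralizer_singleton_iff]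
        exact hm y hy x hx
      · intro y hy
        rw [mem_comap, mem_centralizer_singleton_iff]
        exact key P₂ hcon.2 y hy x hx
    intro x hx y hy
    have h3 : P₁ ⊔ P₂ ≤ (centralizer {QuotientGroup.mk' W x}).comap (QuotientGroup.mk' W) := by
      refine sup_le ?_ ?_
      · intro z hz
        rw [mem_comap, mem_centralizer_singleton_iff]
        have := h1 z hz hx
        rw [mem_comap, mem_centralizer_singleton_iff] at this
        exact this.symm
      · intro z hz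
        rw [mem_comap, mem_centralizer_singleton_iff]
        have := h2 z hz hx
        rw [mem_comap, mem_centralizer_singleton_iff] at this
        exact this.symm
    have h4 := h3 hy
    rw [mem_comap, mem_centralizer_singleton_iff] at h4
    exact h4.symm
  rw [← QuotientGroup.eq_one_iff]
  show QuotientGroup.mk' W ⁅p, q⁆ = 1
  rw [map_commutatorElement, commutatorElement_eq_one_iff_mul_comm]
  exact hcen p (by rw [hsup]; exact mem_top _) q (by rw [hsup]; exact mem_top _)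

/-- one half of the indecomposability -/
theorem indec_aux (h : Hyp T W) {C P₁ P₂ : Subgroup T} (hC : C.Normal) (hZC : Zu T 3 ≤ C) (hCW : C ≤ W)
    (hCc : Nat.card C ≤ 2 ^ 7) (hC5 : ¬ Zu T 5 ≤ C) (hP1 : P₁.Normal) (hP2 : P₂.Normal) (h1 : C ≤ P₁) (h2 : C ≤ P₂)
    (hinf : P₁ ⊓ P₂ = C) (hcomm : ∀ x ∈ P₁, ∀ y ∈ P₂, ⁅x, y⁆ ∈ C) (htop : P₂ ⊔ W = ⊤) : P₁ = C := by
  have := h.fin
  have hWn := h.normalW
  have hn3 : (Zu T 3).Normal := inferInstance
  -- `P₁ ≤ B`
  have hP1B : P₁ ≤ B T := by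
    intro x hx
    apply mem_B_of h
    intro g
    have hg : g ∈ P₂ ⊔ W := by rw [htop]; exact mem_top _
    rw [← SetLike.mem_coe, normal_mul] at hg
    obtain ⟨p, hp, v, hv, rfl⟩ := hg
    rw [dl_comp]
    have e1 : ⁅p, x⁆ ∈ W := by
      rw [← commutatorElement_inv]
      exact inv_mem (hCW (hcomm x hx p hp))
    have e2 : ⁅v, x⁆ ∈ W := by
      rw [← commutatorElement_inv]
      exact inv_mem (comm_mem_of h hv)
    exact mul_mem (mul_mem (comm_mem_of h e2) e2) e1
  -- `|W : W ∩ P₂| ≤ 2`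
  have hW2 : 2 ^ 10 ≤ Nat.card (P₂ ⊓ W : Subgroup T) := by
    have h3 := card_sup_Z3 h hP2
    rw [htop, Subgroup.index_top, h.orders.2.2.2, sup_eq_left.2 (le_inf (hZC.trans h2) h.Z3_le_W)] at h3
    omega
  by_cases hPW : P₁ ≤ W
  · by_contra hne
    have hP12 : ¬ P₁ ≤ P₂ := fun hle => hne (by rw [← hinf]; exact (inf_eq_left.2 hle).symm)
    have hWP : ¬ W ≤ P₂ := fun hle => hP12 (hPW.trans hle)
    set R : Subgroup T := ⁅W, ⊤⁆ ⊔ Zu T 3 with hR
    have hRU : R ≤ P₂ ⊓ W := by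
      refine sup_le ?_ (le_inf (hZC.trans h2) h.Z3_le_W)
      rw [Subgroup.commutator_le]
      intro w hw g _
      rw [← commutatorElement_inv]
      apply inv_mem
      have hg : g ∈ P₂ ⊔ W := by rw [htop]; exact mem_top _
      rw [← SetLike.mem_coe, normal_mul] at hg
      obtain ⟨p, hp, v, hv, rfl⟩ := hg
      refine mem_inf.2 ⟨?_, comm_mem_of h hw⟩
      rw [dl_comp]
      have e1 : ⁅p, w⁆ ∈ P₂ := by
        rw [← commutatorElement_inv]
        exact inv_mem (dl_mem hP2 w hp)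
      have e2 : ⁅v, w⁆ ∈ P₂ := h2 (hZC (h.comm_W_mem hv hw))
      exact mul_mem (mul_mem (dl_mem hP2 p e2) e2) e1
    have hRc : 2 ^ 10 ≤ Nat.card R := by
      have h3 : Nat.card W ≤ 2 ^ (⊤ : Subgroup T).index * Nat.card R := by
        refine coinv h le_sup_right (sup_le ?_ h.Z3_le_W) ?_
        · rw [Subgroup.commutator_le]
          intro w hw g _
          rw [← commutatorElement_inv]
          exact inv_mem (comm_mem_of h hw)
        · intro d _ w hw
          rw [← commutatorElement_inv]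
          exact inv_mem (mem_sup_left (Subgroup.commutator_mem_commutator hw (mem_top d)))
      rw [Subgroup.index_top, h.orders.2.2.2] at h3
      omega
    have hidx : (P₂.subgroupOf W).index = 2 := by
      have h3 := (P₂.subgroupOf W).card_mul_index
      have h4 : Nat.card (P₂.subgroupOf W) = Nat.card (P₂ ⊓ W : Subgroup T) := by
        rw [← Subgroup.inf_subgroupOf_right]
        exact Nat.card_congr (Subgroup.subgroupOfEquivOfLe inf_le_right).toEquiv
      rw [h4, h.orders.2.2.2] at h3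
      have h5 : (P₂.subgroupOf W).index ≠ 1 := by
        rw [Ne, Subgroup.index_eq_one, Subgroup.subgroupOf_eq_top]
        exact hWP
      have h6 : (P₂.subgroupOf W).index ≤ 2 := by
        by_contra hcon
        push Not at hcon
        have := Nat.mul_le_mul hW2 (Nat.succ_le_of_lt hcon)
        rw [h3] at this
        norm_num at this
      have h7 : (P₂.subgroupOf W).index ≠ 0 := Subgroup.index_ne_zero_of_finite
      omega
    have hUc : Nat.card (P₂ ⊓ W : Subgroup T) = 2 ^ 10 := by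
      have h3 := (P₂.subgroupOf W).card_mul_index
      have h4 : Nat.card (P₂.subgroupOf W) = Nat.card (P₂ ⊓ W : Subgroup T) := by
        rw [← Subgroup.inf_subgroupOf_right]
        exact Nat.card_congr (Subgroup.subgroupOfEquivOfLe inf_le_right).toEquiv
      rw [h4, h.orders.2.2.2, hidx] at h3
      omega
    have hRe : R = P₂ ⊓ W := Subgroup.eq_of_le_of_card_ge hRU (by rw [hUc]; exact hRc)
    obtain ⟨v, hv, hv2⟩ := Set.not_subset.1 hP12
    have hWle : W ≤ ⁅W, ⊤⁆ ⊔ P₁ := by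
      intro w hw
      by_cases hwP : w ∈ P₂
      · have h3 : w ∈ R := by rw [hRe]; exact mem_inf.2 ⟨hwP, hw⟩
        exact (sup_le le_sup_left ((hZC.trans h1).trans le_sup_right) : R ≤ ⁅W, ⊤⁆ ⊔ P₁) h3
      · have h3 := Subgroup.mul_mem_iff_of_index_two hidx (a := ⟨v⁻¹, inv_mem (hPW hv)⟩) (b := ⟨w, hw⟩)
        have h4 : (⟨v⁻¹, inv_mem (hPW hv)⟩ * ⟨w, hw⟩ : ↥W) ∈ P₂.subgroupOf W := by
          rw [h3]
          refine iff_of_false ?_ hwP
          rw [mem_subgroupOf]
          show ¬ v⁻¹ ∈ P₂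
          rw [inv_mem_iff]; exact hv2
        have h5 : v⁻¹ * w ∈ R := by rw [hRe]; exact mem_inf.2 ⟨h4, mul_mem (inv_mem (hPW hv)) hw⟩
        have e : w = v * (v⁻¹ * w) := by group
        rw [e]
        exact mul_mem (mem_sup_right hv)
          ((sup_le le_sup_left ((hZC.trans h1).trans le_sup_right) : R ≤ ⁅W, ⊤⁆ ⊔ P₁) h5)
    have h2' : Fact (Nat.Prime 2) := ⟨Nat.prime_two⟩
    have hnil : Group.IsNilpotent T := h.two.isNilpotent
    have h3 : W ≤ P₁ := le_of_le_commutator hnil hP1 hWle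
    have h4 : P₂ ⊓ W ≤ C := by
      rw [← hinf]
      exact le_inf (inf_le_right.trans h3) inf_le_left
    have h5 := Subgroup.card_le_of_le h4
    omega
  · exfalso
    obtain ⟨p, hp, hpW⟩ := Set.not_subset.1 hPW
    have hpB : p ∈ B T := hP1B hp
    set U : Subgroup T := P₂ ⊓ W with hU
    set K : Subgroup T := Fx W (B T) with hK
    have hmap := RuBase.index_le_of_fun (K.subgroupOf U) (β := ↥((C ⊓ K).map (QuotientGroup.mk' (Zu T 3))))
      (fun u => ⟨QuotientGroup.mk' (Zu T 3) ⁅p, (u : T)⁆, mem_map_of_mem _ (mem_inf.2 ⟨hcomm p hp _ u.2.1,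
        comm_mem_K h hpB hpW u.2.2⟩)⟩) (by
        intro x y hxy
        have hx : (x : T) ∈ W := x.2.2
        have hy : (y : T) ∈ W := y.2.2
        have h3 : dm h p ⟨x, hx⟩ = dm h p ⟨y, hy⟩ := congrArg Subtype.val hxy
        rw [mem_subgroupOf]
        show (x : T)⁻¹ * (y : T) ∈ K
        rw [hK, mem_K h hpB hpW]
        refine ⟨mul_mem (inv_mem hx) hy, ?_⟩
        have h4 : dm h p (⟨x, hx⟩⁻¹ * ⟨y, hy⟩) = 1 := by rw [map_mul, map_inv, h3, inv_mul_cancel]
        exact mk3_eq_one.1 h4)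
    have h3 : Nat.card ((C ⊓ K).map (QuotientGroup.mk' (Zu T 3))) * 8 = Nat.card (C ⊓ K : Subgroup T) := by
      have hle : Zu T 3 ≤ C ⊓ K := le_inf hZC (Z3_le_Fx h)
      have h5 := ((C ⊓ K).map (QuotientGroup.mk' (Zu T 3))).card_mul_index
      have h6 := (C ⊓ K).card_mul_index
      have h7 := (Zu T 3).card_mul_index
      have h8 : (Zu T 3).index = Nat.card (T ⧸ Zu T 3) := rfl
      have h9 : ((C ⊓ K).map (QuotientGroup.mk' (Zu T 3))).index = (C ⊓ K).index := by
        apply Subgroup.index_map_eq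
        · exact QuotientGroup.mk'_surjective _
        · rw [QuotientGroup.ker_mk']; exact hle
      rw [h9] at h5
      rw [h8, ← h5, h.cardZ 3 (by norm_num), ← h6] at h7
      have h10 : 0 < (C ⊓ K).index := Nat.pos_of_ne_zero Subgroup.index_ne_zero_of_finite
      apply Nat.eq_of_mul_eq_mul_right h10
      rw [← h7]; ring
    have h4 := (K.subgroupOf U).card_mul_index
    have h5 : Nat.card (K.subgroupOf U) ≤ Nat.card K := by
      rw [← Subgroup.inf_subgroupOf_right, Nat.card_congr (Subgroup.subgroupOfEquivOfLe inf_le_right).toEquiv]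
      exact Subgroup.card_le_of_le inf_le_left
    rw [hK, card_K h] at h5
    have h6 : 2 ^ 10 ≤ 2 ^ 7 * Nat.card ((C ⊓ K).map (QuotientGroup.mk' (Zu T 3))) := by
      calc 2 ^ 10 ≤ Nat.card U := hW2
        _ = _ := h4.symm
        _ ≤ _ := Nat.mul_le_mul h5 hmap
    apply hC5
    apply Z5_le_of h hC hZC
    rw [inf_comm, ← hK, ← h3]
    omega

/-- **T4**: `T / C` is indecomposable. -/
theorem indec (h : Hyp T W) {C P₁ P₂ : Subgroup T} (hC : C.Normal) (hZC : Zu T 3 ≤ C) (hCW : C ≤ W)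
    (hCc : Nat.card C ≤ 2 ^ 7) (hC5 : ¬ Zu T 5 ≤ C) (hP1 : P₁.Normal) (hP2 : P₂.Normal) (h1 : C ≤ P₁) (h2 : C ≤ P₂)
    (hinf : P₁ ⊓ P₂ = C) (hsup : P₁ ⊔ P₂ = ⊤) (hcomm : ∀ x ∈ P₁, ∀ y ∈ P₂, ⁅x, y⁆ ∈ C) : P₁ = C ∨ P₂ = C := by
  rcases sup_W h hsup (fun x hx y hy => hCW (hcomm x hx y hy)) with h3 | h3
  · right
    refine indec_aux h hC hZC hCW hCc hC5 hP2 hP1 h2 h1 (by rw [inf_comm]; exact hinf) ?_ h3
    intro x hx y hy
    rw [← commutatorElement_inv]
    exact inv_mem (hcomm y hy x hx)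
  · left
    exact indec_aux h hC hZC hCW hCc hC5 hP1 hP2 h1 h2 hinf hcomm h3

/-- elements of `W` fixed by `a` and `t` modulo `Z_3` are in `Z_4` -/
theorem mem_Z4_of (h : Hyp T W) {a t : T} (haA : a ∈ Hyp.A T) (ha0 : a ∉ T0 T) (ht0 : t ∈ T0 T) (htA : t ∉ Hyp.A T)
    {x : T} (hx : x ∈ W) (hax : ⁅a, x⁆ ∈ Zu T 3) (htx : ⁅t, x⁆ ∈ Zu T 3) : x ∈ Zu T 4 := by
  have hn3 : (Zu T 3).Normal := inferInstance
  have haM : a ∈ cM (Zu T 3) x := mem_cM.2 hax
  have htM : t ∈ cM (Zu T 3) x := mem_cM.2 htx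
  have hatM : ⁅a, t⁆ ∈ cM (Zu T 3) x := by
    rw [commutatorElement_def]
    exact mul_mem (mul_mem (mul_mem haM htM) (inv_mem haM)) (inv_mem htM)
  have hWM : W ≤ cM (Zu T 3) x := fun w hw => mem_cM.2 (h.comm_W_mem hw hx)
  have hBM : B T ≤ cM (Zu T 3) x := by
    intro b hb
    by_cases hbW : b ∈ W
    · exact hWM hbW
    · have h1 := inv_mul_mem h (comm_mem_B h a t) (at_comm h haA ha0 ht0 htA) hb hbW
      have e : b = ⁅a, t⁆ * (⁅a, t⁆⁻¹ * b) := by group
      rw [e]
      exact mul_mem hatM (hWM h1)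
  have hM : cM (Zu T 3) x = ⊤ := eq_top_of h hBM haM haA ha0 htM ht0 htA
  rw [mem_succ_iff]
  intro g
  rw [← mem_cM, hM]
  exact mem_top _

/-- **the case (ii)**: elements of `W` centralised by `T` modulo a small normal subgroup. -/
theorem card_fixmod (h : Hyp T W) {M N : Subgroup T} (hZM : Zu T 3 ≤ M)
    (hM0 : ∀ x ∈ T0 T, ∀ m ∈ M, ⁅x, m⁆ ∈ Zu T 3) (hMc : Nat.card M ≤ 2 ^ 5) (hNW : N ≤ W)
    (hN : ∀ g : T, ∀ x ∈ N, ⁅g, x⁆ ∈ M) : Nat.card N ≤ 2 ^ 7 := by
  have := h.fin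
  obtain ⟨a, haA, ha0⟩ := exists_a' h
  obtain ⟨t, ht0, htA⟩ := exists_t h
  have hn3 : (Zu T 3).Normal := inferInstance
  -- `⁅a, x⁆ ∈ Z_4`
  have h1 : ∀ x ∈ N, ⁅a, x⁆ ∈ Zu T 4 := by
    intro x hx
    refine mem_Z4_of h haA ha0 ht0 htA (comm_mem_of h (hNW hx)) ?_ (hM0 t ht0 _ (hN a x hx))
    rw [← mk3_eq_one, map_commutatorElement, map_commutatorElement]
    refine dl_self h.normalV h.V_facts.2.1 h.V_facts.1 ?_ (Hyp.mem_V (hNW hx))
    rw [← map_pow]
    exact Hyp.mem_V (h.sq_A haA)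
  have hmap := RuBase.index_le_of_fun ((Zu T 4).subgroupOf N)
    (β := ↥(M.map (QuotientGroup.mk' (Zu T 3))) × ↥((Zu T 4).map (QuotientGroup.mk' (Zu T 3))))
    (fun u => (⟨QuotientGroup.mk' (Zu T 3) ⁅t, (u : T)⁆, mem_map_of_mem _ (hN t u u.2)⟩,
      ⟨QuotientGroup.mk' (Zu T 3) ⁅a, (u : T)⁆, mem_map_of_mem _ (h1 u u.2)⟩)) (by
      intro x y hxy
      have hx : (x : T) ∈ W := hNW x.2
      have hy : (y : T) ∈ W := hNW y.2
      have h3 : dm h t ⟨x, hx⟩ = dm h t ⟨y, hy⟩ := congrArg (fun p => (p.1 : T ⧸ Zu T 3)) hxy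
      have h4 : dm h a ⟨x, hx⟩ = dm h a ⟨y, hy⟩ := congrArg (fun p => (p.2 : T ⧸ Zu T 3)) hxy
      rw [mem_subgroupOf]
      show (x : T)⁻¹ * (y : T) ∈ Zu T 4
      refine mem_Z4_of h haA ha0 ht0 htA (mul_mem (inv_mem hx) hy) ?_ ?_
      · have h5 : dm h a (⟨x, hx⟩⁻¹ * ⟨y, hy⟩) = 1 := by rw [map_mul, map_inv, h4, inv_mul_cancel]
        exact mk3_eq_one.1 h5
      · have h5 : dm h t (⟨x, hx⟩⁻¹ * ⟨y, hy⟩) = 1 := by rw [map_mul, map_inv, h3, inv_mul_cancel]
        exact mk3_eq_one.1 h5)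
  have hq : ∀ Y : Subgroup T, Zu T 3 ≤ Y → Nat.card (Y.map (QuotientGroup.mk' (Zu T 3))) * 8 = Nat.card Y := by
    intro Y hle
    have h5 := (Y.map (QuotientGroup.mk' (Zu T 3))).card_mul_index
    have h6 := Y.card_mul_index
    have h7 := (Zu T 3).card_mul_index
    have h8 : (Zu T 3).index = Nat.card (T ⧸ Zu T 3) := rfl
    have h9 : (Y.map (QuotientGroup.mk' (Zu T 3))).index = Y.index := by
      apply Subgroup.index_map_eq
      · exact QuotientGroup.mk'_surjective _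
      · rw [QuotientGroup.ker_mk']; exact hle
    rw [h9] at h5
    rw [h8, ← h5, h.cardZ 3 (by norm_num), ← h6] at h7
    have h10 : 0 < Y.index := Nat.pos_of_ne_zero Subgroup.index_ne_zero_of_finite
    apply Nat.eq_of_mul_eq_mul_right h10
    rw [← h7]; ring
  have e1 := hq M hZM
  have e2 := hq (Zu T 4) Hyp.le43
  rw [h.cardZ 4 le_rfl] at e2
  rw [Nat.card_prod] at hmap
  have h4 := ((Zu T 4).subgroupOf N).card_mul_index
  have h5 : Nat.card ((Zu T 4).subgroupOf N) ≤ Nat.card (Zu T 4) := by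
    rw [← Subgroup.inf_subgroupOf_right, Nat.card_congr (Subgroup.subgroupOfEquivOfLe inf_le_right).toEquiv]
    exact Subgroup.card_le_of_le inf_le_left
  rw [h.cardZ 4 le_rfl] at h5
  have e3 : Nat.card (M.map (QuotientGroup.mk' (Zu T 3))) ≤ 4 := by omega
  have e4 : Nat.card ((Zu T 4).map (QuotientGroup.mk' (Zu T 3))) = 2 := by omega
  rw [e4] at hmap
  calc Nat.card N = _ := h4.symm
    _ ≤ 2 ^ 4 * (4 * 2) := Nat.mul_le_mul h5 (hmap.trans (Nat.mul_le_mul_right _ e3))
    _ = 2 ^ 7 := by norm_num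

end Cfsg.Agent.H302.Rv
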