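import Cfsg.Agent.H302.RvOne

/-!
# Groups of Rudvalis type: the normal closure of `Z_{j+1}` (helper302)
-/

set_option autoImplicit false
set_option linter.style.haveILetI false
set_option linter.unnecessarySimpa false
set_option linter.unusedSectionVars false

namespace Cfsg.Agent.H302.Rv

open Subgroup Cfsg Cfsg.Agent.H303 Cfsg.Agent.H303.RuMain
open Set1
open scoped commutatorElement

universe u

local notation "Zu" => Subgroup.upperCentralSeries

section transfer

/-- central elements in the derived group and in an abelian Sylow subgroup are trivial -/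
theorem eq_one_of_transfer {C : Type*} [Group C] [Finite C] {p : ℕ} [hp : Fact p.Prime] (P : Sylow p C)
    (hP : ∀ x ∈ (P : Subgroup C), ∀ y ∈ (P : Subgroup C), x * y = y * x) {z : C} (hz : z ∈ (P : Subgroup C))
    (hzc : z ∈ center C) (hzd : z ∈ commutator C) : z = 1 := by
  letI : CommGroup ↥(P : Subgroup C) :=
    { (inferInstance : Group ↥(P : Subgroup C)) with
      mul_comm := fun a b => Subtype.ext (hP a a.2 b b.2) }
  have hfi : (P : Subgroup C).FiniteIndex := inferInstance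
  let V : C →* ↥(P : Subgroup C) := MonoidHom.transfer (MonoidHom.id ↥(P : Subgroup C))
  have h1 : V z = 1 := by
    have h2 : commutator C ≤ V.ker := Abelianization.commutator_subset_ker V
    exact h2 hzd
  have h2 := MonoidHom.transfer_eq_pow (MonoidHom.id ↥(P : Subgroup C)) z (fun k g₀ _ => by
    have h3 : z ^ k ∈ center C := pow_mem hzc k
    rw [mul_assoc, ← mem_center_iff.1 h3 g₀]
    group)
  have h3 : z ^ (P : Subgroup C).index = 1 := by
    have h4 : V z = (⟨z ^ (P : Subgroup C).index, _⟩ : ↥(P : Subgroup C)) := h2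
    rw [h1] at h4
    exact (congrArg Subtype.val h4).symm
  obtain ⟨k, hk⟩ := P.2 ⟨z, hz⟩
  have h4 : z ^ p ^ k = 1 := congrArg Subtype.val hk
  have h5 : Nat.Coprime (p ^ k) (P : Subgroup C).index :=
    Nat.Coprime.pow_left _ ((Nat.Prime.coprime_iff_not_dvd hp.out).2 P.not_dvd_index)
  exact (orderOf_eq_one_iff.1 (Nat.eq_one_of_dvd_coprimes h5 (orderOf_dvd_of_pow_eq_one h4)
    (orderOf_dvd_of_pow_eq_one h3)))

/-- the same modulo a normal subgroup `Y` -/
theorem mem_of_transfer {C : Type*} [Group C] [Finite C] {p : ℕ} [hp : Fact p.Prime] (P : Sylow p C)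
    {Y : Subgroup C} (hYn : Y.Normal) (hP : ∀ x ∈ (P : Subgroup C), ∀ y ∈ (P : Subgroup C), ⁅x, y⁆ ∈ Y) {z : C}
    (hz : z ∈ (P : Subgroup C)) (hzc : z ∈ center C) (hzd : z ∈ commutator C ⊔ Y) : z ∈ Y := by
  let π := QuotientGroup.mk' Y
  have hπ : Function.Surjective π := QuotientGroup.mk'_surjective Y
  let Q : Sylow p (C ⧸ Y) := P.mapSurjective hπ
  have h1 : π z = 1 := by
    apply eq_one_of_transfer Q
    · rintro _ ⟨x, hx, rfl⟩ _ ⟨y, hy, rfl⟩
      rw [← commutatorElement_eq_one_iff_mul_comm, ← map_commutatorElement]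
      exact (QuotientGroup.eq_one_iff _).2 (hP x hx y hy)
    · exact mem_map_of_mem _ hz
    · rw [mem_center_iff]
      intro g
      obtain ⟨g, rfl⟩ := hπ g
      rw [← map_mul, ← map_mul, mem_center_iff.1 hzc g]
    · have h2 : (commutator C ⊔ Y).map π = commutator (C ⧸ Y) := by
        rw [Subgroup.map_sup, _root_.commutator_def, Subgroup.map_commutator, Subgroup.map_top_of_surjective _ hπ]
        have h3 : Y.map π = ⊥ := by
          rw [Subgroup.map_eq_bot_iff, QuotientGroup.ker_mk']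
        rw [h3, sup_bot_eq]
        rfl
      rw [← h2]
      exact mem_map_of_mem _ hzd
  exact (QuotientGroup.eq_one_iff z).1 h1

end transfer

namespace Set1

variable {G : Type u} [Group G] [Finite G] {T : Sylow 2 G} {W : Subgroup ↥(T : Subgroup G)}

/-- solvable permutation images are killed by `T` -/
theorem perm_trivial (s : Set1 T W) {α : Type*} [Finite α] (hα : Nat.card α ≤ 4) (f : G →* Equiv.Perm α) :
    ∀ t ∈ (T : Subgroup G), f t = 1 := by
  have hsol := Cfsg.Agent.Schreier.Tools.isSolvable_perm_of_card_le_four α hα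
  have hs : Group.IsSolvable f.range :=
    Group.isSolvable_of_isSolvable_injective (f := f.range.subtype) f.range.subtype_injective
  exact fun t ht => le_ker T s.sn s.two f hs ht

/-- `T` acts trivially on sections of order at most four -/
theorem section_trivial (s : Set1 T W) {N M : Subgroup G} (hN : N.Normal) (hM : M.Normal)
    (hc : Nat.card (N.map (QuotientGroup.mk' M)) ≤ 4) : ∀ t ∈ (T : Subgroup G), ∀ x ∈ N, ⁅t, x⁆ ∈ M := by
  have hn : (N.map (QuotientGroup.mk' M)).Normal := hN.map _ (QuotientGroup.mk'_surjective M)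
  let f : G →* Equiv.Perm ↥(N.map (QuotientGroup.mk' M)) :=
    (MulAut.toPerm _).comp ((MulAut.conjNormal (H := N.map (QuotientGroup.mk' M))).comp (QuotientGroup.mk' M))
  intro t ht x hx
  have h1 := s.perm_trivial hc f t ht
  have h2 : f t ⟨QuotientGroup.mk' M x, mem_map_of_mem _ hx⟩ = ⟨QuotientGroup.mk' M x, mem_map_of_mem _ hx⟩ := by
    rw [h1]; rfl
  have h3 : QuotientGroup.mk' M t * QuotientGroup.mk' M x * (QuotientGroup.mk' M t)⁻¹ = QuotientGroup.mk' M x :=
    congrArg Subtype.val h2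
  rw [← QuotientGroup.eq_one_iff]
  show QuotientGroup.mk' M ⁅t, x⁆ = 1
  rw [map_commutatorElement, commutatorElement_def, h3, mul_inv_cancel]

/-- `Z_j` as a `T`-invariant subgroup -/
theorem Z_inv {j : ℕ} : ∀ t ∈ (T : Subgroup G), ∀ x ∈ Z T j, t * x * t⁻¹ ∈ Z T j := by
  rintro t ht _ ⟨y, hy, rfl⟩
  have hn : (Zu ↥(T : Subgroup G) j).Normal := inferInstance
  exact ⟨⟨t, ht⟩ * y * ⟨t, ht⟩⁻¹, hn.conj_mem y hy ⟨t, ht⟩, rfl⟩

theorem comm_Z {j : ℕ} {t x : G} (ht : t ∈ (T : Subgroup G)) (hx : x ∈ Z T (j + 1)) : ⁅t, x⁆ ∈ Z T j := by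
  obtain ⟨y, hy, rfl⟩ := hx
  exact ⟨⁅(⟨t, ht⟩ : ↥(T : Subgroup G)), y⁆, Hyp.comm_mem' hy ⟨t, ht⟩, rfl⟩

theorem Z_mono {i j : ℕ} (hij : i ≤ j) : Z T i ≤ Z T j := by
  apply Subgroup.map_mono
  exact Subgroup.upperCentralSeries_mono _ hij

theorem Z_zero : Z T 0 = ⊥ := by
  unfold Z
  rw [Subgroup.upperCentralSeries_zero, Subgroup.map_bot]

/-- a `T`-invariant subgroup of `T` of order at most `2^j` is in `Z_j` -/
theorem le_Z_of (s : Set1 T W) {N : Subgroup G} (hN : ∀ t ∈ (T : Subgroup G), ∀ x ∈ N, t * x * t⁻¹ ∈ N) {j : ℕ}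
    (hj : j ≤ 4) (hc : Nat.card ((T : Subgroup G) ⊓ N : Subgroup G) ≤ 2 ^ j) : (T : Subgroup G) ⊓ N ≤ Z T j := by
  have h1 : Nat.card (N.subgroupOf (T : Subgroup G)) = Nat.card ((T : Subgroup G) ⊓ N : Subgroup G) :=
    Nat.card_congr ⟨fun x => ⟨x, (x : ↥(T : Subgroup G)).2, x.2⟩, fun x => ⟨⟨x, x.2.1⟩, x.2.2⟩, fun x => rfl, fun x => rfl⟩
  have h2 := le_Zj s.h (norm_of hN) hj (by rw [h1]; exact hc)
  rintro x ⟨hxT, hxN⟩
  exact ⟨⟨x, hxT⟩, h2 (mem_subgroupOf.2 hxN), rfl⟩

theorem exists_pow (s : Set1 T W) {N : Subgroup G} (hN : N ≤ (T : Subgroup G)) : ∃ n ≤ 14, Nat.card N = 2 ^ n := by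
  obtain ⟨n, hn, h1⟩ := exists_card s.h (N.subgroupOf (T : Subgroup G))
  refine ⟨n, hn, ?_⟩
  rw [← h1]
  exact (Nat.card_congr (subgroupOfEquivOfLe hN).toEquiv).symm

/-- dichotomy: `T ∩ N ≤ Z_j` or `Z_{j+1} ≤ N` -/
theorem le_or (s : Set1 T W) {N : Subgroup G} (hN : ∀ t ∈ (T : Subgroup G), ∀ x ∈ N, t * x * t⁻¹ ∈ N) {j : ℕ}
    (hj : j ≤ 3) : (T : Subgroup G) ⊓ N ≤ Z T j ∨ Z T (j + 1) ≤ N := by
  obtain ⟨n, -, hn⟩ := s.exists_pow (N := (T : Subgroup G) ⊓ N) inf_le_left
  by_cases h1 : n ≤ j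
  · left
    apply s.le_Z_of hN (by omega)
    rw [hn]
    exact Nat.pow_le_pow_right (by norm_num) h1
  · right
    apply s.Z_le_of hN (by omega)
    rw [hn]
    exact Nat.pow_le_pow_right (by norm_num) (by omega)

/-- `Z_2` is not normal. -/
theorem Z2_not_normal (s : Set1 T W) : ¬ (Z T 2).Normal := by
  intro hn
  have hbot : (⊥ : Subgroup G).Normal := inferInstance
  have h1 := s.section_trivial hn hbot (by
    calc Nat.card ((Z T 2).map (QuotientGroup.mk' ⊥)) ≤ Nat.card (Z T 2) := Nat.le_of_dvd Nat.card_pos (Subgroup.card_map_dvd (Z T 2) (QuotientGroup.mk' ⊥))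
      _ = 4 := s.card_Z (by norm_num))
  have h2 : Hyp.A ↥(T : Subgroup G) = ⊤ := by
    rw [eq_top_iff]
    intro t _
    rw [Hyp.mem_A]
    intro z hz
    have h3 := h1 t t.2 z ⟨z, hz, rfl⟩
    rw [mem_bot, commutatorElement_eq_one_iff_mul_comm] at h3
    exact Subtype.ext h3.symm
  have h3 := s.h.index_A.1
  rw [h2, Subgroup.index_top] at h3
  omega

end Set1

/-- the situation: `Z_j` (`j ≤ 1`) is normal, `Z_{j+1}` and `Z_3` are not, `O_2(G) ≥ Z_2`. -/
structure Sit {G : Type u} [Group G] [Finite G] (T : Sylow 2 G) (W : Subgroup ↥(T : Subgroup G)) (j : ℕ) : Prop extends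
    Set1 T W where
  hj : j ≤ 1
  nj : (Z T j).Normal
  nj1 : ¬ (Z T (j + 1)).Normal
  n3 : ¬ (Z T 3).Normal
  le2 : Z T 2 ≤ pCore 2 G

namespace Sit

variable {G : Type u} [Group G] [Finite G] {T : Sylow 2 G} {W : Subgroup ↥(T : Subgroup G)} {j : ℕ}

/-- `M` -/
def M (T : Sylow 2 G) (j : ℕ) : Subgroup G := normalClosure (Z T (j + 1) : Set G)

theorem M_normal : (M T j).Normal := normalClosure_normal

theorem Z_le_M : Z T (j + 1) ≤ M T j := le_normalClosure

theorem M_le {N : Subgroup G} (hN : N.Normal) (h : Z T (j + 1) ≤ N) : M T j ≤ N := normalClosure_le_normal h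

theorem M_le_core (s : Sit T W j) : M T j ≤ pCore 2 G := by
  have hn : (pCore 2 G).Normal := Lib.Cores.pCore_normal 2
  exact M_le hn ((Z_mono (by have := s.hj; omega)).trans s.le2)

theorem M_le_T (s : Sit T W j) : M T j ≤ (T : Subgroup G) := s.M_le_core.trans pCore_le

/-- (★) -/
theorem star (s : Sit T W j) {N : Subgroup G} (hN : N.Normal) (h : ¬ (T : Subgroup G) ⊓ N ≤ Z T j) : M T j ≤ N := by
  apply M_le hN
  rcases s.toSet1.le_or (fun t _ x hx => hN.conj_mem x hx t) (show j ≤ 3 by have := s.hj; omega) with h1 | h1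
  · exact (h h1).elim
  · exact h1

/-- `[O_2(G), M] ≤ Z_j` -/
theorem comm_core (s : Sit T W j) {r m : G} (hr : r ∈ pCore 2 G) (hm : m ∈ M T j) : ⁅r, m⁆ ∈ Z T j := by
  have hn : (pCore 2 G).Normal := Lib.Cores.pCore_normal 2
  have hnj := s.nj
  -- the subgroup of the elements centralised by `O_2(G)` modulo `Z_j`
  let N : Subgroup G := (centralizer (((pCore 2 G).map (QuotientGroup.mk' (Z T j)) : Subgroup (G ⧸ Z T j)) :
    Set (G ⧸ Z T j))).comap (QuotientGroup.mk' (Z T j))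
  have hmem : ∀ x : G, x ∈ N ↔ ∀ r ∈ pCore 2 G, ⁅r, x⁆ ∈ Z T j := by
    intro x
    show QuotientGroup.mk' (Z T j) x ∈ centralizer _ ↔ _
    rw [mem_centralizer_iff]
    constructor
    · intro h1 r hr
      rw [← QuotientGroup.eq_one_iff]
      show QuotientGroup.mk' (Z T j) ⁅r, x⁆ = 1
      rw [map_commutatorElement, commutatorElement_eq_one_iff_mul_comm]
      exact h1 _ (mem_map_of_mem _ hr)
    · rintro h1 _ ⟨r, hr, rfl⟩
      rw [← commutatorElement_eq_one_iff_mul_comm, ← map_commutatorElement]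
      exact (QuotientGroup.eq_one_iff _).2 (h1 r hr)
  have hNn : N.Normal := by
    have h1 : ((pCore 2 G).map (QuotientGroup.mk' (Z T j))).Normal := hn.map _ (QuotientGroup.mk'_surjective _)
    infer_instance
  have h1 : Z T (j + 1) ≤ N := by
    intro x hx
    rw [hmem]
    intro r hr
    exact comm_Z (pCore_le hr) hx
  exact (hmem m).1 (M_le hNn h1 hm) r hr

/-- squares of elements of `M` are in `Z_j` -/
theorem sq_mem (s : Sit T W j) {m : G} (hm : m ∈ M T j) : m ^ 2 ∈ Z T j := by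
  have hnj := s.nj
  have hMn : (M T j).Normal := M_normal
  let N : Subgroup G :=
    { carrier := {x | x ∈ M T j ∧ x ^ 2 ∈ Z T j}
      one_mem' := ⟨one_mem _, by rw [one_pow]; exact one_mem _⟩
      mul_mem' := by
        rintro a b ⟨ha, ha'⟩ ⟨hb, hb'⟩
        refine ⟨mul_mem ha hb, ?_⟩
        have h1 := s.comm_core (s.M_le_core (inv_mem ha)) hb
        have e : (a * b) ^ 2 = a ^ 2 * (⁅a⁻¹, b⁆ * b ^ 2) := by
          rw [commutatorElement_def, pow_two, pow_two, pow_two]; group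
        rw [e]
        exact mul_mem ha' (mul_mem h1 hb')
      inv_mem' := by
        rintro a ⟨ha, ha'⟩
        exact ⟨inv_mem ha, by rw [inv_pow]; exact inv_mem ha'⟩ }
  have hNn : N.Normal := by
    refine ⟨fun x hx g => ⟨hMn.conj_mem x hx.1 g, ?_⟩⟩
    rw [conj_pow]
    exact hnj.conj_mem _ hx.2 g
  have h1 : Z T (j + 1) ≤ N := by
    intro x hx
    refine ⟨Z_le_M hx, ?_⟩
    have hx3 : x ∈ Z T 3 := Z_mono (by have := s.hj; omega) hx
    obtain ⟨y, hy, rfl⟩ := hx3
    have h2 := s.h.sq_Z3 y hy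
    have h3 : ((y : G)) ^ 2 = 1 := by
      have := congrArg Subtype.val h2
      exact this
    show ((y : G)) ^ 2 ∈ Z T j
    rw [h3]
    exact one_mem _
  exact (M_le hNn h1 hm).2

/-- `Z_3 ≤ M`, even `Z_4 ≤ M` -/
theorem Z4_le_M (s : Sit T W j) : Z T 4 ≤ M T j := by
  have hMn : (M T j).Normal := M_normal
  rcases s.toSet1.le_or (N := M T j) (fun t _ x hx => hMn.conj_mem x hx t) (le_refl 3) with h1 | h1
  · exfalso
    rw [inf_eq_right.2 s.M_le_T] at h1
    have hZ := Z_le_M (T := T) (j := j)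
    have hj := s.hj
    obtain ⟨n, -, hn⟩ := s.toSet1.exists_pow s.M_le_T
    have h2 := Subgroup.card_le_of_le h1
    rw [s.toSet1.card_Z (by norm_num), hn] at h2
    have h3 : n ≤ 3 := (Nat.pow_le_pow_iff_right (by norm_num : 1 < 2)).1 h2
    have h4 := Subgroup.card_le_of_le hZ
    rw [s.toSet1.card_Z (by omega), hn] at h4
    have h5 : j + 1 ≤ n := (Nat.pow_le_pow_iff_right (by norm_num : 1 < 2)).1 h4
    -- `M = Z_n`
    have h6 : M T j ≤ Z T n := by
      have h7 := s.toSet1.le_Z_of (N := M T j) (fun t _ x hx => hMn.conj_mem x hx t) (j := n) (by omega) (by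
        rw [inf_eq_right.2 s.M_le_T, hn])
      rwa [inf_eq_right.2 s.M_le_T] at h7
    have h7 : M T j = Z T n := Subgroup.eq_of_le_of_card_ge h6 (by rw [hn, s.toSet1.card_Z (by omega)])
    rw [h7] at hMn
    rcases (show n = j + 1 ∨ n = 2 ∨ n = 3 by omega) with rfl | rfl | rfl
    · exact s.nj1 hMn
    · exact s.toSet1.Z2_not_normal hMn
    · exact s.n3 hMn
  · exact h1

end Sit

end Cfsg.Agent.H302.Rv
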