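import Cfsg.Agent.H302.RvMtwo

/-!
# Groups of Rudvalis type: `C_G(M)` is a 2-group, the case `O_2(G) ≠ C_G(M)` (helper302)
-/

set_option autoImplicit false
set_option linter.style.haveILetI false
set_option linter.unnecessarySimpa false
set_option linter.unusedSectionVars false

namespace Cfsg.Agent.H302.Rv

open Subgroup Cfsg Cfsg.Agent.H303 Cfsg.Agent.H303.RuMain
open Set1
open Cfsg.Agent.SignalizersComponents
open scoped commutatorElement

universe u

local notation "Zu" => Subgroup.upperCentralSeries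

/-- Burnside's theorem for a normal subgroup, with trivial odd core -/
theorem le_of_burnside {G : Type*} [Group G] [Finite G] (T : Sylow 2 G) (hO : oddCore G = ⊥) {E : Subgroup G}
    (hE : E.Normal) (hc : ∀ x ∈ (T : Subgroup G) ⊓ E, ∀ y ∈ E, y ∈ normalizer (((T : Subgroup G) ⊓ E : Subgroup G) : Set G) →
      x * y = y * x) : E ≤ (T : Subgroup G) := by
  have : Fact (Nat.Prime 2) := ⟨Nat.prime_two⟩
  obtain ⟨P, hP⟩ := Cfsg.Agent.SylowL.CompFacts.exists_sylow T (show E.IsSubnormal from hE.isSubnormal)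
  have hmem : ∀ x : ↥E, x ∈ (P : Subgroup ↥E) ↔ (x : G) ∈ (T : Subgroup G) ⊓ E := by
    intro x
    rw [hP, mem_subgroupOf]
    exact ⟨fun h => ⟨h, x.2⟩, fun h => h.1⟩
  have hb : normalizer ((P : Subgroup ↥E) : Set ↥E) ≤ centralizer ((P : Subgroup ↥E) : Set ↥E) := by
    intro y hy
    rw [mem_centralizer_iff]
    intro x hx
    have hy' : (y : G) ∈ normalizer (((T : Subgroup G) ⊓ E : Subgroup G) : Set G) := by
      rw [mem_normalizer_iff]
      intro z
      constructor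
      · intro hz
        have h1 : (⟨z, hz.2⟩ : ↥E) ∈ (P : Subgroup ↥E) := (hmem _).2 hz
        have h2 := (mem_normalizer_iff.1 hy _).1 h1
        exact (hmem _).1 h2
      · intro hz
        have h0 : z ∈ E := by
          have h1 := hE.conj_mem _ hz.2 (y : G)⁻¹
          have e : (y : G)⁻¹ * ((y : G) * z * (y : G)⁻¹) * (y : G)⁻¹⁻¹ = z := by group
          rwa [e] at h1
        have h2 := (mem_normalizer_iff.1 hy ⟨z, h0⟩).2 ((hmem _).2 hz)
        exact (hmem _).1 h2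
    exact Subtype.ext (hc x ((hmem x).1 hx) y y.2 hy')
  have hcompl := MonoidHom.ker_transferSylow_isComplement' P hb
  set K := (MonoidHom.transferSylow P hb).ker with hK
  have hKc : Nat.card K = (P : Subgroup ↥E).index := hcompl.index_eq_card.symm
  have hK1 : K = ⊥ := by
    have h1 : K ≤ pPrimeCore 2 ↥E := by
      apply Lib.Cores.le_pPrimeCore inferInstance
      rw [hKc, Nat.coprime_comm, Nat.Prime.coprime_iff_not_dvd Nat.prime_two]
      exact P.not_dvd_index
    have h2 := Lib.Cores.map_subtype_pPrimeCore 2 hE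
    have h3 : pPrimeCore 2 G = ⊥ := hO
    rw [h3, inf_bot_eq, Subgroup.map_eq_bot_iff, ker_subtype, le_bot_iff] at h2
    rw [h2] at h1
    exact le_bot_iff.1 h1
  have hP1 : (P : Subgroup ↥E) = ⊤ := by
    rw [← Subgroup.index_eq_one, ← hKc, hK1, Subgroup.card_bot]
  intro x hx
  have h1 : (⟨x, hx⟩ : ↥E) ∈ (P : Subgroup ↥E) := by rw [hP1]; exact mem_top _
  exact ((hmem _).1 h1).1

namespace Sit

variable {G : Type u} [Group G] [Finite G] {T : Sylow 2 G} {W : Subgroup ↥(T : Subgroup G)} {j : ℕ}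

theorem Zj_le_M (s : Sit T W j) : Z T j ≤ M T j :=
  (Z_mono (by have := s.hj; omega)).trans s.Z3_le_M

/-- **`C_G(M) ≤ O_2(G)`** -/
theorem C_le_core (s : Sit T W j) : C T j ≤ pCore 2 G := by
  have : Fact (Nat.Prime 2) := ⟨Nat.prime_two⟩
  have hMn : (M T j).Normal := M_normal
  have hCn : (C T j).Normal := C_normal
  have hnj := s.nj
  set E : Subgroup G := ⁅C T j, C T j⁆ ⊔ Z T j with hE
  have hEn : E.Normal := by rw [hE]; infer_instance
  have hEC : E ≤ C T j := sup_le (Subgroup.commutator_le_right _ _) (s.Zj_le_M.trans s.M_le_C)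
  -- `T ∩ E ≤ Z_j`
  have h1 : (T : Subgroup G) ⊓ E ≤ Z T j := by
    by_contra hcon
    have hME := s.star hEn hcon
    obtain ⟨P, hP⟩ := Cfsg.Agent.SylowL.CompFacts.exists_sylow T (show (C T j).IsSubnormal from hCn.isSubnormal)
    have h2 : M T j ≤ Z T j := by
      intro x hx
      have hxC := s.M_le_C hx
      have h3 := mem_of_transfer P (Y := (Z T j).subgroupOf (C T j)) inferInstance (by
        intro a ha b hb
        rw [hP, mem_subgroupOf] at ha hb
        rw [mem_subgroupOf]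
        have ha2 := s.sq_C a (mem_inf.2 ⟨ha, a.2⟩)
        have hb2 := s.sq_C b (mem_inf.2 ⟨hb, b.2⟩)
        have hab2 := s.sq_C (a * b) (mem_inf.2 ⟨mul_mem ha hb, mul_mem a.2 b.2⟩)
        show ⁅(a : G), (b : G)⁆ ∈ Z T j
        have e : ⁅(a : G), (b : G)⁆ = ((a : G) * b) ^ 2 * ((b : G)⁻¹ * ((a : G) ^ 2)⁻¹ * (b : G)⁻¹⁻¹) * ((b : G) ^ 2)⁻¹ := by
          rw [commutatorElement_def, pow_two, pow_two, pow_two]; group
        rw [e]
        exact mul_mem (mul_mem hab2 (hnj.conj_mem _ (inv_mem ha2) _)) (inv_mem hb2))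
        (z := ⟨x, hxC⟩) (by
          rw [hP, mem_subgroupOf]
          exact s.M_le_T hx) (by
          rw [mem_center_iff]
          intro g
          exact Subtype.ext (mem_centralizer_iff.1 g.2 x hx).symm) (by
          have h4 : E ≤ (commutator ↥(C T j) ⊔ (Z T j).subgroupOf (C T j)).map (C T j).subtype := by
            rw [hE, Subgroup.map_sup, Subgroup.map_subtype_commutator, subgroupOf_map_subtype,
              inf_eq_left.2 (s.Zj_le_M.trans s.M_le_C)]
          obtain ⟨y, hy, hyx⟩ := h4 (hME hx)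
          have h5 : y = ⟨x, hxC⟩ := Subtype.ext hyx
          rw [← h5]
          exact hy)
      exact h3
    have h3 := Subgroup.card_le_of_le h2
    rw [s.toSet1.card_Z (by have := s.hj; omega)] at h3
    have h4 := s.card_M_ge
    have h5 : 2 ^ j ≤ 2 ^ 1 := Nat.pow_le_pow_right (by norm_num) s.hj
    omega
  -- `E` is a 2-group
  have h2 : E ≤ (T : Subgroup G) := by
    refine le_of_burnside T s.core hEn (fun x hx y hy _ => ?_)
    exact mem_centralizer_iff.1 (hEC hy) x (s.Zj_le_M (h1 hx))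
  have h3 : E ≤ Z T j := fun x hx => h1 ⟨h2 hx, hx⟩
  -- `C` is nilpotent
  have h4 : Group.IsNilpotent (C T j) := by
    apply ComponentExists.isNilpotent_of_commutator_commutator
    rw [Subgroup.commutator_eq_bot_iff_le_centralizer]
    intro x hx
    rw [mem_centralizer_iff]
    intro y hy
    exact (mem_centralizer_iff.1 hy x (s.Zj_le_M (h3 (le_sup_left (a := ⁅C T j, C T j⁆) hx)))).symm
  rw [← s.toSet1.fitting_eq]
  exact ComponentExists.le_fittingSubgroup hCn h4

theorem C_le_T (s : Sit T W j) : C T j ≤ (T : Subgroup G) := s.C_le_core.trans pCore_le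

theorem card_C_le (s : Sit T W j) : Nat.card (C T j) ≤ 2 ^ 7 := by
  have h1 := s.card_C0_le
  rwa [inf_eq_right.2 s.C_le_T] at h1

theorem C_le_W (s : Sit T W j) : C T j ≤ Wg W := by
  have h1 := s.inf_le_W
  rwa [inf_eq_right.2 s.C_le_T] at h1

/-- `Z_5 ≰ C` -/
theorem Z5_not_le (s : Sit T W j) : ¬ Z T 5 ≤ C T j := by
  intro hle
  have hMn : (M T j).Normal := M_normal
  refine Z5_not_cent s.h (M := (M T j).subgroupOf (T : Subgroup G)) inferInstance ?_ ?_
  · rw [sub_card s.M_le_T]; exact s.card_M_ge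
  · intro x hx m hm
    have h1 := hle ⟨x, hx, rfl⟩
    exact Subtype.ext (mem_centralizer_iff.1 h1 m hm).symm

/-- **the case (ii)**: `O_2(G) ≤ C_G(M)` -/
theorem core_le_C (s : Sit T W j) : pCore 2 G ≤ C T j := by
  by_contra hcon
  have : Fact (Nat.Prime 2) := ⟨Nat.prime_two⟩
  have hMn : (M T j).Normal := M_normal
  have hCn : (C T j).Normal := C_normal
  have hRn : (pCore 2 G).Normal := Lib.Cores.pCore_normal 2
  have hnj := s.nj
  -- `j = 1`
  have hj1 : j = 1 := by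
    by_contra hj
    have hj0 : j = 0 := by have := s.hj; omega
    subst hj0
    apply hcon
    intro x hx
    unfold C
    rw [mem_centralizer_iff]
    intro y hy
    have h1 := s.comm_core hx hy
    rw [Z_zero, mem_bot, commutatorElement_eq_one_iff_mul_comm] at h1
    exact h1.symm
  subst hj1
  -- `C_M(R) = Z_1`
  have hMR : ∀ m ∈ M T 1, (∀ r ∈ pCore 2 G, r * m = m * r) → m ∈ Z T 1 := by
    intro m hm hmc
    by_contra hm1
    let N : Subgroup G := M T 1 ⊓ centralizer (pCore 2 G : Set G)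
    have hN : N.Normal := inferInstance
    have h1 : M T 1 ≤ N := s.star hN (fun hle => hm1 (hle (mem_inf.2 ⟨s.M_le_T hm, mem_inf.2 ⟨hm,
      mem_centralizer_iff.2 hmc⟩⟩)))
    apply hcon
    intro r hr
    unfold C
    rw [mem_centralizer_iff]
    intro y hy
    exact (mem_centralizer_iff.1 (h1 hy).2 r hr).symm
  set R : Subgroup G := pCore 2 G with hR
  have hRT : R ≤ (T : Subgroup G) := pCore_le
  have hRinv : ∀ t ∈ (T : Subgroup G), ∀ x ∈ R, t * x * t⁻¹ ∈ R := fun t _ x hx => hRn.conj_mem x hx t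
  have h3R : Z T 3 ≤ R := s.Z3_le_M.trans s.M_le_core
  -- `R ≤ T_0`
  have hRT0 : ∀ r : ↥(T : Subgroup G), (r : G) ∈ R → r ∈ T0 ↥(T : Subgroup G) := by
    intro r hr z hz
    obtain ⟨y, hy, hyz⟩ := s.comm_core hr (s.Z3_le_M ⟨z, hz, rfl⟩)
    have h1 : y = ⁅r, z⁆ := Subtype.ext hyz
    rw [← h1]; exact hy
  set R' : Subgroup ↥(T : Subgroup G) := R.subgroupOf (T : Subgroup G) with hR'
  have hR'n : R'.Normal := norm_of hRinv
  have hRWT0 : R' ⊔ W ≤ T0 ↥(T : Subgroup G) := sup_le (fun r hr => hRT0 r hr) (W_le_T0 s.h)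
  -- `R W = T_0`: otherwise `C_{Z_3}(R)` has order at least 4
  have hidx : (R' ⊔ W).index = 2 := by
    have h1 := index_T0_eq s.h
    have h2 := Subgroup.relIndex_mul_index (le_sup_right : W ≤ R' ⊔ W)
    rw [s.h.orders.1] at h2
    have h3 : (T0 ↥(T : Subgroup G)).index ∣ (R' ⊔ W).index := Subgroup.index_dvd_of_le hRWT0
    rw [h1] at h3
    -- it is enough to exclude `W.relIndex ≤ 2`
    by_contra hne
    have h4 : W.relIndex (R' ⊔ W) ≤ 2 := by
      have h5 : (R' ⊔ W).index ∣ 8 := ⟨_, by rw [mul_comm]; exact h2.symm⟩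
      have h6 : (R' ⊔ W).index ∈ Nat.divisors 8 := Nat.mem_divisors.2 ⟨h5, by norm_num⟩
      have h7 : Nat.divisors 8 = {1, 2, 4, 8} := by decide
      rw [h7] at h6
      simp only [Finset.mem_insert, Finset.mem_singleton] at h6
      rcases h6 with h6 | h6 | h6 | h6
      · rw [h6] at h3; norm_num at h3
      · exact (hne h6).elim
      · rw [h6] at h2; omega
      · rw [h6] at h2; omega
    -- an element generating `R` modulo `W`
    obtain ⟨m, hm, hmW⟩ : ∃ m ∈ R', ∀ x ∈ R', x ∈ W ∨ m⁻¹ * x ∈ W := by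
      by_cases hRW : R' ≤ W
      · exact ⟨1, one_mem _, fun x hx => Or.inl (hRW hx)⟩
      · obtain ⟨m, hm, hmW⟩ := Set.not_subset.1 hRW
        refine ⟨m, hm, fun x hx => ?_⟩
        by_cases hxW : x ∈ W
        · exact Or.inl hxW
        · right
          have h5 : (W.subgroupOf (R' ⊔ W)).index = 2 := by
            have h9 : (W.subgroupOf (R' ⊔ W)).index ≠ 1 := by
              rw [Ne, Subgroup.index_eq_one, Subgroup.subgroupOf_eq_top]
              exact fun hle => hmW (hle (mem_sup_left hm))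
            have h10 : (W.subgroupOf (R' ⊔ W)).index ≠ 0 := Subgroup.index_ne_zero_of_finite
            have h11 : (W.subgroupOf (R' ⊔ W)).index ≤ 2 := h4
            omega
          have h9 := Subgroup.mul_mem_iff_of_index_two h5 (a := ⟨m⁻¹, inv_mem (mem_sup_left hm)⟩)
            (b := ⟨x, mem_sup_left hx⟩)
          have h10 : (⟨m⁻¹, inv_mem (mem_sup_left hm)⟩ * ⟨x, mem_sup_left hx⟩ : ↥(R' ⊔ W)) ∈ W.subgroupOf (R' ⊔ W) := by
            rw [h9]
            refine iff_of_false ?_ hxW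
            rw [mem_subgroupOf]
            show ¬ m⁻¹ ∈ W
            rw [inv_mem_iff]; exact hmW
          exact h10
    -- the elements of `Z_3` centralised by `m`
    have h9 := RuBase.index_le_of_fun ((centralizer ({m} : Set ↥(T : Subgroup G))).subgroupOf (Zu _ 3))
      (β := ↥(Zu ↥(T : Subgroup G) 1)) (fun z => ⟨⁅m, (z : ↥(T : Subgroup G))⁆, hRT0 m hm z z.2⟩) (by
        intro x y hxy
        rw [mem_subgroupOf, mem_centralizer_singleton_iff]
        have h1 : ⁅m, (x : ↥(T : Subgroup G))⁆ = ⁅m, (y : ↥(T : Subgroup G))⁆ := congrArg Subtype.val hxy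
        have e1 : m * (x : ↥(T : Subgroup G)) * m⁻¹ = ⁅m, (x : ↥(T : Subgroup G))⁆ * x := by
          rw [commutatorElement_def]; group
        have e2 : m * (y : ↥(T : Subgroup G)) * m⁻¹ = ⁅m, (y : ↥(T : Subgroup G))⁆ * y := by
          rw [commutatorElement_def]; group
        have e3 : m * ((x : ↥(T : Subgroup G))⁻¹ * y) * m⁻¹ = (x : ↥(T : Subgroup G))⁻¹ * y := by
          calc m * ((x : ↥(T : Subgroup G))⁻¹ * y) * m⁻¹ = (m * x * m⁻¹)⁻¹ * (m * y * m⁻¹) := by group
            _ = (x : ↥(T : Subgroup G))⁻¹ * (⁅m, (x : ↥(T : Subgroup G))⁆⁻¹ * ⁅m, (y : ↥(T : Subgroup G))⁆) * y := by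
              rw [e1, e2]; group
            _ = (x : ↥(T : Subgroup G))⁻¹ * y := by rw [h1]; group
        show (x : ↥(T : Subgroup G))⁻¹ * (y : ↥(T : Subgroup G)) * m = m * ((x : ↥(T : Subgroup G))⁻¹ * (y : ↥(T : Subgroup G)))
        calc (x : ↥(T : Subgroup G))⁻¹ * (y : ↥(T : Subgroup G)) * m = (m * ((x : ↥(T : Subgroup G))⁻¹ * y) * m⁻¹) * m := by
              rw [e3]
          _ = m * ((x : ↥(T : Subgroup G))⁻¹ * (y : ↥(T : Subgroup G))) := by group)
    rw [s.h.cardZ 1 (by norm_num)] at h9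
    have h10 := ((centralizer ({m} : Set ↥(T : Subgroup G))).subgroupOf (Zu _ 3)).card_mul_index
    rw [s.h.cardZ 3 (by norm_num)] at h10
    have h11 : Nat.card ((centralizer ({m} : Set ↥(T : Subgroup G))).subgroupOf (Zu _ 3)) ≤ Nat.card (Z T 1) := by
      apply Nat.card_le_card_of_injective (fun x : ↥((centralizer ({m} : Set ↥(T : Subgroup G))).subgroupOf (Zu _ 3)) =>
        (⟨(((x : ↥(Zu ↥(T : Subgroup G) 3)) : ↥(T : Subgroup G)) : G), by
          apply hMR _ (s.Z3_le_M ⟨_, (x : ↥(Zu ↥(T : Subgroup G) 3)).2, rfl⟩)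
          intro r hr
          have hrT := hRT hr
          have hxm : ((x : ↥(Zu ↥(T : Subgroup G) 3)) : ↥(T : Subgroup G)) * m =
              m * ((x : ↥(Zu ↥(T : Subgroup G) 3)) : ↥(T : Subgroup G)) :=
            mem_centralizer_singleton_iff.1 x.2
          have hx3 := (x : ↥(Zu ↥(T : Subgroup G) 3)).2
          have key : ((x : ↥(Zu ↥(T : Subgroup G) 3)) : ↥(T : Subgroup G)) * ⟨r, hrT⟩ =
              ⟨r, hrT⟩ * ((x : ↥(Zu ↥(T : Subgroup G) 3)) : ↥(T : Subgroup G)) := by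
            rcases hmW ⟨r, hrT⟩ (mem_subgroupOf.2 hr) with h12 | h12
            · exact s.h.comm_Z3_W hx3 h12
            · have h13 := s.h.comm_Z3_W hx3 h12
              calc ((x : ↥(Zu ↥(T : Subgroup G) 3)) : ↥(T : Subgroup G)) * ⟨r, hrT⟩ =
                    (((x : ↥(Zu ↥(T : Subgroup G) 3)) : ↥(T : Subgroup G)) * m) * (m⁻¹ * ⟨r, hrT⟩) := by group
                _ = m * (((x : ↥(Zu ↥(T : Subgroup G) 3)) : ↥(T : Subgroup G)) * (m⁻¹ * ⟨r, hrT⟩)) := by rw [hxm]; group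
                _ = ⟨r, hrT⟩ * ((x : ↥(Zu ↥(T : Subgroup G) 3)) : ↥(T : Subgroup G)) := by rw [h13]; group
          exact (congrArg Subtype.val key).symm⟩ : ↥(Z T 1)))
      intro a b hab
      exact Subtype.ext (Subtype.ext (Subtype.ext (congrArg (fun z : ↥(Z T 1) => (z : G)) hab)))
    rw [s.toSet1.card_Z (by norm_num)] at h11
    have := Nat.mul_le_mul h11 h9
    rw [h10] at this
    norm_num at this
  -- `T_0` centralises `M` modulo `Z_3`
  set M' : Subgroup ↥(T : Subgroup G) := (M T 1).subgroupOf (T : Subgroup G) with hM'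
  have hM'n : M'.Normal := inferInstance
  have hM'W : ∀ m ∈ M', m ∈ W := by
    intro m hm
    obtain ⟨_, h1⟩ := mem_Wg.1 (s.C_le_W (s.M_le_C (mem_subgroupOf.1 hm)))
    exact h1
  have hZM' : Zu ↥(T : Subgroup G) 3 ≤ M' := fun z hz => s.Z3_le_M ⟨z, hz, rfl⟩
  have hRM : ∀ r ∈ R', ∀ m ∈ M', ⁅r, m⁆ ∈ Zu ↥(T : Subgroup G) 1 := by
    intro r hr m hm
    obtain ⟨y, hy, hyz⟩ := s.comm_core (mem_subgroupOf.1 hr) (mem_subgroupOf.1 hm)
    have h1 : y = ⁅r, m⁆ := Subtype.ext hyz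
    rw [← h1]; exact hy
  have hn3 : (Zu ↥(T : Subgroup G) 3).Normal := inferInstance
  have hRWe : R' ⊔ W = T0 ↥(T : Subgroup G) := by
    have h1 := Subgroup.relIndex_mul_index hRWT0
    rw [index_T0_eq s.h, hidx] at h1
    have h2 : (R' ⊔ W).relIndex (T0 ↥(T : Subgroup G)) = 1 := by omega
    exact le_antisymm hRWT0 (Subgroup.relIndex_eq_one.1 h2)
  have hT0M : ∀ x ∈ T0 ↥(T : Subgroup G), ∀ m ∈ M', ⁅x, m⁆ ∈ Zu ↥(T : Subgroup G) 3 := by
    have hWn := s.h.normalW
    intro x hx m hm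
    rw [← hRWe, ← SetLike.mem_coe, normal_mul] at hx
    obtain ⟨r, hr, w, hw, rfl⟩ := hx
    have h1 : ⁅w, m⁆ ∈ Zu ↥(T : Subgroup G) 3 := s.h.comm_W_mem hw (hM'W m hm)
    rw [dl_comp]
    exact mul_mem (mul_mem (dl_mem hn3 r h1) h1) (Hyp.le32 (Hyp.le21 (hRM r hr m hm)))
  have hMc : Nat.card M' ≤ 2 ^ 5 := by
    have h1 : M' ≤ Fx W (T0 ↥(T : Subgroup G)) := fun m hm => mem_Fx.2 ⟨hM'W m hm, fun x hx => hT0M x hx m hm⟩
    have h2 := card_Fx s.h (s.h.Z3_le_W.trans (W_le_T0 s.h))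
    rw [index_T0_eq s.h] at h2
    exact (Subgroup.card_le_of_le h1).trans (by simpa using h2)
  have hMc' : Nat.card M' = 2 ^ 5 := by
    refine le_antisymm hMc ?_
    rw [hM', sub_card s.M_le_T]
    exact s.card_M_ge
  -- `|R ∩ W| ≥ 2^9`
  have hRW9 : 2 ^ 9 ≤ Nat.card (R ⊓ Wg W : Subgroup G) := by
    have h1 := s.toSet1.card_W_le' hRinv hRT h3R
    rw [← hR', hidx] at h1
    omega
  -- generators of `M`
  obtain ⟨e, he, he3⟩ : ∃ e ∈ Zu ↥(T : Subgroup G) 4, e ∉ Zu ↥(T : Subgroup G) 3 := by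
    by_contra hcon
    push Not at hcon
    have h1 := Subgroup.card_le_of_le (show Zu ↥(T : Subgroup G) 4 ≤ Zu ↥(T : Subgroup G) 3 from hcon)
    rw [s.h.cardZ 4 le_rfl, s.h.cardZ 3 (by norm_num)] at h1
    norm_num at h1
  have hZ4M' : Zu ↥(T : Subgroup G) 4 ≤ M' := fun z hz => s.Z4_le_M ⟨z, hz, rfl⟩
  obtain ⟨m₀, hm₀, hm₀4⟩ : ∃ m ∈ M', m ∉ Zu ↥(T : Subgroup G) 4 := by
    by_contra hcon
    push Not at hcon
    have h1 := Subgroup.card_le_of_le (show M' ≤ Zu ↥(T : Subgroup G) 4 from hcon)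
    rw [s.h.cardZ 4 le_rfl, hMc'] at h1
    norm_num at h1
  have hgen : ∀ Y : Subgroup ↥(T : Subgroup G), Zu ↥(T : Subgroup G) 3 ≤ Y → e ∈ Y → m₀ ∈ Y → M' ≤ Y := by
    intro Y h3 heY hmY
    have h4 : Zu ↥(T : Subgroup G) 4 ≤ Y := by
      intro z hz
      by_cases hz3 : z ∈ Zu ↥(T : Subgroup G) 3
      · exact h3 hz3
      · have h1 : e⁻¹ * z ∈ Zu ↥(T : Subgroup G) 3 := by
          rw [Hyp.mul_mem_of_card Hyp.le43 (by rw [s.h.cardZ 4 le_rfl, s.h.cardZ 3 (by norm_num)]; norm_num)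
            (inv_mem he) hz, inv_mem_iff]
          exact iff_of_false he3 hz3
        have e1 : z = e * (e⁻¹ * z) := by group
        rw [e1]
        exact mul_mem heY (h3 h1)
    intro x hx
    by_cases hx4 : x ∈ Zu ↥(T : Subgroup G) 4
    · exact h4 hx4
    · have h1 : m₀⁻¹ * x ∈ Zu ↥(T : Subgroup G) 4 := by
        rw [Hyp.mul_mem_of_card hZ4M' (by rw [s.h.cardZ 4 le_rfl, hMc']; norm_num) (inv_mem hm₀) hx, inv_mem_iff]
        exact iff_of_false hm₀4 hx4
      have e1 : x = m₀ * (m₀⁻¹ * x) := by group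
      rw [e1]
      exact mul_mem hmY (h4 h1)
  -- `|R ∩ W : C| ≤ 4`
  set V : Subgroup ↥(T : Subgroup G) := R' ⊓ W with hV
  set C' : Subgroup ↥(T : Subgroup G) := (C T 1).subgroupOf (T : Subgroup G) with hC'
  have hVc : 2 ^ 9 ≤ Nat.card V := by
    have h4 : Nat.card V = Nat.card (R ⊓ Wg W : Subgroup G) := by
      apply Nat.card_congr
      exact
        { toFun := fun x => ⟨(x : ↥(T : Subgroup G)), x.2.1, ⟨x, x.2.2, rfl⟩⟩
          invFun := fun x => ⟨⟨x, hRT x.2.1⟩, x.2.1, (mem_Wg.1 x.2.2).2⟩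
          left_inv := fun x => rfl
          right_inv := fun x => rfl }
    rw [h4]; exact hRW9
  have hcen1 : ∀ z ∈ Zu ↥(T : Subgroup G) 1, ∀ t : ↥(T : Subgroup G), z * t = t * z := fun z hz t => Hyp.mem_Z1 hz t
  have hconj : ∀ (x y m : ↥(T : Subgroup G)), ⁅x, m⁆ ∈ Zu ↥(T : Subgroup G) 1 → ⁅x, m⁆ = ⁅y, m⁆ →
      m * (x⁻¹ * y) = (x⁻¹ * y) * m := by
    intro x y m _ h1
    have e1 : x * m * x⁻¹ = ⁅x, m⁆ * m := by rw [commutatorElement_def]; group
    have e2 : y * m * y⁻¹ = ⁅y, m⁆ * m := by rw [commutatorElement_def]; group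
    have e3 : x * m * x⁻¹ = y * m * y⁻¹ := by rw [e1, e2, h1]
    calc m * (x⁻¹ * y) = x⁻¹ * (x * m * x⁻¹) * y := by group
      _ = (x⁻¹ * y) * m := by rw [e3]; group
  have h9 := RuBase.index_le_of_fun (C'.subgroupOf V) (β := ↥(Zu ↥(T : Subgroup G) 1) × ↥(Zu ↥(T : Subgroup G) 1))
    (fun x => (⟨⁅(x : ↥(T : Subgroup G)), e⁆, hRM _ x.2.1 e (hZ4M' he)⟩, ⟨⁅(x : ↥(T : Subgroup G)), m₀⁆, hRM _ x.2.1 m₀ hm₀⟩))
    (by
      intro x y hxy
      have h1 : ⁅(x : ↥(T : Subgroup G)), e⁆ = ⁅(y : ↥(T : Subgroup G)), e⁆ :=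
        congrArg (fun p => ((p.1 : ↥(Zu ↥(T : Subgroup G) 1)) : ↥(T : Subgroup G))) hxy
      have h2 : ⁅(x : ↥(T : Subgroup G)), m₀⁆ = ⁅(y : ↥(T : Subgroup G)), m₀⁆ :=
        congrArg (fun p => ((p.2 : ↥(Zu ↥(T : Subgroup G) 1)) : ↥(T : Subgroup G))) hxy
      rw [mem_subgroupOf]
      have h3 : M' ≤ centralizer ({(x : ↥(T : Subgroup G))⁻¹ * (y : ↥(T : Subgroup G))} : Set ↥(T : Subgroup G)) := by
        apply hgen
        · intro z hz
          rw [mem_centralizer_singleton_iff]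
          exact s.h.comm_Z3_W hz (mul_mem (inv_mem x.2.2) y.2.2)
        · rw [mem_centralizer_singleton_iff]
          exact hconj _ _ _ (hRM _ x.2.1 e (hZ4M' he)) h1
        · rw [mem_centralizer_singleton_iff]
          exact hconj _ _ _ (hRM _ x.2.1 m₀ hm₀) h2
      show (((x : ↥(T : Subgroup G))⁻¹ * (y : ↥(T : Subgroup G)) : ↥(T : Subgroup G)) : G) ∈ C T 1
      unfold C
      rw [mem_centralizer_iff]
      intro m hm
      have h4 := h3 (show (⟨m, s.M_le_T hm⟩ : ↥(T : Subgroup G)) ∈ M' from mem_subgroupOf.2 hm)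
      rw [mem_centralizer_singleton_iff] at h4
      exact congrArg Subtype.val h4)
  rw [Nat.card_prod, s.h.cardZ 1 (by norm_num)] at h9
  have h10 := (C'.subgroupOf V).card_mul_index
  have h11 : Nat.card (C'.subgroupOf V) ≤ Nat.card C' := by
    rw [← Subgroup.inf_subgroupOf_right, Nat.card_congr (Subgroup.subgroupOfEquivOfLe inf_le_right).toEquiv]
    exact Subgroup.card_le_of_le inf_le_left
  have hC7 : 2 ^ 7 ≤ Nat.card C' := by
    have h12 := Nat.mul_le_mul h11 h9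
    rw [h10] at h12
    have := hVc.trans h12
    omega
  -- `|C / M| ≤ 4`
  have hCM : ∀ t ∈ (T : Subgroup G), ∀ x ∈ C T 1, ⁅t, x⁆ ∈ M T 1 := by
    apply s.toSet1.section_trivial hCn hMn
    have h12 : Nat.card ((C T 1).map (QuotientGroup.mk' (M T 1))) * Nat.card (M T 1) = Nat.card (C T 1) := by
      have h5 := ((C T 1).map (QuotientGroup.mk' (M T 1))).card_mul_index
      have h6 := (C T 1).card_mul_index
      have h7 := (M T 1).card_mul_index
      have h8 : (M T 1).index = Nat.card (G ⧸ M T 1) := rfl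
      have h9 : ((C T 1).map (QuotientGroup.mk' (M T 1))).index = (C T 1).index := by
        apply Subgroup.index_map_eq
        · exact QuotientGroup.mk'_surjective _
        · rw [QuotientGroup.ker_mk']; exact s.M_le_C
      rw [h9] at h5
      rw [h8, ← h5, ← h6] at h7
      have h10 : 0 < (C T 1).index := Nat.pos_of_ne_zero Subgroup.index_ne_zero_of_finite
      apply Nat.eq_of_mul_eq_mul_right h10
      rw [← h7]; ring
    have h13 := s.card_C_le
    have h14 := s.card_M_ge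
    by_contra hlt
    push Not at hlt
    have := Nat.mul_le_mul (Nat.succ_le_of_lt hlt) h14
    rw [h12] at this
    omega
  -- the subgroup `N`
  let N : Subgroup ↥(T : Subgroup G) := (center (↥(T : Subgroup G) ⧸ M')).comap (QuotientGroup.mk' M') ⊓ W
  have hNmem : ∀ x : ↥(T : Subgroup G), x ∈ N ↔ (∀ g : ↥(T : Subgroup G), ⁅g, x⁆ ∈ M') ∧ x ∈ W := by
    intro x
    show x ∈ (center (↥(T : Subgroup G) ⧸ M')).comap (QuotientGroup.mk' M') ⊓ W ↔ _
    rw [mem_inf, mem_comap, mem_center_iff]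
    refine and_congr_left fun _ => ?_
    constructor
    · intro h1 g
      rw [← QuotientGroup.eq_one_iff]
      show QuotientGroup.mk' M' ⁅g, x⁆ = 1
      rw [map_commutatorElement, commutatorElement_eq_one_iff_mul_comm]
      exact h1 _
    · intro h1 g
      obtain ⟨g, rfl⟩ := QuotientGroup.mk'_surjective M' g
      rw [← commutatorElement_eq_one_iff_mul_comm, ← map_commutatorElement]
      exact (QuotientGroup.eq_one_iff _).2 (h1 g)
  have hNc := card_fixmod s.h hZM' hT0M hMc (N := N) inf_le_right (fun g x hx => ((hNmem x).1 hx).1 g)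
  have hCN : C' ≤ N := by
    intro x hx
    rw [hNmem]
    refine ⟨fun g => ?_, ?_⟩
    · exact hCM g g.2 x hx
    · obtain ⟨_, h1⟩ := mem_Wg.1 (s.C_le_W (mem_subgroupOf.1 hx))
      exact h1
  have hZN : Zu ↥(T : Subgroup G) 5 ≤ N := by
    intro x hx
    rw [hNmem]
    exact ⟨fun g => hZ4M' (Hyp.comm_mem' hx g), Z5_le_W s.h hx⟩
  have hCe : C' = N := Subgroup.eq_of_le_of_card_ge hCN (hNc.trans hC7)
  apply s.Z5_not_le
  rintro _ ⟨z, hz, rfl⟩
  have h12 : z ∈ C' := by rw [hCe]; exact hZN hz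
  exact h12

end Sit

end Cfsg.Agent.H302.Rv
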