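import Cfsg.Agent.H302.RvM

/-!
# Groups of Rudvalis type: `M` is elementary abelian, its centralizer is a 2-group (helper302)
-/

set_option autoImplicit false
set_option linter.style.haveILetI false
set_option linter.unnecessarySimpa false
set_option linter.unusedSectionVars false

namespace Cfsg.Agent.H302.Rv

open Subgroup Cfsg Cfsg.Agent.H303 Cfsg.Agent.H303.RuMain
open Set1
open scoped commutatorElement

universe u

local notation "Zu" => Subgroup.upperCentralSeries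

namespace Set1

variable {G : Type u} [Group G] [Finite G] {T : Sylow 2 G} {W : Subgroup ↥(T : Subgroup G)}

/-- `W` as a subgroup of `G` -/
def Wg (W : Subgroup ↥(T : Subgroup G)) : Subgroup G := W.map (T : Subgroup G).subtype

theorem mem_Wg {x : G} : x ∈ Wg W ↔ ∃ hx : x ∈ (T : Subgroup G), (⟨x, hx⟩ : ↥(T : Subgroup G)) ∈ W := by
  constructor
  · rintro ⟨y, hy, rfl⟩
    exact ⟨y.2, hy⟩
  · rintro ⟨hx, hx'⟩
    exact ⟨⟨x, hx⟩, hx', rfl⟩

theorem Wg_le : Wg W ≤ (T : Subgroup G) := by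
  rintro _ ⟨y, -, rfl⟩
  exact y.2

/-- elements of `T` centralising `Z_3` are in `W` -/
theorem mem_Wg_of (s : Set1 T W) {x : G} (hx : x ∈ (T : Subgroup G)) (h : ∀ z ∈ Z T 3, z * x = x * z) : x ∈ Wg W := by
  rw [mem_Wg]
  refine ⟨hx, ?_⟩
  rw [s.h.mem_W]
  intro z hz
  exact Subtype.ext (h z ⟨z, hz, rfl⟩)

theorem Wg_comm (s : Set1 T W) {w z : G} (hw : w ∈ Wg W) (hz : z ∈ Z T 3) : z * w = w * z := by
  obtain ⟨w, hw, rfl⟩ := hw
  obtain ⟨z, hz, rfl⟩ := hz
  exact congrArg Subtype.val (s.h.comm_Z3_W hz hw)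

theorem sub_card {N : Subgroup G} (hN : N ≤ (T : Subgroup G)) :
    Nat.card (N.subgroupOf (T : Subgroup G)) = Nat.card N :=
  Nat.card_congr (subgroupOfEquivOfLe hN).toEquiv

/-- (d) in `G` -/
theorem card_le_of_sq' (s : Set1 T W) {C : Subgroup G} {j : ℕ} (hj : j ≤ 2) (hC : C ≤ Wg W)
    (hsq : ∀ x ∈ C, x ^ 2 ∈ Z T j) : Nat.card C ≤ 2 ^ 7 := by
  have hCT : C ≤ (T : Subgroup G) := hC.trans Wg_le
  rw [← sub_card hCT]
  refine card_le_of_sq s.h (Y := Zu _ j) ?_ ?_ ?_ ?_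
  · intro x hx
    obtain ⟨_, h1⟩ := mem_Wg.1 (hC hx)
    exact h1
  · exact Subgroup.upperCentralSeries_mono _ (by omega)
  · intro hle
    have h1 := Subgroup.card_le_of_le hle
    rw [s.h.cardZ 3 (by norm_num), s.h.cardZ j (by omega)] at h1
    have := (Nat.pow_le_pow_iff_right (by norm_num : 1 < 2)).1 h1
    omega
  · intro x hx
    obtain ⟨y, hy, hyx⟩ := hsq x hx
    have h1 : y = x ^ 2 := Subtype.ext hyx
    rw [← h1]; exact hy

/-- the order of a `T`-invariant subgroup of `T` not in `W`: `2 ^ 11 ≤ 2 ^ |T : N W| |N ∩ W|` -/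
theorem card_W_le' (s : Set1 T W) {N : Subgroup G} (hN : ∀ t ∈ (T : Subgroup G), ∀ x ∈ N, t * x * t⁻¹ ∈ N)
    (hNT : N ≤ (T : Subgroup G)) (hZ : Z T 3 ≤ N) :
    2 ^ 11 ≤ 2 ^ (N.subgroupOf (T : Subgroup G) ⊔ W).index * Nat.card (N ⊓ Wg W : Subgroup G) := by
  have h1 := card_sup_Z3 s.h (norm_of hN)
  rw [s.h.orders.2.2.2] at h1
  have h3 : Zu _ 3 ≤ N.subgroupOf (T : Subgroup G) := by
    intro z hz
    exact hZ ⟨z, hz, rfl⟩
  rw [sup_eq_left.2 (le_inf h3 s.h.Z3_le_W)] at h1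
  have h4 : Nat.card (N.subgroupOf (T : Subgroup G) ⊓ W : Subgroup _) = Nat.card (N ⊓ Wg W : Subgroup G) := by
    apply Nat.card_congr
    exact
      { toFun := fun x => ⟨(x : ↥(T : Subgroup G)), x.2.1, ⟨x, x.2.2, rfl⟩⟩
        invFun := fun x => ⟨⟨x, hNT x.2.1⟩, x.2.1, (mem_Wg.1 x.2.2).2⟩
        left_inv := fun x => rfl
        right_inv := fun x => rfl }
  rwa [h4] at h1

end Set1

namespace Sit

variable {G : Type u} [Group G] [Finite G] {T : Sylow 2 G} {W : Subgroup ↥(T : Subgroup G)} {j : ℕ}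

/-- **`M` is abelian.** -/
theorem M_comm (s : Sit T W j) : ∀ x ∈ M T j, ∀ y ∈ M T j, x * y = y * x := by
  by_contra hcon
  have hMn : (M T j).Normal := M_normal
  have hnj := s.nj
  -- `j = 1`
  have hj1 : j = 1 := by
    by_contra hj
    have hj0 : j = 0 := by have := s.hj; omega
    subst hj0
    apply hcon
    intro x hx y hy
    have h1 := s.comm_core (s.M_le_core hx) hy
    rw [Z_zero, mem_bot, commutatorElement_eq_one_iff_mul_comm] at h1
    exact h1
  subst hj1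
  -- the centre of `M`
  have hZM : ∀ z ∈ M T 1, (∀ y ∈ M T 1, z * y = y * z) → z ∈ Z T 1 := by
    intro z hz hzc
    by_contra hz1
    let N : Subgroup G := M T 1 ⊓ centralizer (M T 1 : Set G)
    have hN : N.Normal := inferInstance
    have h1 : M T 1 ≤ N := s.star hN (fun hle => hz1 (hle (mem_inf.2 ⟨s.M_le_T hz, mem_inf.2 ⟨hz,
      mem_centralizer_iff.2 fun y hy => (hzc y hy).symm⟩⟩)))
    apply hcon
    intro x hx y hy
    exact (mem_centralizer_iff.1 (h1 hx).2 y hy).symm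
  have h3M : Z T 3 ≤ M T 1 := (Z_mono (by norm_num)).trans s.Z4_le_M
  have hinv : ∀ t ∈ (T : Subgroup G), ∀ x ∈ M T 1, t * x * t⁻¹ ∈ M T 1 := fun t _ x hx => hMn.conj_mem x hx t
  -- `|M ∩ W| ≤ 2^7`
  have h4 : Nat.card (M T 1 ⊓ Wg W : Subgroup G) ≤ 2 ^ 7 :=
    s.toSet1.card_le_of_sq' (j := 1) (by norm_num) inf_le_right (fun x hx => s.sq_mem hx.1)
  have h5 := s.toSet1.card_W_le' hinv s.M_le_T h3M
  have h6 : 4 ≤ ((M T 1).subgroupOf (T : Subgroup G) ⊔ W).index := by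
    by_contra hlt
    push Not at hlt
    have h7 : 2 ^ ((M T 1).subgroupOf (T : Subgroup G) ⊔ W).index ≤ 2 ^ 3 :=
      Nat.pow_le_pow_right (by norm_num) (by omega)
    have := h5.trans (Nat.mul_le_mul h7 h4)
    norm_num at this
  -- `|M W : W| ≤ 2`
  have h7 : W.relIndex ((M T 1).subgroupOf (T : Subgroup G) ⊔ W) ≤ 2 := by
    have h8 := Subgroup.relIndex_mul_index (le_sup_right : W ≤ (M T 1).subgroupOf (T : Subgroup G) ⊔ W)
    rw [s.h.orders.1] at h8
    by_contra hlt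
    push Not at hlt
    have := Nat.mul_le_mul (Nat.succ_le_of_lt hlt) h6
    omega
  -- `M = (M ∩ W) ∪ m (M ∩ W)`
  have h8 : ∃ m ∈ M T 1, ∀ x ∈ M T 1, x ∈ Wg W ∨ m⁻¹ * x ∈ Wg W := by
    by_cases hMW : M T 1 ≤ Wg W
    · exact ⟨1, one_mem _, fun x hx => Or.inl (hMW hx)⟩
    · obtain ⟨m, hm, hmW⟩ := Set.not_subset.1 hMW
      refine ⟨m, hm, fun x hx => ?_⟩
      by_cases hxW : x ∈ Wg W
      · exact Or.inl hxW
      · right
        have hmT := s.M_le_T hm
        have hxT := s.M_le_T hx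
        set Y := (M T 1).subgroupOf (T : Subgroup G) ⊔ W with hY
        have h2 : (W.subgroupOf Y).index = 2 := by
          have h9 : (W.subgroupOf Y).index ≠ 1 := by
            rw [Ne, Subgroup.index_eq_one, Subgroup.subgroupOf_eq_top]
            intro hle
            have h10 : (⟨m, hmT⟩ : ↥(T : Subgroup G)) ∈ W := hle (mem_sup_left (mem_subgroupOf.2 hm))
            exact hmW (mem_Wg.2 ⟨hmT, h10⟩)
          have h10 : (W.subgroupOf Y).index ≠ 0 := Subgroup.index_ne_zero_of_finite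
          have h11 : (W.subgroupOf Y).index ≤ 2 := h7
          omega
        have h9 := Subgroup.mul_mem_iff_of_index_two h2 (a := ⟨⟨m, hmT⟩⁻¹, inv_mem (mem_sup_left (mem_subgroupOf.2 hm))⟩)
          (b := ⟨⟨x, hxT⟩, mem_sup_left (mem_subgroupOf.2 hx)⟩)
        have h10 : (⟨⟨m, hmT⟩⁻¹, inv_mem (mem_sup_left (mem_subgroupOf.2 hm))⟩ *
            ⟨⟨x, hxT⟩, mem_sup_left (mem_subgroupOf.2 hx)⟩ : ↥Y) ∈ W.subgroupOf Y := by
          rw [h9]
          refine iff_of_false ?_ ?_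
          · rw [mem_subgroupOf]
            show ¬ (⟨m, hmT⟩ : ↥(T : Subgroup G))⁻¹ ∈ W
            rw [inv_mem_iff]
            exact fun h => hmW (mem_Wg.2 ⟨hmT, h⟩)
          · rw [mem_subgroupOf]
            exact fun h => hxW (mem_Wg.2 ⟨hxT, h⟩)
        exact mem_Wg.2 ⟨mul_mem (inv_mem hmT) hxT, h10⟩
  obtain ⟨m, hm, hmW⟩ := h8
  -- the elements of `Z_3` centralised by `m`
  have hcomm : ∀ z ∈ Z T 3, ⁅m, z⁆ ∈ Z T 1 := fun z hz => s.comm_core (s.M_le_core hm) (h3M hz)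
  have hcen1 : ∀ z ∈ Z T 1, ∀ t ∈ (T : Subgroup G), z * t = t * z := by
    rintro _ ⟨z, hz, rfl⟩ t ht
    exact congrArg Subtype.val (Hyp.mem_Z1 hz ⟨t, ht⟩)
  have h9 := RuBase.index_le_of_fun ((centralizer ({m} : Set G)).subgroupOf (Z T 3)) (β := ↥(Z T 1))
    (fun z => ⟨⁅m, (z : G)⁆, hcomm z z.2⟩) (by
      intro x y hxy
      rw [mem_subgroupOf, mem_centralizer_singleton_iff]
      have h1 : ⁅m, (x : G)⁆ = ⁅m, (y : G)⁆ := congrArg Subtype.val hxy
      have hx1 := hcomm x x.2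
      have e1 : m * (x : G) * m⁻¹ = ⁅m, (x : G)⁆ * x := by rw [commutatorElement_def]; group
      have e2 : m * (y : G) * m⁻¹ = ⁅m, (y : G)⁆ * y := by rw [commutatorElement_def]; group
      have e3 : m * ((x : G)⁻¹ * y) * m⁻¹ = (x : G)⁻¹ * y := by
        calc m * ((x : G)⁻¹ * y) * m⁻¹ = (m * (x : G) * m⁻¹)⁻¹ * (m * (y : G) * m⁻¹) := by group
          _ = (x : G)⁻¹ * (⁅m, (x : G)⁆⁻¹ * ⁅m, (y : G)⁆) * y := by rw [e1, e2]; group
          _ = (x : G)⁻¹ * y := by rw [h1]; group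
      show (x : G)⁻¹ * (y : G) * m = m * ((x : G)⁻¹ * (y : G))
      calc (x : G)⁻¹ * (y : G) * m = (m * ((x : G)⁻¹ * y) * m⁻¹) * m := by rw [e3]
        _ = m * ((x : G)⁻¹ * (y : G)) := by group)
  rw [s.toSet1.card_Z (by norm_num)] at h9
  have h10 := ((centralizer ({m} : Set G)).subgroupOf (Z T 3)).card_mul_index
  rw [s.toSet1.card_Z (by norm_num)] at h10
  have h11 : Nat.card ((centralizer ({m} : Set G)).subgroupOf (Z T 3)) ≤ Nat.card (Z T 1) := by
    apply Nat.card_le_card_of_injective (fun x : ↥((centralizer ({m} : Set G)).subgroupOf (Z T 3)) =>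
      (⟨((x : ↥(Z T 3)) : G), by
      apply hZM _ (h3M (x : ↥(Z T 3)).2)
      intro y hy
      have hxm : ((x : ↥(Z T 3)) : G) * m = m * ((x : ↥(Z T 3)) : G) := mem_centralizer_singleton_iff.1 x.2
      rcases hmW y hy with h12 | h12
      · exact s.toSet1.Wg_comm h12 (x : ↥(Z T 3)).2
      · have h13 := s.toSet1.Wg_comm h12 (x : ↥(Z T 3)).2
        calc ((x : ↥(Z T 3)) : G) * y = (((x : ↥(Z T 3)) : G) * m) * (m⁻¹ * y) := by group
          _ = m * (((x : ↥(Z T 3)) : G) * (m⁻¹ * y)) := by rw [hxm]; group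
          _ = y * ((x : ↥(Z T 3)) : G) := by rw [h13]; group⟩ : ↥(Z T 1)))
    intro a b hab
    exact Subtype.ext (Subtype.ext (congrArg (fun z : ↥(Z T 1) => (z : G)) hab))
  rw [s.toSet1.card_Z (by norm_num)] at h11
  have := Nat.mul_le_mul h11 h9
  rw [h10] at this
  norm_num at this

/-- **`M` has exponent two.** -/
theorem M_sq (s : Sit T W j) : ∀ x ∈ M T j, x ^ 2 = 1 := by
  have hMn : (M T j).Normal := M_normal
  let N : Subgroup G :=
    { carrier := {x | x ∈ M T j ∧ x ^ 2 = 1}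
      one_mem' := ⟨one_mem _, one_pow 2⟩
      mul_mem' := by
        rintro a b ⟨ha, ha'⟩ ⟨hb, hb'⟩
        refine ⟨mul_mem ha hb, ?_⟩
        rw [Commute.mul_pow (s.M_comm a ha b hb), ha', hb', one_mul]
      inv_mem' := by
        rintro a ⟨ha, ha'⟩
        exact ⟨inv_mem ha, by rw [inv_pow, ha', inv_one]⟩ }
  have hNn : N.Normal := by
    refine ⟨fun x hx g => ⟨hMn.conj_mem x hx.1 g, ?_⟩⟩
    rw [conj_pow, hx.2, mul_one, mul_inv_cancel]
  have h1 : Z T (j + 1) ≤ N := by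
    intro x hx
    refine ⟨Z_le_M hx, ?_⟩
    have hx3 : x ∈ Z T 3 := Z_mono (by have := s.hj; omega) hx
    obtain ⟨y, hy, rfl⟩ := hx3
    exact congrArg Subtype.val (s.h.sq_Z3 y hy)
  exact fun x hx => (M_le hNn h1 hx).2

theorem Z3_le_M (s : Sit T W j) : Z T 3 ≤ M T j := (Z_mono (by norm_num)).trans s.Z4_le_M

/-- `C = C_G(M)` -/
def C (T : Sylow 2 G) (j : ℕ) : Subgroup G := centralizer (M T j : Set G)

theorem C_normal : (C T j).Normal := by
  have hMn : (M T j).Normal := M_normal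
  unfold C
  infer_instance

theorem M_le_C (s : Sit T W j) : M T j ≤ C T j := by
  intro x hx
  unfold C
  rw [mem_centralizer_iff]
  exact fun y hy => s.M_comm y hy x hx

theorem inf_le_W (s : Sit T W j) : (T : Subgroup G) ⊓ C T j ≤ Wg W := by
  rintro x ⟨hxT, hxC⟩
  apply s.toSet1.mem_Wg_of hxT
  intro z hz
  exact mem_centralizer_iff.1 hxC z (s.Z3_le_M hz)

/-- **squares of elements of `T ∩ C` are in `Z_j`.** -/
theorem sq_C (s : Sit T W j) : ∀ x ∈ (T : Subgroup G) ⊓ C T j, x ^ 2 ∈ Z T j := by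
  have hMn : (M T j).Normal := M_normal
  have hCn : (C T j).Normal := C_normal
  set C₀ : Subgroup G := (T : Subgroup G) ⊓ C T j with hC₀
  let F : Subgroup G := closure {y | ∃ x ∈ C₀, y = x ^ 2}
  have hF3 : F ≤ Z T 3 := by
    rw [closure_le]
    rintro _ ⟨x, hx, rfl⟩
    obtain ⟨hxT, hxW⟩ := mem_Wg.1 (s.inf_le_W hx)
    exact ⟨_, s.h.sq_W_mem hxW, rfl⟩
  -- `F` is normal
  have hFn : F.Normal := by
    -- Frattini
    have hfr : ∀ g : G, ∃ c ∈ C T j, ∃ n ∈ normalizer (C₀ : Set G), g = n * c := by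
      intro g
      obtain ⟨S, hS⟩ := Cfsg.Agent.SylowL.CompFacts.exists_sylow T
        (show (C T j).IsSubnormal from hCn.isSubnormal)
      have h1 := Sylow.normalizer_sup_eq_top S
      have h2 : (S : Subgroup ↥(C T j)).map (C T j).subtype = C₀ := by
        rw [hS, hC₀, subgroupOf_map_subtype]
      rw [h2] at h1
      have hg : g ∈ normalizer (C₀ : Set G) ⊔ C T j := by rw [h1]; exact mem_top _
      rw [← SetLike.mem_coe, mul_normal] at hg
      obtain ⟨n, hn, c, hc, hnc⟩ := hg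
      exact ⟨c, hc, n, hn, hnc.symm⟩
    refine ⟨fun x hx g => ?_⟩
    obtain ⟨c, hc, n, hn, rfl⟩ := hfr g
    have h1 : c * x * c⁻¹ = x := by
      have h2 := mem_centralizer_iff.1 hc x (s.Z3_le_M (hF3 hx))
      rw [← h2, mul_inv_cancel_right]
    have e : n * c * x * (n * c)⁻¹ = n * (c * x * c⁻¹) * n⁻¹ := by group
    rw [e, h1]
    have h3 : F ≤ F.comap (MulAut.conj n).toMonoidHom := by
      rw [closure_le]
      rintro _ ⟨x, hx, rfl⟩
      apply Subgroup.subset_closure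
      refine ⟨n * x * n⁻¹, (mem_normalizer_iff.1 hn x).1 hx, ?_⟩
      show n * x ^ 2 * n⁻¹ = (n * x * n⁻¹) ^ 2
      rw [conj_pow]
    exact h3 hx
  have h1 : (T : Subgroup G) ⊓ F ≤ Z T j := by
    by_contra hcon
    have h2 := (s.Z4_le_M.trans (s.star hFn hcon)).trans hF3
    have h3 := Subgroup.card_le_of_le h2
    rw [s.toSet1.card_Z le_rfl, s.toSet1.card_Z (by norm_num)] at h3
    norm_num at h3
  intro x hx
  exact h1 ⟨pow_mem hx.1 2, Subgroup.subset_closure ⟨x, hx, rfl⟩⟩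

theorem card_C0_le (s : Sit T W j) : Nat.card ((T : Subgroup G) ⊓ C T j : Subgroup G) ≤ 2 ^ 7 :=
  s.toSet1.card_le_of_sq' (j := j) (by have := s.hj; omega) s.inf_le_W s.sq_C

theorem card_M_ge (s : Sit T W j) : 2 ^ 5 ≤ Nat.card (M T j) := by
  have hMn : (M T j).Normal := M_normal
  by_contra hlt
  obtain ⟨n, -, hn⟩ := s.toSet1.exists_pow s.M_le_T
  have h1 : n ≤ 4 := by
    by_contra hcon
    apply hlt
    rw [hn]
    exact Nat.pow_le_pow_right (by norm_num) (by omega)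
  have h2 : M T j ≤ Z T 4 := by
    have h7 := s.toSet1.le_Z_of (N := M T j) (fun t _ x hx => hMn.conj_mem x hx t) (j := 4) (by omega) (by
      rw [inf_eq_right.2 s.M_le_T, hn]
      exact Nat.pow_le_pow_right (by norm_num) h1)
    rwa [inf_eq_right.2 s.M_le_T] at h7
  have h3 := card_cent_Z4 s.h
  have h4 : Nat.card (W ⊓ centralizer (Zu ↥(T : Subgroup G) 4 : Set ↥(T : Subgroup G)) : Subgroup _) ≤
      Nat.card ((T : Subgroup G) ⊓ C T j : Subgroup G) := by
    apply Nat.card_le_card_of_injective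
      (fun x : ↥(W ⊓ centralizer (Zu ↥(T : Subgroup G) 4 : Set ↥(T : Subgroup G)) : Subgroup ↥(T : Subgroup G)) =>
      (⟨((x : ↥(T : Subgroup G)) : G), mem_inf.2 ⟨(x : ↥(T : Subgroup G)).2, mem_centralizer_iff.2 (by
      intro m hm
      obtain ⟨z, hz, rfl⟩ := h2 hm
      exact congrArg Subtype.val (mem_centralizer_iff.1 x.2.2 z hz))⟩⟩ : ↥((T : Subgroup G) ⊓ C T j : Subgroup G)))
    intro a b hab
    exact Subtype.ext (Subtype.ext (congrArg (fun z : ↥((T : Subgroup G) ⊓ C T j : Subgroup G) => (z : G)) hab))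
  have h5 := s.card_C0_le
  omega

end Sit

end Cfsg.Agent.H302.Rv
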