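import Mathlib
import Cfsg.Agent.H24.Fus

/-!
# Solvable quotients of groups whose Sylow normalizer is `P C(P)` (helper302)

`SN P` : every element of `N_G(P)` is a product of an element of `P` and one of `C_G(P)`.
`odd_of_solvable` : a solvable group with `SN P` without a subgroup of index 2 has odd order.
-/

set_option autoImplicit false

namespace Cfsg.Agent.H302.Rv

open Subgroup
open scoped commutatorElement

universe u

/-- `N_G(P) = P C_G(P)` -/
def SN {G : Type*} [Group G] (P : Subgroup G) : Prop :=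
  ∀ x ∈ normalizer (P : Set G), ∃ a ∈ P, ∃ b ∈ centralizer (P : Set G), x = a * b

section

variable {G : Type*} [Group G]

/-- A `2`-element normalising a Sylow `2`-subgroup lies in it. -/
theorem mem_of_two_elt [Finite G] (P : Sylow 2 G) {x : G} (hx : x ∈ normalizer ((P : Subgroup G) : Set G))
    {k : ℕ} (hk : x ^ 2 ^ k = 1) : x ∈ (P : Subgroup G) := by
  have h1 : IsPGroup 2 (zpowers x) := by
    intro y
    obtain ⟨n, hn⟩ := Subgroup.mem_zpowers_iff.1 y.2
    refine ⟨k, ?_⟩
    apply Subtype.ext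
    have h2 : (y : G) ^ 2 ^ k = 1 := by
      rw [← hn, ← zpow_natCast, ← zpow_mul, mul_comm, zpow_mul, zpow_natCast, hk, one_zpow]
    simpa using h2
  have h2 := h1.inf_normalizer_sylow P
  have h3 : x ∈ zpowers x ⊓ normalizer ((P : Subgroup G) : Set G) := ⟨mem_zpowers x, hx⟩
  have h4 : x ∈ zpowers x ⊓ (P : Subgroup G) := by
    rw [← h2]; exact h3
  exact h4.2

/-- If odd automorphisms of `P` are trivial then `N_G(P) = P C_G(P)`. -/
theorem SN.of_aut [Finite G] (P : Sylow 2 G)
    (hP : ∀ (α : MulAut ↥(P : Subgroup G)) (m : ℕ), Odd m → α ^ m = 1 → ∀ t, α t = t) : SN (P : Subgroup G) := by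
  intro x hx
  obtain ⟨k, m, hm, hkm⟩ := Nat.exists_eq_two_pow_mul_odd (orderOf_pos x).ne'
  -- Bezout
  have hcop : Nat.Coprime (2 ^ k) m := Nat.Coprime.pow_left _ (Nat.coprime_two_left.2 hm)
  obtain ⟨a, b, hab⟩ : ∃ a b : ℤ, a * 2 ^ k + b * m = 1 := by
    have h1 : IsCoprime ((2 ^ k : ℕ) : ℤ) (m : ℤ) := Nat.isCoprime_iff_coprime.2 hcop
    obtain ⟨a, b, hab⟩ := h1
    refine ⟨a, b, ?_⟩
    push_cast at hab
    exact hab
  have hord : x ^ (2 ^ k * m) = 1 := by rw [← hkm]; exact pow_orderOf_eq_one x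
  have hN : ∀ j : ℤ, x ^ j ∈ normalizer ((P : Subgroup G) : Set G) := fun j => zpow_mem hx j
  refine ⟨x ^ (b * m), ?_, x ^ (a * 2 ^ k), ?_, ?_⟩
  · apply mem_of_two_elt P (hN _) (k := k)
    rw [← zpow_natCast, ← zpow_mul]
    have : b * m * ((2 ^ k : ℕ) : ℤ) = ((2 ^ k * m : ℕ) : ℤ) * b := by push_cast; ring
    rw [this, zpow_mul, zpow_natCast, hord, one_zpow]
  · set y := x ^ (a * 2 ^ k) with hy
    have hyN : y ∈ normalizer ((P : Subgroup G) : Set G) := hN _
    have hym : y ^ m = 1 := by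
      rw [hy, ← zpow_natCast, ← zpow_mul]
      have : a * 2 ^ k * (m : ℤ) = ((2 ^ k * m : ℕ) : ℤ) * a := by push_cast; ring
      rw [this, zpow_mul, zpow_natCast, hord, one_zpow]
    rw [mem_centralizer_iff]
    intro t ht
    have h1 := hP ((P : Subgroup G).normalizerMonoidHom ⟨y, hyN⟩) m hm (by
      rw [← map_pow]
      have : (⟨y, hyN⟩ : ↥(normalizer ((P : Subgroup G) : Set G))) ^ m = 1 := Subtype.ext hym
      rw [this, map_one]) ⟨t, ht⟩
    have h2 := congrArg Subtype.val h1
    have h3 : y * t * y⁻¹ = t := h2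
    exact (mul_inv_eq_iff_eq_mul.1 h3).symm
  · rw [← zpow_add, add_comm, hab, zpow_one]

/-- `SN` passes to quotients. -/
theorem SN.map [Finite G] (P : Sylow 2 G) (hP : SN (P : Subgroup G)) (N : Subgroup G) [N.Normal] :
    SN ((P : Subgroup G).map (QuotientGroup.mk' N)) := by
  intro xb hxb
  obtain ⟨x, rfl⟩ := QuotientGroup.mk'_surjective N xb
  obtain ⟨n, hn, hnx⟩ := Cfsg.Agent.H24.Fus.exists_normalizer P N hxb
  obtain ⟨a, ha, b, hb, hab⟩ := hP _ hnx
  refine ⟨QuotientGroup.mk' N a, ⟨a, ha, rfl⟩, QuotientGroup.mk' N b, ?_, ?_⟩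
  · rw [mem_centralizer_iff]
    rintro _ ⟨p, hp, rfl⟩
    rw [← map_mul, ← map_mul, mem_centralizer_iff.1 hb p hp]
  · rw [← map_mul, ← hab, map_mul]
    have : QuotientGroup.mk' N n = 1 := (QuotientGroup.eq_one_iff n).2 hn
    rw [this, one_mul]

/-- A non-trivial finite `2`-group has a subgroup of index `2`. -/
theorem exists_index_two [Finite G] (hG : IsPGroup 2 G) (h1 : Nat.card G ≠ 1) : ∃ H : Subgroup G, H.index = 2 := by
  have : Fact (Nat.Prime 2) := ⟨Nat.prime_two⟩
  obtain ⟨n, hn⟩ := IsPGroup.iff_card.1 hG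
  have hn0 : n ≠ 0 := by
    rintro rfl
    exact h1 (by rw [hn]; rfl)
  obtain ⟨m, rfl⟩ := Nat.exists_eq_succ_of_ne_zero hn0
  obtain ⟨H, hH⟩ := Sylow.exists_subgroup_card_pow_prime (G := G) 2 (n := m) (by
    rw [hn]; exact pow_dvd_pow 2 (Nat.le_succ m))
  refine ⟨H, ?_⟩
  have h2 := H.card_mul_index
  rw [hH, hn, pow_succ] at h2
  exact Nat.eq_of_mul_eq_mul_left (by positivity) h2

/-- Burnside: if `N(P)` centralises `P` and there is no subgroup of index `2`, the order is odd. -/
theorem odd_of_burnside [Finite G] (P : Sylow 2 G)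
    (hP : normalizer ((P : Subgroup G) : Set G) ≤ centralizer ((P : Subgroup G) : Set G))
    (h2 : ∀ H : Subgroup G, H.index ≠ 2) : Odd (Nat.card G) := by
  have : Fact (Nat.Prime 2) := ⟨Nat.prime_two⟩
  have hc := MonoidHom.ker_transferSylow_isComplement' P hP
  by_contra hodd
  rw [Nat.not_odd_iff_even] at hodd
  have hP1 : Nat.card (P : Subgroup G) ≠ 1 := by
    intro h1
    have h3 := P.card_eq_multiplicity
    have h4 : 1 ≤ (Nat.card G).factorization 2 :=
      (Nat.Prime.dvd_iff_one_le_factorization Nat.prime_two Nat.card_pos.ne').1 hodd.two_dvd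
    have h5 : (2 : ℕ) ^ 1 ≤ 2 ^ (Nat.card G).factorization 2 := Nat.pow_le_pow_right (by norm_num) h4
    have h6 : Nat.card P = Nat.card (P : Subgroup G) := rfl
    rw [← h3, h6, h1] at h5
    norm_num at h5
  set K := (MonoidHom.transferSylow P hP).ker with hK
  have hKi : K.index = Nat.card (P : Subgroup G) := hc.symm.index_eq_card
  have hp : IsPGroup 2 (G ⧸ K) := by
    apply IsPGroup.iff_card.2
    obtain ⟨n, hn⟩ := IsPGroup.iff_card.1 P.2
    exact ⟨n, by rw [← hn]; exact hKi⟩
  obtain ⟨H, hH⟩ := exists_index_two hp (by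
    show Nat.card (G ⧸ K) ≠ 1
    have : Nat.card (G ⧸ K) = K.index := rfl
    rw [this, hKi]; exact hP1)
  apply h2 (H.comap (QuotientGroup.mk' K))
  rw [Subgroup.index_comap_of_surjective _ (QuotientGroup.mk'_surjective K), hH]

end

theorem no_index_two_quot {G : Type*} [Group G] (h2 : ∀ H : Subgroup G, H.index ≠ 2) (N : Subgroup G) [N.Normal] :
    ∀ H : Subgroup (G ⧸ N), H.index ≠ 2 := by
  intro H hH
  apply h2 (H.comap (QuotientGroup.mk' N))
  rw [Subgroup.index_comap_of_surjective _ (QuotientGroup.mk'_surjective N), hH]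

theorem odd_of_solvable_aux : ∀ (n : ℕ) (G : Type u) [Group G] [Finite G], Nat.card G ≤ n → Group.IsSolvable G →
    ∀ P : Sylow 2 G, SN (P : Subgroup G) → (∀ H : Subgroup G, H.index ≠ 2) → Odd (Nat.card G) := by
  intro n
  induction n with
  | zero =>
    intro G _ _ hn
    have : 0 < Nat.card G := Nat.card_pos
    omega
  | succ n ih =>
    intro G _ _ hn hs P hP h2
    have : Fact (Nat.Prime 2) := ⟨Nat.prime_two⟩
    by_cases h1 : Nat.card G = 1
    · rw [h1]; exact odd_one
    have hnt : Nontrivial G := by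
      rw [← Finite.one_lt_card_iff_nontrivial]
      have : 0 < Nat.card G := Nat.card_pos
      omega
    -- the last non-trivial term of the derived series
    obtain ⟨m, hm0, hm1⟩ : ∃ m, derivedSeries G m ≠ ⊥ ∧ derivedSeries G (m + 1) = ⊥ := by
      obtain ⟨k, hk⟩ := id hs
      classical
      have hex : ∃ k, derivedSeries G k = ⊥ := ⟨k, hk⟩
      have hf := Nat.find_spec hex
      have hne : Nat.find hex ≠ 0 := by
        intro h0
        rw [h0, derivedSeries_zero] at hf
        exact top_ne_bot hf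
      obtain ⟨m, hm⟩ := Nat.exists_eq_succ_of_ne_zero hne
      refine ⟨m, Nat.find_min hex (by omega), ?_⟩
      rw [← Nat.succ_eq_add_one, ← hm]; exact hf
    set D := derivedSeries G m with hD
    have hDn : D.Normal := derivedSeries_normal G m
    have hcomm : ∀ x ∈ D, ∀ y ∈ D, x * y = y * x := by
      intro x hx y hy
      have h3 : ⁅x, y⁆ ∈ derivedSeries G (m + 1) := by
        rw [derivedSeries_succ]
        exact commutator_mem_commutator hx hy
      rw [hm1, mem_bot, commutatorElement_eq_one_iff_mul_comm] at h3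
      exact h3
    have hlt : Nat.card (G ⧸ D) < Nat.card G := by
      have h3 := D.card_mul_index
      have h4 : 1 < Nat.card D := by
        rw [Finite.one_lt_card_iff_nontrivial, Subgroup.nontrivial_iff_ne_bot]; exact hm0
      have h5 : 0 < Nat.card (G ⧸ D) := Nat.card_pos
      have h6 : D.index = Nat.card (G ⧸ D) := rfl
      rw [h6] at h3
      nlinarith
    let PD : Sylow 2 (G ⧸ D) := P.mapSurjective (QuotientGroup.mk'_surjective D)
    have hodd : Odd (Nat.card (G ⧸ D)) := by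
      refine ih (G ⧸ D) (by omega) ?_ PD ?_ (no_index_two_quot h2 D)
      · exact Group.isSolvable_of_surjective (QuotientGroup.mk'_surjective D)
      · exact SN.map P hP D
    -- `P ≤ D`
    have hPD : (P : Subgroup G) ≤ D := by
      intro x hx
      rw [← QuotientGroup.eq_one_iff]
      obtain ⟨k, hk⟩ := P.2 ⟨x, hx⟩
      have h3 : x ^ 2 ^ k = 1 := congrArg Subtype.val hk
      have h4 : ((x : G ⧸ D)) ^ 2 ^ k = 1 := by rw [← QuotientGroup.mk_pow, h3]; rfl
      have h5 : (x : G ⧸ D) ^ Nat.card (G ⧸ D) = 1 := pow_card_eq_one'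
      have h6 : Nat.gcd (2 ^ k) (Nat.card (G ⧸ D)) = 1 :=
        Nat.Coprime.pow_left _ (Nat.coprime_two_left.2 hodd)
      have h7 := pow_gcd_eq_one.2 ⟨h4, h5⟩
      rwa [h6, pow_one] at h7
    have hPn : (P : Subgroup G).Normal := by
      refine ⟨fun x hx g => ?_⟩
      obtain ⟨k, hk⟩ := P.2 ⟨x, hx⟩
      have h3 : x ^ 2 ^ k = 1 := congrArg Subtype.val hk
      have h4 : g * x * g⁻¹ ∈ D := hDn.conj_mem x (hPD hx) g
      apply mem_of_two_elt P (k := k)
      · rw [mem_normalizer_iff]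
        intro y
        constructor
        · intro hy
          rw [hcomm _ h4 _ (hPD hy), mul_assoc, mul_inv_cancel, mul_one]; exact hy
        · intro hy
          have h5 := hcomm _ (inv_mem h4) _ (hPD hy)
          have h6 : y = (g * x * g⁻¹)⁻¹ * ((g * x * g⁻¹) * y * (g * x * g⁻¹)⁻¹) * (g * x * g⁻¹) := by group
          rw [h6, h5]
          have h7 : (g * x * g⁻¹) * y * (g * x * g⁻¹)⁻¹ * (g * x * g⁻¹)⁻¹ * (g * x * g⁻¹) =
            (g * x * g⁻¹) * y * (g * x * g⁻¹)⁻¹ := by group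
          rw [h7]
          exact hy
      · rw [conj_pow, h3]; group
    apply odd_of_burnside P ?_ h2
    intro x hx
    obtain ⟨a, ha, b, hb, rfl⟩ := hP x hx
    refine mul_mem ?_ hb
    rw [mem_centralizer_iff]
    intro y hy
    exact hcomm _ (hPD hy) _ (hPD ha)

/-- **Solvable groups with `SN P` and no subgroup of index two have odd order.** -/
theorem odd_of_solvable {G : Type u} [Group G] [Finite G] (hs : Group.IsSolvable G) (P : Sylow 2 G)
    (hP : SN (P : Subgroup G)) (h2 : ∀ H : Subgroup G, H.index ≠ 2) : Odd (Nat.card G) :=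
  odd_of_solvable_aux _ G le_rfl hs P hP h2

/-- The form used: solvable quotients. -/
theorem odd_quot {G : Type u} [Group G] [Finite G] (P : Sylow 2 G) (hP : SN (P : Subgroup G))
    (h2 : ∀ H : Subgroup G, H.index ≠ 2) (N : Subgroup G) [N.Normal] (hs : Group.IsSolvable (G ⧸ N)) :
    Odd (Nat.card (G ⧸ N)) :=
  odd_of_solvable hs (P.mapSurjective (QuotientGroup.mk'_surjective N)) (SN.map P hP N) (no_index_two_quot h2 N)

/-- If `f : G → M` has solvable image then `P` is in the kernel. -/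
theorem le_ker {G : Type u} [Group G] [Finite G] (P : Sylow 2 G) (hP : SN (P : Subgroup G))
    (h2 : ∀ H : Subgroup G, H.index ≠ 2) {M : Type*} [Group M] (f : G →* M) (hs : Group.IsSolvable f.range) :
    (P : Subgroup G) ≤ f.ker := by
  have hs' : Group.IsSolvable (G ⧸ f.ker) :=
    Group.isSolvable_of_isSolvable_injective (f := (QuotientGroup.quotientKerEquivRange f).toMonoidHom)
      (QuotientGroup.quotientKerEquivRange f).injective
  have hodd := odd_quot P hP h2 f.ker hs'
  intro x hx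
  rw [← QuotientGroup.eq_one_iff]
  obtain ⟨k, hk⟩ := P.2 ⟨x, hx⟩
  have h3 : x ^ 2 ^ k = 1 := congrArg Subtype.val hk
  have h4 : ((x : G ⧸ f.ker)) ^ 2 ^ k = 1 := by rw [← QuotientGroup.mk_pow, h3]; rfl
  have h5 : (x : G ⧸ f.ker) ^ Nat.card (G ⧸ f.ker) = 1 := pow_card_eq_one'
  have h6 : Nat.gcd (2 ^ k) (Nat.card (G ⧸ f.ker)) = 1 :=
    Nat.Coprime.pow_left _ (Nat.coprime_two_left.2 hodd)
  have h7 := pow_gcd_eq_one.2 ⟨h4, h5⟩
  rwa [h6, pow_one] at h7

end Cfsg.Agent.H302.Rv
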