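import Cfsg.Agent.H302.RvGen
import Cfsg.Agent.H302.RvIndec
import Cfsg.Agent.H302.RvOdd
import Cfsg.Agent.H303.RsCongr
import Cfsg.Agent.H303.RuNorm
import Cfsg.Agent.TwoFusion.FStarControl
import Cfsg.Agent.SylowL.CompFacts
import Cfsg.Agent.SignalizersComponents.BalanceAux
import Cfsg.Prelude.Def_Spor_Ru

/-!
# Groups of Rudvalis type with `|O_2(G)| ≤ 2` (helper302)
-/

set_option autoImplicit false
set_option linter.style.haveILetI false
set_option linter.unnecessarySimpa false
set_option linter.unusedSectionVars false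

namespace Cfsg.Agent.H302.Rv

open Subgroup Cfsg Cfsg.Agent.H303 Cfsg.Agent.H303.RuMain
open Cfsg.Agent.SignalizersComponents
open Cfsg.Agent.SignalizersComponents.Components
open scoped commutatorElement

universe u

local notation "Zu" => Subgroup.upperCentralSeries

section general

variable {G : Type*} [Group G]

theorem eq_of_card_le {H : Type*} [Group H] [Finite H] (hc : Nat.card H ≤ 2) {a b : H} (ha : a ≠ 1) (hb : b ≠ 1) :
    a = b := by
  classical
  by_contra hab
  have := Fintype.ofFinite H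
  have h4 : ({1, a, b} : Finset H).card = 3 := by
    rw [Finset.card_insert_of_notMem, Finset.card_insert_of_notMem, Finset.card_singleton]
    · simpa using hab
    · simp only [Finset.mem_insert, Finset.mem_singleton, not_or]
      exact ⟨fun h5 => ha h5.symm, fun h5 => hb h5.symm⟩
  have h5 := Finset.card_le_univ ({1, a, b} : Finset H)
  rw [h4, ← Nat.card_eq_fintype_card] at h5
  omega

/-- the perfect residual -/
theorem exists_residual [Finite G] : ∃ D : Subgroup G, D.Normal ∧ ⁅D, D⁆ = D ∧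
    (∀ _ : D.Normal, Group.IsSolvable (G ⧸ D)) := by
  have hanti : Antitone (derivedSeries G) := derivedSeries_antitone G
  have hst : ∃ n, derivedSeries G (n + 1) = derivedSeries G n := by
    by_contra hcon
    push Not at hcon
    have h1 : StrictAnti (derivedSeries G) := strictAnti_nat_of_succ_lt fun n =>
      lt_of_le_of_ne (hanti (Nat.le_succ n)) (hcon n)
    exact not_injective_infinite_finite _ h1.injective
  obtain ⟨n, hn⟩ := hst
  refine ⟨derivedSeries G n, derivedSeries_normal G n, hn, fun _ => ?_⟩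
  rw [Group.isSolvable_def]
  refine ⟨n, ?_⟩
  rw [← map_derivedSeries_eq (f := QuotientGroup.mk' (derivedSeries G n)) (QuotientGroup.mk'_surjective _) n,
    Subgroup.map_eq_bot_iff, QuotientGroup.ker_mk']

end general

/-- the standing hypotheses -/
structure Set1 {G : Type u} [Group G] [Finite G] (T : Sylow 2 G) (W : Subgroup ↥(T : Subgroup G)) : Prop where
  h : Hyp ↥(T : Subgroup G) W
  core : oddCore G = ⊥
  two : ∀ H : Subgroup G, H.index ≠ 2
  inp : Inp.{u}

namespace Set1

variable {G : Type u} [Group G] [Finite G] {T : Sylow 2 G} {W : Subgroup ↥(T : Subgroup G)}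

theorem sn (s : Set1 T W) : SN (T : Subgroup G) :=
  SN.of_aut T (fun α _ hm hα t => s.h.aut_trivial α hm hα t)

/-- subgroups of `T` normalised by `T` -/
theorem norm_of {N : Subgroup G} (hN : ∀ t ∈ (T : Subgroup G), ∀ x ∈ N, t * x * t⁻¹ ∈ N) :
    (N.subgroupOf (T : Subgroup G)).Normal :=
  ⟨fun n hn g => hN g g.2 n hn⟩

/-- `Z_j`, as a subgroup of `G` -/
def Z (T : Sylow 2 G) (j : ℕ) : Subgroup G := (Zu ↥(T : Subgroup G) j).map (T : Subgroup G).subtype

theorem mem_Z {j : ℕ} {x : G} : x ∈ Z T j ↔ ∃ hx : x ∈ (T : Subgroup G), (⟨x, hx⟩ : ↥(T : Subgroup G)) ∈ Zu _ j := by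
  constructor
  · rintro ⟨y, hy, rfl⟩
    exact ⟨y.2, hy⟩
  · rintro ⟨hx, hx'⟩
    exact ⟨⟨x, hx⟩, hx', rfl⟩

theorem Z_le {j : ℕ} : Z T j ≤ (T : Subgroup G) := by
  rintro _ ⟨y, -, rfl⟩
  exact y.2

theorem card_Z (s : Set1 T W) {j : ℕ} (hj : j ≤ 4) : Nat.card (Z T j) = 2 ^ j := by
  rw [← s.h.cardZ j hj]
  exact Subgroup.card_map_of_injective (T : Subgroup G).subtype_injective

theorem card_T (s : Set1 T W) : Nat.card (T : Subgroup G) = 2 ^ 14 := s.h.orders.2.2.1

/-- a `T`-invariant subgroup of order at least `2^j` contains `Z_j` -/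
theorem Z_le_of (s : Set1 T W) {N : Subgroup G} (hN : ∀ t ∈ (T : Subgroup G), ∀ x ∈ N, t * x * t⁻¹ ∈ N) {j : ℕ}
    (hj : j ≤ 4) (hc : 2 ^ j ≤ Nat.card ((T : Subgroup G) ⊓ N : Subgroup G)) : Z T j ≤ N := by
  have h1 : Nat.card (N.subgroupOf (T : Subgroup G)) = Nat.card ((T : Subgroup G) ⊓ N : Subgroup G) :=
    Nat.card_congr ⟨fun x => ⟨x, (x : ↥(T : Subgroup G)).2, x.2⟩, fun x => ⟨⟨x, x.2.1⟩, x.2.2⟩, fun x => rfl, fun x => rfl⟩
  have h2 := Zj_le s.h (norm_of hN) hj (by rw [h1]; exact hc)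
  rintro _ ⟨y, hy, rfl⟩
  exact h2 hy

theorem fitting_eq (s : Set1 T W) : fittingSubgroup G = pCore 2 G := by
  have : Fact (Nat.Prime 2) := ⟨Nat.prime_two⟩
  exact BalanceAux.fitting_eq_pCore 2 s.core

theorem pCore_le : pCore 2 G ≤ (T : Subgroup G) := by
  have : Fact (Nat.Prime 2) := ⟨Nat.prime_two⟩
  exact Lib.Cores.pCore_le_sylow T

end Set1

open Set1

/-- the case `O_2(G) ≤ Z_1` -/
structure One {G : Type u} [Group G] [Finite G] (T : Sylow 2 G) (W : Subgroup ↥(T : Subgroup G)) : Prop extends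
    Set1 T W where
  le : pCore 2 G ≤ Z T 1

namespace One

variable {G : Type u} [Group G] [Finite G] {T : Sylow 2 G} {W : Subgroup ↥(T : Subgroup G)}

/-- `O_2(G)` is central. -/
theorem central (s : One T W) {x : G} (hx : x ∈ pCore 2 G) (g : G) : g * x = x * g := by
  have hn : (pCore 2 G).Normal := Lib.Cores.pCore_normal 2
  have hc : Nat.card (pCore 2 G) ≤ 2 := by
    calc Nat.card (pCore 2 G) ≤ Nat.card (Z T 1) := Subgroup.card_le_of_le s.le
      _ = 2 := s.toSet1.card_Z (by norm_num)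
  by_cases hx1 : x = 1
  · rw [hx1, mul_one, one_mul]
  · have h1 : g * x * g⁻¹ ∈ pCore 2 G := hn.conj_mem x hx g
    have h2 : g * x * g⁻¹ ≠ 1 := by
      intro h2
      exact hx1 (conj_eq_one_iff.1 h2)
    have h3 : (⟨g * x * g⁻¹, h1⟩ : pCore 2 G) = ⟨x, hx⟩ :=
      eq_of_card_le hc (fun h3 => h2 (congrArg Subtype.val h3)) (fun h3 => hx1 (congrArg Subtype.val h3))
    have h4 : g * x * g⁻¹ = x := congrArg Subtype.val h3
    calc g * x = (g * x * g⁻¹) * g := by group
      _ = x * g := by rw [h4]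

/-- `C_G(E(G)) = O_2(G)` -/
theorem cent_le (s : One T W) {x : G} (hx : ∀ K : Subgroup G, IsComponent K → ∀ k ∈ K, k * x = x * k) :
    x ∈ pCore 2 G := by
  rw [← s.toSet1.fitting_eq]
  apply Cfsg.Agent.TwoFusion.FStarControl.centralizer_genFitting_le_fitting
  have h1 : generalizedFittingSubgroup G ≤ centralizer ({x} : Set G) := by
    unfold generalizedFittingSubgroup
    refine sup_le ?_ ?_
    · rw [layer_le_iff]
      intro K hK k hk
      rw [mem_centralizer_singleton_iff]
      exact hx K hK k hk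
    · rw [s.toSet1.fitting_eq]
      intro y hy
      rw [mem_centralizer_singleton_iff]
      exact (s.central hy x).symm
  rw [mem_centralizer_iff]
  intro y hy
  exact mem_centralizer_singleton_iff.1 (h1 hy)

/-- the subgroup generated by the `T`-conjugates of `K` -/
def span (T : Sylow 2 G) (K : Subgroup G) : Subgroup G :=
  ⨆ t : ↥(T : Subgroup G), K.map (MulAut.conj (t : G)).toMonoidHom

theorem le_span (K : Subgroup G) : K ≤ span T K := by
  refine le_trans ?_ (le_iSup (fun t : ↥(T : Subgroup G) => K.map (MulAut.conj (t : G)).toMonoidHom) 1)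
  intro x hx
  exact ⟨x, hx, by simp⟩

theorem span_inv (K : Subgroup G) : ∀ t ∈ (T : Subgroup G), ∀ x ∈ span T K, t * x * t⁻¹ ∈ span T K := by
  intro t ht
  have h1 : span T K ≤ (span T K).comap (MulAut.conj t).toMonoidHom := by
    refine iSup_le fun s => ?_
    rintro _ ⟨y, hy, rfl⟩
    rw [mem_comap]
    refine le_iSup (fun t : ↥(T : Subgroup G) => K.map (MulAut.conj (t : G)).toMonoidHom) (⟨t, ht⟩ * s) ?_
    refine ⟨y, hy, ?_⟩
    show (((⟨t, ht⟩ * s : ↥(T : Subgroup G)) : G)) * y * (((⟨t, ht⟩ * s : ↥(T : Subgroup G)) : G))⁻¹ =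
      t * ((s : G) * y * (s : G)⁻¹) * t⁻¹
    rw [Subgroup.coe_mul]; group
  intro x hx
  exact h1 hx

/-- the orbit relation -/
def Rel (T : Sylow 2 G) (K L : Subgroup G) : Prop := ∃ t ∈ (T : Subgroup G), L = K.map (MulAut.conj t).toMonoidHom

theorem map_conj_mul (K : Subgroup G) (a b : G) : (K.map (MulAut.conj b).toMonoidHom).map (MulAut.conj a).toMonoidHom =
    K.map (MulAut.conj (a * b)).toMonoidHom := by
  rw [map_map]
  congr 1
  ext x
  show a * (b * x * b⁻¹) * a⁻¹ = a * b * x * (a * b)⁻¹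
  group

theorem comm_span {K L M : Subgroup G} (_hK : IsComponent K) (hL : IsComponent L) (hM : IsComponent M)
    (h1 : ¬ Rel T L M) : ∀ x ∈ span T L, ∀ y ∈ M, y * x = x * y := by
  have h2 : span T L ≤ centralizer (M : Set G) := by
    refine iSup_le fun t => ?_
    refine component_le_centralizer_of_ne (isComponent_conj (t : G) hL) hM ?_
    intro h3
    exact h1 ⟨t, t.2, h3.symm⟩
  intro x hx y hy
  exact mem_centralizer_iff.1 (h2 hx) y hy

/-- **`T` is transitive on the components.** -/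
theorem transitive (s : One T W) {K L : Subgroup G} (hK : IsComponent K) (hL : IsComponent L) : Rel T K L := by
  by_contra hcon
  have : Fact (Nat.Prime 2) := ⟨Nat.prime_two⟩
  have key : ∀ M : Subgroup G, IsComponent M → Z T 2 ≤ span T M := by
    intro M hM
    apply s.toSet1.Z_le_of (span_inv M) (by norm_num)
    obtain ⟨P, hP⟩ := Cfsg.Agent.SylowL.CompFacts.exists_sylow T hM.1
    have h1 : 4 ∣ Nat.card P := by
      have h2 : 4 ∣ Nat.card M := (four_dvd hM.2).trans (Subgroup.card_quotient_dvd_card _)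
      have h3 : (2 : ℕ) ^ 2 ∣ Nat.card M := h2
      exact P.pow_dvd_card_of_pow_dvd_card h3
    have h2 : Nat.card P ≤ Nat.card ((T : Subgroup G) ⊓ span T M : Subgroup G) := by
      apply Nat.card_le_card_of_injective (fun x : ↥P => (⟨((x : ↥M) : G), by
        have h3 : (x : ↥M) ∈ (P : Subgroup ↥M) := x.2
        rw [hP] at h3
        exact ⟨h3, le_span M (x : ↥M).2⟩⟩ : ↥((T : Subgroup G) ⊓ span T M : Subgroup G)))
      intro a b hab
      exact Subtype.ext (Subtype.ext (congrArg (fun z : ↥((T : Subgroup G) ⊓ span T M : Subgroup G) => (z : G)) hab))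
    exact (Nat.le_of_dvd Nat.card_pos h1).trans h2
  have hKs := key K hK
  have hLs := key L hL
  have h1 : Z T 2 ≤ pCore 2 G := by
    intro x hx
    apply s.cent_le
    intro M hM k hk
    by_cases hMK : Rel T K M
    · -- `M` is not in the orbit of `L`
      refine comm_span hK hL hM ?_ x (hLs hx) k hk
      rintro ⟨t, ht, rfl⟩
      obtain ⟨t', ht', h2⟩ := hMK
      apply hcon
      refine ⟨t⁻¹ * t', mul_mem (inv_mem ht) ht', ?_⟩
      rw [← map_conj_mul, ← h2, map_conj_mul, inv_mul_cancel]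
      have : (MulAut.conj (1 : G)).toMonoidHom = MonoidHom.id G := by
        ext x; simp
      rw [this, map_id]
    · exact comm_span hL hK hM hMK x (hKs hx) k hk
  have h2 := Subgroup.card_le_of_le (h1.trans s.le)
  rw [s.toSet1.card_Z (by norm_num), s.toSet1.card_Z (by norm_num)] at h2
  norm_num at h2

theorem exists_component (s : One T W) : ∃ K : Subgroup G, IsComponent K := by
  by_contra hno
  push Not at hno
  have h1 : (⊤ : Subgroup G) ≤ pCore 2 G := by
    intro x _
    exact s.cent_le fun K hK => (hno K hK).elim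
  have h2 := Subgroup.card_le_of_le (h1.trans s.le)
  rw [s.toSet1.card_Z (by norm_num), Subgroup.card_top] at h2
  have h3 := Nat.le_of_dvd Nat.card_pos (Subgroup.card_subgroup_dvd_card (T : Subgroup G))
  rw [s.toSet1.card_T] at h3
  omega

/-- at most four components -/
theorem card_le (s : One T W) : Nat.card {K : Subgroup G // IsComponent K} ≤ 4 := by
  have : Fact (Nat.Prime 2) := ⟨Nat.prime_two⟩
  obtain ⟨K₀, hK₀⟩ := s.exists_component
  let _act : MulAction ↥(T : Subgroup G) {K : Subgroup G // IsComponent K} :=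
    MulAction.compHom _ ((compPerm G).comp (T : Subgroup G).subtype)
  have htr : MulAction.IsPretransitive ↥(T : Subgroup G) {K : Subgroup G // IsComponent K} := by
    refine ⟨fun K L => ?_⟩
    obtain ⟨t, ht, h1⟩ := s.transitive K.2 L.2
    exact ⟨⟨t, ht⟩, Subtype.ext h1.symm⟩
  have h1 := MulAction.index_stabilizer_of_transitive ↥(T : Subgroup G) (⟨K₀, hK₀⟩ : {K : Subgroup G // IsComponent K})
  have h2 : Nat.card {K : Subgroup G // IsComponent K} ∣ 2 ^ 14 := by
    rw [← s.toSet1.card_T, ← h1]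
    exact Subgroup.index_dvd_card _
  have h3 := four_pow_card_dvd (X := G)
  set n := Nat.card {K : Subgroup G // IsComponent K} with hn
  have h4 : n ≤ 7 := by
    have h5 : (4 : ℕ) ^ n ∣ 2 ^ 14 := by
      have h6 : (4 : ℕ) ^ n = 2 ^ (2 * n) := by rw [pow_mul]; norm_num
      rw [h6] at h3 ⊢
      rw [← s.toSet1.card_T]
      exact T.pow_dvd_card_of_pow_dvd_card h3
    have h6 : (4 : ℕ) ^ n = 2 ^ (2 * n) := by rw [pow_mul]; norm_num
    rw [h6] at h5
    have := (Nat.pow_dvd_pow_iff_le_right (by norm_num : 1 < 2)).1 h5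
    omega
  obtain ⟨k, -, hk⟩ := (Nat.dvd_prime_pow Nat.prime_two).1 h2
  rw [hk] at h4 ⊢
  have h5 : k < 3 := by
    by_contra hcon
    push Not at hcon
    have := Nat.pow_le_pow_right (show 0 < 2 by norm_num) hcon
    omega
  interval_cases k <;> norm_num

/-- **There is just one component and `T ≤ K O_2(G)`.** -/
theorem main (s : One T W) : ∃ K : Subgroup G, K.Normal ∧ IsComponent K ∧ centralizer (K : Set G) ≤ pCore 2 G ∧
    ∀ t ∈ (T : Subgroup G), ∃ k ∈ K, ∃ c ∈ pCore 2 G, t = k * c := by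
  obtain ⟨D, hDn, hDD, hDs⟩ := exists_residual (G := G)
  have hs := hDs hDn
  have hTD : (T : Subgroup G) ≤ D := by
    have h1 := le_ker T s.toSet1.sn s.two (QuotientGroup.mk' D) (by infer_instance)
    rwa [QuotientGroup.ker_mk'] at h1
  obtain ⟨K, hK⟩ := s.exists_component
  have hDK : ∀ L : Subgroup G, IsComponent L → D ≤ normalizer (L : Set G) := fun L hL =>
    le_normalizer_of_card s.card_le hDD hL
  have huniq : ∀ L : Subgroup G, IsComponent L → L = K := by
    intro L hL
    obtain ⟨t, ht, rfl⟩ := s.transitive hK hL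
    have h1 := hDK K hK (hTD ht)
    ext x
    constructor
    · rintro ⟨y, hy, rfl⟩
      exact (mem_normalizer_iff.1 h1 y).1 hy
    · intro hx
      refine ⟨t⁻¹ * x * t, ?_, ?_⟩
      · rw [SetLike.mem_coe, mem_normalizer_iff.1 h1]
        have e : t * (t⁻¹ * x * t) * t⁻¹ = x := by group
        rw [e]; exact hx
      · show t * (t⁻¹ * x * t) * t⁻¹ = x
        group
  have hKn : K.Normal := by
    refine ⟨fun k hk g => ?_⟩
    have h1 := huniq _ (isComponent_conj g hK)
    rw [← h1]
    exact ⟨k, hk, rfl⟩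
  have hcent : centralizer (K : Set G) ≤ pCore 2 G := by
    intro x hx
    apply s.cent_le
    intro L hL k hk
    rw [huniq L hL] at hk
    exact mem_centralizer_iff.1 hx k hk
  refine ⟨K, hKn, hK, hcent, fun t ht => ?_⟩
  obtain ⟨j, hj, c, hc, h1⟩ := split s.inp hK.2 hDD (hDK K hK) (hTD ht)
  exact ⟨j, hj, c, hcent hc, h1⟩

end One

end Cfsg.Agent.H302.Rv
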