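import Cfsg.Agent.Transfer.ElemAbAut
import Cfsg.Agent.Lib.SolvableMinNormal
import Cfsg.Agent.SylowL5.TypeAGen

/-!
# Groups of odd order normalised in `GL_8(2)` (helper302)
-/

set_option autoImplicit false
set_option linter.style.haveILetI false
set_option linter.unnecessarySimpa false
set_option linter.unusedSectionVars false

namespace Cfsg.Agent.H302.Rv

open Subgroup

section

variable {V : Type*} [CommGroup V] [Finite V] {X : Type*} [Group X] [Finite X] (f : X →* MulAut V)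

/-- the norm map -/
noncomputable def nm (Q : Subgroup X) : V →* V := by
  classical
  exact
  { toFun := fun v => ∏ᶠ q : ↥Q, f q v
    map_one' := by simp
    map_mul' := by
      intro a b
      have := Fintype.ofFinite ↥Q
      rw [finprod_eq_prod_of_fintype, finprod_eq_prod_of_fintype, finprod_eq_prod_of_fintype,
        ← Finset.prod_mul_distrib]
      exact Finset.prod_congr rfl fun q _ => map_mul (f q) a b }

theorem nm_apply (Q : Subgroup X) (v : V) : nm f Q v = ∏ᶠ q : ↥Q, f q v := rfl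

/-- the norm map commutes with the action -/
theorem nm_comm {Q : Subgroup X} (hQ : Q.Normal) (x : X) (v : V) : nm f Q (f x v) = f x (nm f Q v) := by
  have := Fintype.ofFinite ↥Q
  rw [nm_apply, nm_apply, finprod_eq_prod_of_fintype, finprod_eq_prod_of_fintype, map_prod]
  let e : ↥Q ≃ ↥Q := (MulAut.conjNormal (H := Q) x).toEquiv
  rw [← e.prod_comp]
  refine Finset.prod_congr rfl fun q _ => ?_
  have h1 : ((e q : ↥Q) : X) = x * q * x⁻¹ := rfl
  rw [h1, map_mul, map_mul, map_inv]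
  show (f x) ((f q) ((f x)⁻¹ (f x v))) = _
  rw [MulAut.inv_apply_self]

theorem fix_nm {Q : Subgroup X} {q : X} (hq : q ∈ Q) (v : V) : f q (nm f Q v) = nm f Q v := by
  have := Fintype.ofFinite ↥Q
  rw [nm_apply, finprod_eq_prod_of_fintype, map_prod]
  let e : ↥Q ≃ ↥Q := Equiv.mulLeft ⟨q, hq⟩
  rw [← e.prod_comp (fun q' : ↥Q => f q' v)]
  refine Finset.prod_congr rfl fun q' _ => ?_
  have h1 : ((e q' : ↥Q) : X) = q * q' := rfl
  rw [h1, map_mul]
  rfl

theorem nm_of_fix {Q : Subgroup X} {v : V} (hv : ∀ q ∈ Q, f q v = v) : nm f Q v = v ^ Nat.card Q := by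
  have := Fintype.ofFinite ↥Q
  rw [nm_apply, finprod_eq_prod_of_fintype, Finset.prod_congr rfl (fun (q : ↥Q) _ => hv (q : X) q.2),
    Finset.prod_const, Finset.card_univ, Nat.card_eq_fintype_card]

/-- If every invariant subgroup contains `z ≠ 1`, then a normal odd subgroup has no fixed points. -/
theorem fix_eq_one (hf : Function.Injective f) (hsq : ∀ v : V, v * v = 1) {z : V} (hz : z ≠ 1)
    (hzU : ∀ U : Subgroup V, U ≠ ⊥ → (∀ x : X, ∀ u ∈ U, f x u ∈ U) → z ∈ U) {Q : Subgroup X} (hQ : Q.Normal)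
    (hodd : Odd (Nat.card Q)) (hQ1 : Q ≠ ⊥) {v : V} (hv : ∀ q ∈ Q, f q v = v) : v = 1 := by
  by_contra hv1
  -- the fixed points
  let U₁ : Subgroup V :=
    { carrier := {v | ∀ q ∈ Q, f q v = v}
      one_mem' := fun q _ => map_one _
      mul_mem' := fun {a b} ha hb q hq => by rw [map_mul, ha q hq, hb q hq]
      inv_mem' := fun {a} ha q hq => by rw [map_inv, ha q hq] }
  have h1 : z ∈ U₁ := by
    apply hzU
    · intro h
      have h2 : v ∈ U₁ := hv
      rw [h, mem_bot] at h2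
      exact hv1 h2
    · intro x u hu q hq
      have h2 : x⁻¹ * q * x ∈ Q := by simpa using hQ.conj_mem q hq x⁻¹
      have h3 : f (x⁻¹ * q * x) u = u := hu _ h2
      have h4 : q * x = x * (x⁻¹ * q * x) := by group
      calc f q (f x u) = f (q * x) u := by rw [map_mul]; rfl
        _ = f x (f (x⁻¹ * q * x) u) := by rw [h4, map_mul]; rfl
        _ = f x u := by rw [h3]
  have h2 : z ∈ (nm f Q).ker := by
    apply hzU
    · intro h
      apply hQ1
      rw [eq_bot_iff]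
      intro q hq
      rw [mem_bot]
      apply hf
      rw [map_one]
      ext w
      rw [MulAut.one_apply]
      have h3 : Function.Injective (nm f Q) := (MonoidHom.ker_eq_bot_iff _).1 h
      obtain ⟨w', rfl⟩ := (Finite.injective_iff_surjective.1 h3) w
      exact fix_nm f hq w'
    · intro x u hu
      rw [MonoidHom.mem_ker] at hu ⊢
      rw [nm_comm f hQ, hu, map_one]
  have h3 : z ^ Nat.card Q = 1 := by
    rw [← nm_of_fix f h1]
    exact h2
  apply hz
  obtain ⟨k, hk⟩ := hodd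
  rw [hk, pow_add, pow_mul, pow_two, hsq, one_pow, one_mul, pow_one] at h3
  exact h3

/-- elementary abelian normal subgroups -/
theorem exists_elem {R : Subgroup X} (hR : R.Normal) (hRs : Group.IsSolvable ↥R) (hR1 : R ≠ ⊥) :
    ∃ (r : ℕ) (Q : Subgroup X), r.Prime ∧ Q.Normal ∧ Q ≤ R ∧ Q ≠ ⊥ ∧ (∀ x ∈ Q, ∀ y ∈ Q, x * y = y * x) ∧
      (∀ x ∈ Q, x ^ r = 1) := by
  have : Nontrivial ↥R := (Subgroup.nontrivial_iff_ne_bot R).2 hR1
  obtain ⟨r, hr, N, hN, hNc, hNp, hN1⟩ := Cfsg.Agent.Lib.SolvableMinNormal.exists_characteristic_pgroup (G := ↥R)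
  have hcomm : ∀ x ∈ N.map R.subtype, ∀ y ∈ N.map R.subtype, x * y = y * x := by
    rintro _ ⟨x, hx, rfl⟩ _ ⟨y, hy, rfl⟩
    have h1 := hNc.is_comm.comm ⟨x, hx⟩ ⟨y, hy⟩
    exact congrArg (fun w : ↥N => ((w : ↥R) : X)) h1
  have hMn : (N.map R.subtype).Normal := inferInstance
  let Q : Subgroup X :=
    { carrier := {x | x ∈ N.map R.subtype ∧ x ^ r = 1}
      one_mem' := ⟨one_mem _, one_pow _⟩
      mul_mem' := by
        rintro a b ⟨ha, ha'⟩ ⟨hb, hb'⟩
        refine ⟨mul_mem ha hb, ?_⟩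
        rw [Commute.mul_pow (hcomm a ha b hb), ha', hb', one_mul]
      inv_mem' := by
        rintro a ⟨ha, ha'⟩
        exact ⟨inv_mem ha, by rw [inv_pow, ha', inv_one]⟩ }
  refine ⟨r, Q, hr, ?_, ?_, ?_, ?_, ?_⟩
  · refine ⟨fun x hx g => ⟨hMn.conj_mem x hx.1 g, ?_⟩⟩
    rw [conj_pow, hx.2, mul_one, mul_inv_cancel]
  · rintro x ⟨⟨y, -, rfl⟩, -⟩
    exact y.2
  · intro h
    have : Fact r.Prime := ⟨hr⟩
    have : Nontrivial ↥N := (Subgroup.nontrivial_iff_ne_bot N).2 hN1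
    have hdvd : r ∣ Nat.card ↥N := by
      obtain ⟨n, hn⟩ := IsPGroup.iff_card.1 hNp
      rw [hn]
      apply dvd_pow_self
      rintro rfl
      rw [pow_zero] at hn
      exact (Finite.one_lt_card_iff_nontrivial.2 ‹_›).ne' hn
    obtain ⟨x, hx⟩ := exists_prime_orderOf_dvd_card' (G := ↥N) r hdvd
    have h1 : ((x : ↥R) : X) ∈ Q := by
      refine ⟨⟨x, x.2, rfl⟩, ?_⟩
      have h2 := pow_orderOf_eq_one x
      rw [hx] at h2
      exact congrArg (fun w : ↥N => ((w : ↥R) : X)) h2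
    rw [h, mem_bot] at h1
    have h2 : x = 1 := Subtype.ext (Subtype.ext h1)
    rw [h2, orderOf_one] at hx
    exact hr.one_lt.ne hx
  · exact fun x hx y hy => hcomm x hx.1 y hy.1
  · exact fun x hx => hx.2

theorem prod_eight : ∏ i : Fin 8, (2 ^ 8 - 2 ^ (i : ℕ)) = 2 ^ 28 * 3 ^ 5 * 5 ^ 2 * 7 ^ 2 * 17 * 31 * 127 := by
  decide +kernel

theorem not_seven : ∀ r ∈ ({3, 5, 17} : Finset ℕ), ∀ d ∈ Finset.range 6,
    r ^ d ∣ 2 ^ 28 * 3 ^ 5 * 5 ^ 2 * 7 ^ 2 * 17 * 31 * 127 → ¬ 7 ∣ ∏ i : Fin d, (r ^ d - r ^ (i : ℕ)) := by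
  decide +kernel

/-- **Odd normal subgroups are trivial.** -/
theorem odd_eq_bot (hV : Nat.card V = 2 ^ 8) (hf : Function.Injective f) (hsq : ∀ v : V, v * v = 1) {z : V}
    (hz : z ≠ 1) (hzU : ∀ U : Subgroup V, U ≠ ⊥ → (∀ x : X, ∀ u ∈ U, f x u ∈ U) → z ∈ U) {R : Subgroup X}
    (hR : R.Normal) (hRo : Odd (Nat.card R)) (hC : ∀ C : Subgroup X, C.Normal → 7 ∣ C.index ∨ Odd C.index)
    {P : Subgroup X} (hP : IsPGroup 2 P) (hPR : ∀ x ∈ R, (∀ p ∈ P, p * x = x * p) → x = 1) : R = ⊥ := by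
  by_contra hR1
  have hRs : Group.IsSolvable ↥R := by
    apply Cfsg.Agent.SylowL5.TypeAGen.isSolvable_of_not_four_dvd
    intro h4
    obtain ⟨k, hk⟩ := hRo
    omega
  obtain ⟨r, Q, hr, hQ, hQR, hQ1, hQc, hQe⟩ := exists_elem hR hRs hR1
  have : Fact r.Prime := ⟨hr⟩
  have hQo : Odd (Nat.card Q) := hRo.of_dvd_nat (Subgroup.card_dvd_of_le hQR)
  have hQp : IsPGroup r ↥Q := fun x => ⟨1, by
    rw [pow_one]
    exact Subtype.ext (hQe x x.2)⟩
  have hfix : ∀ v : V, (∀ q ∈ Q, f q v = v) → v = 1 := fun v hv => fix_eq_one f hf hsq hz hzU hQ hQo hQ1 hv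
  -- `r ∣ 255`
  have hr255 : r ∣ 255 := by
    let _act : MulAction ↥Q V := MulAction.compHom V (f.comp Q.subtype)
    have h1 := hQp.card_modEq_card_fixedPoints V
    have h2 : Nat.card (MulAction.fixedPoints ↥Q V) = 1 := by
      rw [Nat.card_eq_one_iff_unique]
      refine ⟨⟨fun a b => ?_⟩, ⟨⟨1, fun q => map_one (f q)⟩⟩⟩
      apply Subtype.ext
      rw [hfix a (fun q hq => a.2 ⟨q, hq⟩), hfix b (fun q hq => b.2 ⟨q, hq⟩)]
    rw [h2, hV] at h1
    have h3 := (Nat.modEq_iff_dvd' (by norm_num : 1 ≤ 2 ^ 8)).1 h1.symm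
    norm_num at h3
    exact h3
  have hr3 : r = 3 ∨ r = 5 ∨ r = 17 := by
    have h1 : r ∈ Nat.divisors 255 := Nat.mem_divisors.2 ⟨hr255, by norm_num⟩
    have h2 : Nat.divisors 255 = {1, 3, 5, 15, 17, 51, 85, 255} := by decide +kernel
    rw [h2] at h1
    simp only [Finset.mem_insert, Finset.mem_singleton] at h1
    rcases h1 with rfl | rfl | rfl | rfl | rfl | rfl | rfl | rfl
    · exact absurd hr (by norm_num)
    · exact Or.inl rfl
    · exact Or.inr (Or.inl rfl)
    · exact absurd hr (by norm_num)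
    · exact Or.inr (Or.inr rfl)
    · exact absurd hr (by norm_num)
    · exact absurd hr (by norm_num)
    · exact absurd hr (by norm_num)
  -- the order of `Q`
  obtain ⟨d, hd⟩ := IsPGroup.iff_card.1 hQp
  have hdvd : r ^ d ∣ 2 ^ 28 * 3 ^ 5 * 5 ^ 2 * 7 ^ 2 * 17 * 31 * 127 := by
    rw [← hd, ← prod_eight, ← Cfsg.Agent.Transfer.ElemAbAut.card_mulAut (T := V) 2 8 mul_comm
      (fun x => by rw [pow_two]; exact hsq x) hV]
    exact (Subgroup.card_subgroup_dvd_card Q).trans (Subgroup.card_dvd_of_injective f hf)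
  have hd5 : d < 6 := by
    by_contra hcon
    push Not at hcon
    have h1 : r ^ 6 ∣ 2 ^ 28 * 3 ^ 5 * 5 ^ 2 * 7 ^ 2 * 17 * 31 * 127 := (pow_dvd_pow r hcon).trans hdvd
    rcases hr3 with rfl | rfl | rfl <;> norm_num at h1
  have h7 : ¬ 7 ∣ Nat.card (MulAut ↥Q) := by
    rw [Cfsg.Agent.Transfer.ElemAbAut.card_mulAut (T := ↥Q) r d (fun x y => Subtype.ext (hQc x x.2 y y.2))
      (fun x => Subtype.ext (hQe x x.2)) hd]
    refine not_seven r ?_ d (Finset.mem_range.2 hd5) hdvd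
    rcases hr3 with rfl | rfl | rfl <;> simp
  rcases hC (centralizer (Q : Set X)) inferInstance with h | h
  · apply h7
    refine h.trans ?_
    have h1 : (MulAut.conjNormal (H := Q)).ker = centralizer (Q : Set X) := by
      ext x
      rw [MonoidHom.mem_ker, mem_centralizer_iff]
      constructor
      · intro hx y hy
        have h2 := congrArg Subtype.val (DFunLike.congr_fun hx ⟨y, hy⟩)
        have h3 : x * y * x⁻¹ = y := h2
        exact (mul_inv_eq_iff_eq_mul.1 h3).symm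
      · intro hx
        ext y
        show x * (y : X) * x⁻¹ = y
        rw [← hx y y.2, mul_inv_cancel_right]
    rw [← h1, Subgroup.index_ker]
    exact Subgroup.card_subgroup_dvd_card _
  · -- `P ≤ C(Q)`
    have hPQ : P ≤ centralizer (Q : Set X) := by
      intro p hp
      have hcn : (centralizer (Q : Set X)).Normal := inferInstance
      obtain ⟨k, hk⟩ := hP ⟨p, hp⟩
      have h3 : p ^ 2 ^ k = 1 := congrArg Subtype.val hk
      rw [← QuotientGroup.eq_one_iff]
      have h4 : ((p : X ⧸ centralizer (Q : Set X))) ^ 2 ^ k = 1 := by rw [← QuotientGroup.mk_pow, h3]; rfl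
      have h5 : (p : X ⧸ centralizer (Q : Set X)) ^ (centralizer (Q : Set X)).index = 1 := pow_card_eq_one'
      have h6 : Nat.gcd (2 ^ k) (centralizer (Q : Set X)).index = 1 :=
        Nat.Coprime.pow_left _ (Nat.coprime_two_left.2 h)
      have h7 := pow_gcd_eq_one.2 ⟨h4, h5⟩
      rwa [h6, pow_one] at h7
    apply hQ1
    rw [eq_bot_iff]
    intro x hx
    rw [mem_bot]
    exact hPR x (hQR hx) (fun p hp => (mem_centralizer_iff.1 (hPQ hp) x hx).symm)

end

/-- the same for a group with commuting elements -/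
theorem odd_eq_bot' {V : Type*} [hVg : Group V] [Finite V] {X : Type*} [Group X] [Finite X] (f : X →* MulAut V)
    (hVc : ∀ a b : V, a * b = b * a) (hV : Nat.card V = 2 ^ 8) (hf : Function.Injective f) (hsq : ∀ v : V, v * v = 1)
    {z : V} (hz : z ≠ 1) (hzU : ∀ U : Subgroup V, U ≠ ⊥ → (∀ x : X, ∀ u ∈ U, f x u ∈ U) → z ∈ U) {R : Subgroup X}
    (hR : R.Normal) (hRo : Odd (Nat.card R)) (hC : ∀ C : Subgroup X, C.Normal → 7 ∣ C.index ∨ Odd C.index)
    {P : Subgroup X} (hP : IsPGroup 2 P) (hPR : ∀ x ∈ R, (∀ p ∈ P, p * x = x * p) → x = 1) : R = ⊥ := by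
  letI cg : CommGroup V := { hVg with mul_comm := hVc }
  exact odd_eq_bot f hV hf hsq hz hzU hR hRo hC hP hPR

end Cfsg.Agent.H302.Rv
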