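import Cfsg.Agent.H302.RvRone
import Cfsg.Agent.H302.RvMthree

/-!
# The normaliser of `T ∩ E` in `E` centralises `T ∩ E` (helper302)
-/

set_option autoImplicit false
set_option linter.style.haveILetI false
set_option linter.unnecessarySimpa false
set_option linter.unusedSectionVars false

namespace Cfsg.Agent.H302.Rv

open Subgroup

universe u

theorem norm_central {Y : Type u} [Group Y] [Finite Y] (T : Sylow 2 Y) (hSN : SN (T : Subgroup Y)) {E : Subgroup Y}
    (hE : E.Normal) {S : Type*} [Group S] [Finite S] (hS : IsSimpleGroup S) (g : Y →* S) (hg : Function.Surjective g)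
    (hgk : g.ker = E) (h7 : 7 ∣ Nat.card S) (hV : Nat.card ((T : Subgroup Y) ⊓ E : Subgroup Y) = 2 ^ 8)
    (hcomm : ∀ x ∈ (T : Subgroup Y) ⊓ E, ∀ y ∈ (T : Subgroup Y) ⊓ E, x * y = y * x)
    (hsq : ∀ x ∈ (T : Subgroup Y) ⊓ E, x ^ 2 = 1) {z : Y} (hz : z ≠ 1)
    (hzU : ∀ U : Subgroup Y, U ≤ (T : Subgroup Y) ⊓ E → U ≠ ⊥ → (∀ t ∈ (T : Subgroup Y), ∀ u ∈ U, t * u * t⁻¹ ∈ U) →
      z ∈ U) {y : Y} (hyE : y ∈ E) (hyN : y ∈ normalizer (((T : Subgroup Y) ⊓ E : Subgroup Y) : Set Y)) :
    ∀ x ∈ (T : Subgroup Y) ⊓ E, x * y = y * x := by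
  have : Fact (Nat.Prime 2) := ⟨Nat.prime_two⟩
  set V : Subgroup Y := (T : Subgroup Y) ⊓ E with hVd
  set N : Subgroup Y := normalizer (V : Set Y) with hN
  have hVE : V ≤ E := inf_le_right
  have hVT : V ≤ (T : Subgroup Y) := inf_le_left
  have hVN : V ≤ N := le_normalizer
  have hTN : (T : Subgroup Y) ≤ N := by
    intro t ht
    rw [hN, mem_normalizer_iff]
    intro x
    constructor
    · intro hx
      obtain ⟨h1, h2⟩ := mem_inf.1 hx
      exact mem_inf.2 ⟨mul_mem (mul_mem ht h1) (inv_mem ht), hE.conj_mem x h2 t⟩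
    · intro hx
      obtain ⟨h1, h2⟩ := mem_inf.1 hx
      have e : x = t⁻¹ * (t * x * t⁻¹) * t⁻¹⁻¹ := by group
      refine mem_inf.2 ⟨?_, ?_⟩
      · rw [e]; exact mul_mem (mul_mem (inv_mem ht) h1) (inv_mem (inv_mem ht))
      · rw [e]; exact hE.conj_mem _ h2 t⁻¹
  obtain ⟨α, hα⟩ : ∃ α : ↥N →* MulAut ↥V, ∀ (n : ↥N) (v : ↥V), ((α n v : ↥V) : Y) = n * v * (n : Y)⁻¹ :=
    ⟨V.normalizerMonoidHom, fun n v => rfl⟩
  obtain ⟨β, hβd, hβ⟩ : ∃ β : ↥N →* ↥α.range, (∀ n, ((β n : ↥α.range) : MulAut ↥V) = α n) ∧ Function.Surjective β :=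
    ⟨α.rangeRestrict, fun n => rfl, α.rangeRestrict_surjective⟩
  have hβk : ∀ n, β n = 1 ↔ α n = 1 := fun n => by
    rw [← hβd n]
    exact ⟨fun h => by rw [h]; rfl, fun h => Subtype.ext h⟩
  -- the kernel contains `V`
  have hker : ∀ n : ↥N, (∀ v ∈ V, (n : Y) * v = v * n) → α n = 1 := by
    intro n hn
    ext v
    rw [hα]
    show (n : Y) * v * (n : Y)⁻¹ = v
    rw [hn v v.2, mul_inv_cancel_right]
  have hVker : V.subgroupOf N ≤ β.ker := by
    intro n hn
    rw [MonoidHom.mem_ker, hβk]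
    exact hker n (fun v hv => hcomm _ hn v hv)
  obtain ⟨K, hK⟩ : ∃ K : Subgroup ↥N, K = E.subgroupOf N := ⟨_, rfl⟩
  have hKn : K.Normal := by rw [hK]; infer_instance
  obtain ⟨R, hR⟩ : ∃ R : Subgroup ↥α.range, R = K.map β := ⟨_, rfl⟩
  have hRn : R.Normal := by rw [hR]; exact hKn.map _ hβ
  have hVKodd : Odd ((V.subgroupOf N).relIndex K) := by
    have h1 : (V.subgroupOf N).relIndex K = V.relIndex (E ⊓ N) := by
      rw [hK, ← inf_subgroupOf_right E N, relIndex_subgroupOf inf_le_right]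
    have h2 : V.relIndex (E ⊓ N) ∣ V.relIndex E := by
      rw [← Subgroup.relIndex_mul_relIndex V (E ⊓ N) E (le_inf hVE hVN) inf_le_left]
      exact Dvd.intro _ rfl
    have h3 : V.relIndex E ∣ (T : Subgroup Y).index := by
      rw [hVd, Subgroup.inf_relIndex_right]
      exact Cfsg.Agent.SignalizersComponents.PCompCore.relIndex_dvd_index_of_subnormal (T : Subgroup Y)
        (show E.IsSubnormal from hE.isSubnormal)
    rw [h1]
    have h4 : ¬ 2 ∣ V.relIndex (E ⊓ N) := fun h => T.not_dvd_index (h.trans (h2.trans h3))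
    exact Nat.odd_iff.2 (by omega)
  have hRo : Odd (Nat.card R) := by
    rw [hR, ← Subgroup.relIndex_ker]
    exact hVKodd.of_dvd_nat (Subgroup.relIndex_dvd_of_le_left K hVker)
  -- Frattini
  let g' : ↥N →* S := g.comp N.subtype
  have hg' : Function.Surjective g' := by
    obtain ⟨Q, hQ⟩ := Cfsg.Agent.SylowL.CompFacts.exists_sylow T (show E.IsSubnormal from hE.isSubnormal)
    have h1 := Sylow.normalizer_sup_eq_top Q
    have h2 : (Q : Subgroup ↥E).map E.subtype = V := by
      rw [hQ, hVd, subgroupOf_map_subtype]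
    rw [h2] at h1
    intro s
    obtain ⟨w, rfl⟩ := hg s
    have hw : w ∈ N ⊔ E := by rw [hN, h1]; exact mem_top _
    rw [← SetLike.mem_coe, mul_normal] at hw
    obtain ⟨n, hn, c, hc, hnc⟩ := hw
    refine ⟨⟨n, hn⟩, ?_⟩
    show g n = g w
    have h3 : g c = 1 := by
      have : c ∈ g.ker := by rw [hgk]; exact hc
      exact this
    have h4 : w = n * c := hnc.symm
    rw [h4, map_mul, h3, mul_one]
  have hg'k : g'.ker = K := by
    ext n
    show g n = 1 ↔ _
    rw [← MonoidHom.mem_ker, hgk, hK]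
    exact mem_subgroupOf.symm
  -- the dichotomy
  have hC : ∀ C : Subgroup ↥α.range, C.Normal → 7 ∣ C.index ∨ Odd C.index := by
    intro C hCn
    have h1 : (C.comap β).index = C.index := Subgroup.index_comap_of_surjective C hβ
    have h2 : (C.comap β).Normal := inferInstance
    have h3 : ((C.comap β).map g').Normal := h2.map _ hg'
    have hs := hS
    rcases h3.eq_bot_or_eq_top with h4 | h4
    · left
      rw [← h1]
      refine h7.trans ?_
      have h5 : C.comap β ≤ g'.ker := (Subgroup.map_eq_bot_iff _).1 h4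
      have h6 : Nat.card S = g'.ker.index := by
        rw [Subgroup.index_ker, MonoidHom.range_eq_top.2 hg', Subgroup.card_top]
      rw [h6]
      exact Subgroup.index_dvd_of_le h5
    · right
      rw [← h1]
      have h5 : K ⊔ C.comap β = ⊤ := by
        have h6 := congrArg (Subgroup.comap g') h4
        rw [Subgroup.comap_map_eq, hg'k, Subgroup.comap_top, sup_comm] at h6
        exact h6
      have h6 : (C.comap β).index = (C.comap β).relIndex K := by
        rw [← relIndex_top_right, ← h5, relIndex_sup_right]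
      rw [h6]
      have h7 : (C.comap β).relIndex K ∣ β.ker.relIndex K := by
        apply Subgroup.relIndex_dvd_of_le_left
        intro x hx
        rw [mem_comap, (show β x = 1 from hx)]
        exact one_mem _
      rw [Subgroup.relIndex_ker, ← hR] at h7
      exact hRo.of_dvd_nat h7
  obtain ⟨T', hT'⟩ : ∃ T' : Sylow 2 ↥N, (T' : Subgroup ↥N) = (T : Subgroup Y).subgroupOf N := ⟨T.subtype hTN, rfl⟩
  have hT'm : ∀ x : ↥N, x ∈ (T' : Subgroup ↥N) ↔ (x : Y) ∈ (T : Subgroup Y) := fun x => by rw [hT', mem_subgroupOf]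
  have hP : IsPGroup 2 ↥((T' : Subgroup ↥N).map β) := T'.2.map β
  -- elements commuting with `P`
  have hPR : ∀ x ∈ R, (∀ p ∈ (T' : Subgroup ↥N).map β, p * x = x * p) → x = 1 := by
    intro x' hx' hcx
    have hx'R := hx'
    rw [hR] at hx'
    obtain ⟨x, hx, rfl⟩ := hx'
    have hkn : β.ker.Normal := inferInstance
    have hxb : QuotientGroup.mk' β.ker x ∈ normalizer (((T' : Subgroup ↥N).map (QuotientGroup.mk' β.ker) : Subgroup _) : Set _) := by
      have h1 : QuotientGroup.mk' β.ker x ∈ centralizer (((T' : Subgroup ↥N).map (QuotientGroup.mk' β.ker) : Subgroup _) : Set _) := by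
        rw [mem_centralizer_iff]
        rintro _ ⟨t, ht, rfl⟩
        rw [← commutatorElement_eq_one_iff_mul_comm, ← map_commutatorElement]
        refine (QuotientGroup.eq_one_iff _).2 ?_
        rw [MonoidHom.mem_ker, map_commutatorElement, commutatorElement_eq_one_iff_mul_comm]
        exact hcx _ ⟨t, ht, rfl⟩
      exact centralizer_le_normalizer _ h1
    obtain ⟨n, hn, hnx⟩ := Cfsg.Agent.H24.Fus.exists_normalizer T' β.ker hxb
    have hnx' : ((n * x : ↥N) : Y) ∈ normalizer ((T : Subgroup Y) : Set Y) := by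
      rw [mem_normalizer_iff]
      intro t
      constructor
      · intro ht
        have h1 := (mem_normalizer_iff.1 hnx ⟨t, hTN ht⟩).1 ((hT'm _).2 ht)
        exact (hT'm _).1 h1
      · intro ht
        have h0 : t ∈ N := by
          have h1 := mul_mem (mul_mem (inv_mem (n * x : ↥N).2) (hTN ht)) (n * x : ↥N).2
          have e : ((n * x : ↥N) : Y)⁻¹ * (((n * x : ↥N) : Y) * t * ((n * x : ↥N) : Y)⁻¹) * ((n * x : ↥N) : Y) = t := by
            group
          rwa [e] at h1
        have h1 := (mem_normalizer_iff.1 hnx ⟨t, h0⟩).2 ((hT'm _).2 ht)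
        exact (hT'm _).1 h1
    obtain ⟨a, ha, b, hb, hab⟩ := hSN _ hnx'
    have hbN : b ∈ N := by
      have e : b = a⁻¹ * ((n * x : ↥N) : Y) := by rw [hab]; group
      rw [e]
      exact mul_mem (inv_mem (hTN ha)) (n * x : ↥N).2
    have hβb : β ⟨b, hbN⟩ = 1 := by
      rw [hβk]
      exact hker _ (fun v hv => (mem_centralizer_iff.1 hb v (hVT hv)).symm)
    have hβx : β x = β ⟨a, hTN ha⟩ := by
      have h1 : (n * x : ↥N) = ⟨a, hTN ha⟩ * ⟨b, hbN⟩ := Subtype.ext hab
      have h2 := congrArg β h1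
      rw [map_mul, map_mul, (show β n = 1 from hn), one_mul, hβb, mul_one] at h2
      exact h2
    obtain ⟨k, hk⟩ := T.2 ⟨a, ha⟩
    have h3 : a ^ 2 ^ k = 1 := congrArg Subtype.val hk
    have h4 : β x ^ 2 ^ k = 1 := by
      rw [hβx, ← map_pow]
      have : (⟨a, hTN ha⟩ : ↥N) ^ 2 ^ k = 1 := Subtype.ext h3
      rw [this, map_one]
    have h5 : β x ^ Nat.card R = 1 := by
      have h6 : (⟨β x, hx'R⟩ : ↥R) ^ Nat.card R = 1 := pow_card_eq_one'
      exact congrArg Subtype.val h6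
    have h6 : Nat.gcd (2 ^ k) (Nat.card R) = 1 := Nat.Coprime.pow_left _ (Nat.coprime_two_left.2 hRo)
    have h7 := pow_gcd_eq_one.2 ⟨h4, h5⟩
    rwa [h6, pow_one] at h7
  -- the element `z`
  have hVne : V ≠ ⊥ := by
    intro h
    rw [h, Subgroup.card_bot] at hV
    norm_num at hV
  have hzV : z ∈ V := hzU V le_rfl hVne (fun t ht u hu => (mem_normalizer_iff.1 (hTN ht) u).1 hu)
  have hmain := odd_eq_bot' (V := ↥V) (X := ↥α.range) α.range.subtype
    (fun x y => Subtype.ext (hcomm x x.2 y y.2)) hV α.range.subtype_injective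
    (fun v => Subtype.ext (by rw [← pow_two]; exact hsq v v.2)) (z := ⟨z, hzV⟩)
    (fun h => hz (congrArg Subtype.val h)) (by
      intro U hU hUx
      have h1 : z ∈ U.map V.subtype := by
        apply hzU
        · rintro _ ⟨u, -, rfl⟩
          exact u.2
        · intro h
          apply hU
          rw [Subgroup.map_eq_bot_iff, ker_subtype, le_bot_iff] at h
          exact h
        · rintro t ht _ ⟨u, hu, rfl⟩
          exact ⟨α ⟨t, hTN ht⟩ u, hUx ⟨α ⟨t, hTN ht⟩, ⟨t, hTN ht⟩, rfl⟩ u hu, hα _ _⟩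
      obtain ⟨u, hu, huz⟩ := h1
      have h2 : u = ⟨z, hzV⟩ := Subtype.ext huz
      rwa [← h2]) hRn hRo hC hP hPR
  -- conclusion
  have hy1 : β ⟨y, hyN⟩ = 1 := by
    have h1 : β ⟨y, hyN⟩ ∈ R := by
      rw [hR, hK]
      exact ⟨⟨y, hyN⟩, mem_subgroupOf.2 hyE, rfl⟩
    rw [hmain, mem_bot] at h1
    exact h1
  intro x hx
  have h1 := congrArg Subtype.val (DFunLike.congr_fun ((hβk _).1 hy1) ⟨x, hx⟩)
  rw [hα] at h1
  have h2 : y * x * y⁻¹ = x := h1
  exact (mul_inv_eq_iff_eq_mul.1 h2).symm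

end Cfsg.Agent.H302.Rv
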