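import Cfsg.Prelude.Def_Transfer
import Cfsg.Agent.H302.M24Syl

/-!
# Structure of `UT_5(2)` modulo its centre (helper302)

`pA`, `pI`, `pK`, `pM` : the codes of the subgroups `A` (abelian of order 64), `I = [A, S]`, `K = Z(S)`,
`M = ⟨I, x24⟩`.
-/

set_option autoImplicit false

namespace Cfsg.Agent.H302

open Subgroup

/-- the abelian subgroup of order 64 -/
def pA (v : V) : Bool := (!v.a23 && !v.a34) && !v.a24
/-- `[A, S]` -/
def pI (v : V) : Bool := pA v && (!v.a12 && !v.a45)
/-- the centre -/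
def pK (v : V) : Bool := pI v && (!v.a13 && !v.a35)
/-- `⟨I, x24⟩` -/
def pM (v : V) : Bool := (!v.a23 && !v.a34) && (!v.a12 && !v.a45)

/-- the inverse -/
def iv (a : V) : V where
  a12 := a.a12
  a23 := a.a23
  a34 := a.a34
  a45 := a.a45
  a13 := a.a13 ^^ (a.a12 && a.a23)
  a24 := a.a24 ^^ (a.a23 && a.a34)
  a35 := a.a35 ^^ (a.a34 && a.a45)
  a14 := a.a14 ^^ ((a.a13 && a.a34) ^^ (a.a12 && (a.a24 ^^ (a.a23 && a.a34))))
  a25 := a.a25 ^^ ((a.a24 && a.a45) ^^ (a.a23 && (a.a35 ^^ (a.a34 && a.a45))))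

theorem mul_iv (a : V) : mul a (iv a) = one := by
  obtain ⟨s12, s23, s34, s45, s13, s24, s35, s14, s25⟩ := a
  apply V.ext' <;> simp [mul, iv, one]

theorem mul_one' (a : V) : mul a one = a := by
  obtain ⟨s12, s23, s34, s45, s13, s24, s35, s14, s25⟩ := a
  apply V.ext' <;> simp [mul, one]

theorem one_mul' (a : V) : mul one a = a := by
  obtain ⟨s12, s23, s34, s45, s13, s24, s35, s14, s25⟩ := a
  apply V.ext' <;> simp [mul, one]

theorem pA_iff {v : V} : pA v = true ↔ v.a23 = false ∧ v.a34 = false ∧ v.a24 = false := by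
  simp [pA, and_assoc]

theorem pI_iff {v : V} : pI v = true ↔ v.a23 = false ∧ v.a34 = false ∧ v.a24 = false ∧ v.a12 = false ∧
    v.a45 = false := by
  simp [pI, pA, and_assoc]

theorem pK_iff {v : V} : pK v = true ↔ v.a23 = false ∧ v.a34 = false ∧ v.a24 = false ∧ v.a12 = false ∧
    v.a45 = false ∧ v.a13 = false ∧ v.a35 = false := by
  simp [pK, pI, pA, and_assoc]

theorem pM_iff {v : V} : pM v = true ↔ v.a23 = false ∧ v.a34 = false ∧ v.a12 = false ∧ v.a45 = false := by
  simp [pM, and_assoc]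

section
variable {G : Type*} [Group G] {S : Subgroup G} {u : V → G}

namespace Emb

theorem one (h : Emb S u) : u H302.one = 1 := by
  have h1 := h.mul H302.one H302.one
  rw [mul_one'] at h1
  exact left_eq_mul.1 h1

theorem inv (h : Emb S u) (a : V) : (u a)⁻¹ = u (iv a) := by
  apply inv_eq_of_mul_eq_one_right
  rw [← h.mul, mul_iv, h.one]

theorem comm (h : Emb S u) (s a : V) : u s * u a * (u s)⁻¹ * (u a)⁻¹ = u (cm s a) := by
  have h1 := congrArg u (mul_cm s a)
  rw [h.mul, h.mul, h.mul] at h1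
  rw [← h1]
  group

/-- the subgroup of the elements whose codes satisfy `p` -/
def sub (h : Emb S u) (p : V → Bool) (h1 : p H302.one = true) (hm : ∀ a b, p a = true → p b = true →
    p (H302.mul a b) = true) (hi : ∀ a, p a = true → p (iv a) = true) : Subgroup G where
  carrier := {g | ∃ a, p a = true ∧ u a = g}
  one_mem' := ⟨H302.one, h1, h.one⟩
  mul_mem' := by
    rintro _ _ ⟨a, ha, rfl⟩ ⟨b, hb, rfl⟩
    exact ⟨_, hm a b ha hb, h.mul a b⟩
  inv_mem' := by
    rintro _ ⟨a, ha, rfl⟩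
    exact ⟨_, hi a ha, (h.inv a).symm⟩

theorem commute_iff (h : Emb S u) (s a : V) : u s * u a = u a * u s ↔ H302.mul s a = H302.mul a s := by
  rw [← h.mul, ← h.mul]
  exact ⟨fun h1 => h.inj h1, fun h1 => by rw [h1]⟩

theorem card (h : Emb S u) : Nat.card S = 512 := by
  rw [← V.card_V, ← Nat.card_eq_fintype_card]
  symm
  refine Nat.card_congr (Equiv.ofBijective (fun a => (⟨u a, h.mem a⟩ : S)) ⟨?_, ?_⟩)
  · intro a b hab
    exact h.inj (congrArg Subtype.val hab)
  · rintro ⟨g, hg⟩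
    obtain ⟨a, rfl⟩ := h.surj g hg
    exact ⟨a, rfl⟩

end Emb

theorem pA_one : pA one = true := by decide
theorem pA_mul (a b : V) (ha : pA a = true) (hb : pA b = true) : pA (mul a b) = true := by
  rw [pA_iff] at *
  obtain ⟨h1, h2, h3⟩ := ha
  obtain ⟨k1, k2, k3⟩ := hb
  simp [mul, h1, h2, h3, k1, k2, k3]
theorem pA_iv (a : V) (ha : pA a = true) : pA (iv a) = true := by
  rw [pA_iff] at *
  obtain ⟨h1, h2, h3⟩ := ha
  simp [iv, h1, h2, h3]

theorem pI_one : pI one = true := by decide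
theorem pI_mul (a b : V) (ha : pI a = true) (hb : pI b = true) : pI (mul a b) = true := by
  rw [pI_iff] at *
  obtain ⟨h1, h2, h3, h4, h5⟩ := ha
  obtain ⟨k1, k2, k3, k4, k5⟩ := hb
  simp [mul, h1, h2, h3, k1, k2, k3, h4, h5, k4, k5]
theorem pI_iv (a : V) (ha : pI a = true) : pI (iv a) = true := by
  rw [pI_iff] at *
  obtain ⟨h1, h2, h3, h4, h5⟩ := ha
  simp [iv, h1, h2, h3, h4, h5]

theorem pK_one : pK one = true := by decide
theorem pK_mul (a b : V) (ha : pK a = true) (hb : pK b = true) : pK (mul a b) = true := by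
  rw [pK_iff] at *
  obtain ⟨h1, h2, h3, h4, h5, h6, h7⟩ := ha
  obtain ⟨k1, k2, k3, k4, k5, k6, k7⟩ := hb
  simp [mul, h1, h2, h3, k1, k2, k3, h4, h5, k4, k5, h6, h7, k6, k7]
theorem pK_iv (a : V) (ha : pK a = true) : pK (iv a) = true := by
  rw [pK_iff] at *
  obtain ⟨h1, h2, h3, h4, h5, h6, h7⟩ := ha
  simp [iv, h1, h2, h3, h4, h5, h6, h7]

theorem pM_one : pM one = true := by decide
theorem pM_mul (a b : V) (ha : pM a = true) (hb : pM b = true) : pM (mul a b) = true := by
  rw [pM_iff] at *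
  obtain ⟨h1, h2, h3, h4⟩ := ha
  obtain ⟨k1, k2, k3, k4⟩ := hb
  simp [mul, h1, h2, h3, k1, k2, k3, h4, k4]
theorem pM_iv (a : V) (ha : pM a = true) : pM (iv a) = true := by
  rw [pM_iff] at *
  obtain ⟨h1, h2, h3, h4⟩ := ha
  simp [iv, h1, h2, h3, h4]

/-- the subgroup `A` -/
def Emb.A (h : Emb S u) : Subgroup G := h.sub pA pA_one pA_mul pA_iv
/-- the subgroup `I` -/
def Emb.I (h : Emb S u) : Subgroup G := h.sub pI pI_one pI_mul pI_iv
/-- the subgroup `K` -/
def Emb.K (h : Emb S u) : Subgroup G := h.sub pK pK_one pK_mul pK_iv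
/-- the subgroup `M` -/
def Emb.M (h : Emb S u) : Subgroup G := h.sub pM pM_one pM_mul pM_iv

theorem Emb.mem_A (h : Emb S u) {a : V} : u a ∈ h.A ↔ pA a = true :=
  ⟨fun ⟨_, hb, hb'⟩ => h.inj hb' ▸ hb, fun ha => ⟨a, ha, rfl⟩⟩
theorem Emb.mem_I (h : Emb S u) {a : V} : u a ∈ h.I ↔ pI a = true :=
  ⟨fun ⟨_, hb, hb'⟩ => h.inj hb' ▸ hb, fun ha => ⟨a, ha, rfl⟩⟩
theorem Emb.mem_K (h : Emb S u) {a : V} : u a ∈ h.K ↔ pK a = true :=
  ⟨fun ⟨_, hb, hb'⟩ => h.inj hb' ▸ hb, fun ha => ⟨a, ha, rfl⟩⟩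
theorem Emb.mem_M (h : Emb S u) {a : V} : u a ∈ h.M ↔ pM a = true :=
  ⟨fun ⟨_, hb, hb'⟩ => h.inj hb' ▸ hb, fun ha => ⟨a, ha, rfl⟩⟩

theorem Emb.A_le (h : Emb S u) : h.A ≤ S := by
  rintro _ ⟨a, -, rfl⟩
  exact h.mem a

theorem mul_self_A (a : V) (ha : pA a = true) : mul a a = one := by
  rw [pA_iff] at ha
  obtain ⟨h1, h2, h3⟩ := ha
  apply V.ext' <;> simp [mul, h1, h2, h3, H302.one]

theorem mul_comm_A (a b : V) (ha : pA a = true) (hb : pA b = true) : mul a b = mul b a := by
  rw [pA_iff] at ha hb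
  obtain ⟨h1, h2, h3⟩ := ha
  obtain ⟨k1, k2, k3⟩ := hb
  apply V.ext' <;> simp [mul, h1, h2, h3, k1, k2, k3, Bool.xor_comm]

theorem Emb.A_comm (h : Emb S u) : IsMulCommutative h.A := by
  constructor
  constructor
  rintro ⟨_, a, ha, rfl⟩ ⟨_, b, hb, rfl⟩
  apply Subtype.ext
  change u a * u b = u b * u a
  rw [h.commute_iff]
  exact mul_comm_A a b ha hb

theorem Emb.A_elem (h : Emb S u) : Cfsg.IsElementaryAbelian 2 h.A := by
  refine ⟨h.A_comm, ?_⟩
  rintro _ ⟨a, ha, rfl⟩
  rw [pow_two, ← h.mul, mul_self_A a ha, h.one]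

theorem card_pA : Fintype.card {v : V // pA v = true} = 64 := by
  have e : {v : V // pA v = true} ≃ (Bool × Bool × Bool) × (Bool × Bool × Bool) :=
    { toFun := fun v => ((v.1.a12, v.1.a45, v.1.a13), (v.1.a35, v.1.a14, v.1.a25))
      invFun := fun w => ⟨⟨w.1.1, false, false, w.1.2.1, w.1.2.2, false, w.2.1, w.2.2.1, w.2.2.2⟩, rfl⟩
      left_inv := by
        rintro ⟨v, hv⟩
        rw [pA_iff] at hv
        obtain ⟨h1, h2, h3⟩ := hv
        apply Subtype.ext
        apply V.ext' <;> simp [h1, h2, h3]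
      right_inv := fun w => rfl }
  rw [Fintype.card_congr e]
  simp

theorem Emb.card_A (h : Emb S u) : Nat.card h.A = 64 := by
  rw [← card_pA, ← Nat.card_eq_fintype_card]
  symm
  refine Nat.card_congr (Equiv.ofBijective (fun a => (⟨u a.1, a.1, a.2, rfl⟩ : h.A)) ⟨?_, ?_⟩)
  · intro a b hab
    exact Subtype.ext (h.inj (congrArg Subtype.val hab))
  · rintro ⟨_, a, ha, rfl⟩
    exact ⟨⟨a, ha⟩, rfl⟩

/-- transport -/
theorem Emb.of_equiv {G' : Type*} [Group G'] {S' : Subgroup G'} (h : Emb S u) (e : S ≃* S') :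
    Emb S' (fun a => (e ⟨u a, h.mem a⟩ : G')) := by
  refine ⟨?_, ?_, fun a => (e _).2, ?_⟩
  · intro a b
    rw [← Subgroup.coe_mul, ← map_mul]
    congr 2
    exact Subtype.ext (h.mul a b)
  · intro a b hab
    have h1 := e.injective (Subtype.ext hab)
    exact h.inj (congrArg Subtype.val h1)
  · intro g hg
    obtain ⟨⟨t, ht⟩, ht'⟩ := e.surjective ⟨g, hg⟩
    obtain ⟨a, rfl⟩ := h.surj t ht
    exact ⟨a, congrArg Subtype.val ht'⟩

end

/-! ### The centre of `UT_5(2)` -/

section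
variable {Q : Type*} [Group Q] {u : V → Bool → Q}

theorem ct_one (a : V) : ct a one = false := by simp [ct, one]
theorem one_ct (a : V) : ct one a = false := by simp [ct, one]

theorem Cod.mul_z (h : Cod Q u) (a : V) (p : Bool) : u a p = u a false * u one p := by
  rw [← h.mul, mul_one', ct_one]
  simp

theorem Cod.z_mul (h : Cod Q u) (a : V) (p : Bool) : u a p = u one p * u a false := by
  rw [← h.mul, one_mul', one_ct]
  simp

theorem Cod.one (h : Cod Q u) : u H302.one false = 1 := by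
  have h1 := h.mul H302.one H302.one false false
  rw [mul_one', ct_one] at h1
  exact left_eq_mul.1 h1

theorem xor_cancel {a b : Bool} (h : (a ^^ b) = a) : b = false := by
  revert a b
  decide

theorem Cod.mem_center (h : Cod Q u) (a : V) (p : Bool) : u a p ∈ center Q ↔ a = H302.one := by
  rw [mem_center_iff]
  constructor
  · intro h1
    have key : ∀ (b : V) (q : Bool), H302.mul b a = H302.mul a b ∧ ct b a = ct a b := by
      intro b q
      have h2 := h1 (u b q)
      rw [← h.mul, ← h.mul] at h2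
      have h3 := h.inj h2
      refine ⟨h3.1, ?_⟩
      have h4 := h3.2
      rw [Bool.xor_comm q p] at h4
      exact (Bool.xor_right_inj).1 h4
    have e1 := key ⟨true, false, false, false, false, false, false, false, false⟩ false
    have e2 := key ⟨false, true, false, false, false, false, false, false, false⟩ false
    have e3 := key ⟨false, false, true, false, false, false, false, false, false⟩ false
    have e4 := key ⟨false, false, false, true, false, false, false, false, false⟩ false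
    have f1 : a.a23 = false := xor_cancel (by simpa [H302.mul] using congrArg V.a13 e1.1)
    have f2 : a.a24 = false := xor_cancel (by simpa [H302.mul] using congrArg V.a14 e1.1)
    have f3 : a.a25 = false := by simpa [ct] using e1.2
    have f4 : a.a34 = false := xor_cancel (by simpa [H302.mul] using (congrArg V.a35 e4.1).symm)
    have f5 : a.a14 = false := by simpa [ct] using e4.2.symm
    have f6 : a.a35 = false := xor_cancel (by simpa [H302.mul] using congrArg V.a25 e2.1)
    have f7 : a.a12 = false := xor_cancel (by simpa [H302.mul] using (congrArg V.a13 e2.1).symm)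
    have f8 : a.a45 = false := xor_cancel (by simpa [H302.mul] using congrArg V.a35 e3.1)
    have f9 : a.a13 = false := xor_cancel (by simpa [H302.mul] using (congrArg V.a14 e3.1).symm)
    exact V.ext' f7 f1 f4 f8 f9 f2 f6 f5 f3
  · rintro rfl g
    obtain ⟨b, q, rfl⟩ := h.surj g
    rw [← h.mul, ← h.mul, mul_one', one_mul', ct_one, one_ct, Bool.xor_comm q p]

theorem Cod.emb (h : Cod Q u) : Emb (⊤ : Subgroup (Q ⧸ center Q)) (fun a => (u a false : Q ⧸ center Q)) := by
  refine ⟨?_, ?_, fun _ => mem_top _, ?_⟩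
  · intro a b
    rw [← QuotientGroup.mk_mul, ← h.mul, QuotientGroup.eq, h.mul_z (H302.mul a b) (_ ^^ _),
      inv_mul_cancel_left, h.mem_center]
  · intro a b hab
    rw [QuotientGroup.eq] at hab
    obtain ⟨c, r, hc⟩ := h.surj ((u a false)⁻¹ * u b false)
    rw [← hc, h.mem_center] at hab
    rw [hab, eq_inv_mul_iff_mul_eq, ← h.mul_z] at hc
    exact (h.inj hc).1
  · intro g _
    obtain ⟨x, rfl⟩ := QuotientGroup.mk_surjective g
    obtain ⟨a, p, rfl⟩ := h.surj x
    refine ⟨a, ?_⟩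
    rw [QuotientGroup.eq, h.mul_z a p, inv_mul_cancel_left, h.mem_center]

end

/-- coordinates on the quotient of a Sylow 2-subgroup of `M24` by its centre -/
theorem exists_emb_quot (P : Sylow 2 Cfsg.M24) :
    ∃ u : V → (P : Subgroup Cfsg.M24) ⧸ center (P : Subgroup Cfsg.M24), Emb ⊤ u := by
  obtain ⟨u, hu⟩ := exists_cod P
  exact ⟨_, hu.emb⟩

end Cfsg.Agent.H302
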